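import Cfsg.Agent.Lib.DoubleCoverDeg.Pair
import Cfsg.Agent.Lib.AlperinRankTwo.Simple
import Cfsg.Agent.Lib.SuzRecog.Whole

/-!
The involutions of the double cover and their fusion in a simple group.
-/

set_option autoImplicit false
set_option linter.style.haveILetI false

namespace Cfsg.Agent.DoubleCoverDeg

open Cfsg Equiv

universe u

section Perms

variable {n : ℕ} {σ : Perm (Fin n)}

/-- The support of an even involution has cardinality divisible by four. -/
theorem four_dvd_support (hσ : σ * σ = 1) (h1 : σ ≠ 1) (hs : Perm.sign σ = 1) : 4 ∣ σ.support.card := by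
  have ho : orderOf σ = 2 := orderOf_eq_prime (by rw [pow_two, hσ]) h1
  obtain ⟨k, hk⟩ := Perm.cycleType_prime_order (σ := σ) (by rw [ho]; exact Nat.prime_two)
  rw [ho] at hk
  have hsum : σ.support.card = 2 * (k + 1) := by
    rw [← Perm.sum_cycleType, hk, Multiset.sum_replicate, smul_eq_mul, Nat.mul_comm]
  rw [Perm.sign_of_cycleType, hk, Multiset.sum_replicate, Multiset.card_replicate, smul_eq_mul] at hs
  rcases Nat.even_or_odd (k + 1) with ⟨r, hr⟩ | ⟨r, hr⟩
  · exact ⟨r, by omega⟩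
  · exfalso
    rw [show (k + 1) * 2 + (k + 1) = 2 * (3 * r + 1) + 1 by omega, pow_succ, pow_mul] at hs
    simp at hs

/-- An involution moving four points is a double transposition. -/
theorem dbl_of_card_four (hσ : σ * σ = 1) (h4 : σ.support.card = 4) : IsDbl σ := by
  classical
  obtain ⟨i, hi, -⟩ := exists_moved hσ [] (by rw [List.length_nil]; omega)
  obtain ⟨j, hj, hij⟩ := exists_moved hσ [i] (by simp; omega)
  have hij := hij i (by simp)
  simp only [Near, not_or] at hij
  have hd : [i, σ i, j, σ j].Nodup := by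
    simp only [List.nodup_cons, List.mem_cons, List.not_mem_nil, or_false, not_or]
    exact ⟨⟨hi.symm, Ne.symm hij.1, fun e => hij.2 (by rw [e, apply_apply hσ])⟩,
      ⟨Ne.symm hij.2, fun e => hij.1 (σ.injective e).symm⟩, hj.symm, not_false, List.nodup_nil⟩
  refine ⟨i, σ i, j, σ j, hd, ?_⟩
  have hsupp : ({i, σ i, j, σ j} : Finset (Fin n)) = σ.support := by
    refine Finset.eq_of_subset_of_card_le ?_ ?_
    · intro x hx
      simp only [Finset.mem_insert, Finset.mem_singleton] at hx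
      rw [Perm.mem_support]
      rcases hx with rfl | rfl | rfl | rfl
      exacts [hi, moved_apply hσ hi, hj, moved_apply hσ hj]
    · rw [h4]
      refine le_of_eq ?_
      rw [show ({i, σ i, j, σ j} : Finset (Fin n)) = [i, σ i, j, σ j].toFinset by simp,
        List.toFinset_card_of_nodup hd]
      rfl
  refine Equiv.ext fun x => ?_
  have e1 := apply_apply hσ i; have e2 := apply_apply hσ j
  have hx : x = i ∨ x = σ i ∨ x = j ∨ x = σ j ∨ σ x = x := by
    by_cases h : σ x = x
    · tauto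
    · have := Perm.mem_support.2 h
      rw [← hsupp] at this
      simp only [Finset.mem_insert, Finset.mem_singleton] at this
      tauto
  simp only [Perm.mul_apply, swap_apply_def]
  grind

/-- Involutions with supports of one size are conjugate by an even permutation. -/
theorem invol_conj {τ : Perm (Fin n)} (hσ : σ * σ = 1) (hτ : τ * τ = 1) (h1 : σ ≠ 1)
    (hc : σ.support.card = τ.support.card) : ∃ g : Perm (Fin n), Perm.sign g = 1 ∧ g * σ * g⁻¹ = τ := by
  have h2 : τ ≠ 1 := fun e => h1 (by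
    rw [e, Perm.support_one, Finset.card_empty, Finset.card_eq_zero, Perm.support_eq_empty_iff] at hc
    exact hc)
  have ct : ∀ {ρ : Perm (Fin n)}, ρ * ρ = 1 → ρ ≠ 1 → ρ.cycleType = Multiset.replicate (ρ.support.card / 2) 2 := by
    intro ρ hρ hρ1
    have ho : orderOf ρ = 2 := orderOf_eq_prime (by rw [pow_two, hρ]) hρ1
    obtain ⟨k, hk⟩ := Perm.cycleType_prime_order (σ := ρ) (by rw [ho]; exact Nat.prime_two)
    rw [ho] at hk
    rw [← Perm.sum_cycleType, hk, Multiset.sum_replicate, smul_eq_mul]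
    congr 1
    omega
  obtain ⟨g, hg⟩ := isConj_iff.1 (Perm.isConj_iff_cycleType_eq.2 ((ct hσ h1).trans ((ct hτ h2).trans (by rw [hc])).symm))
  rcases Int.units_eq_one_or (Perm.sign g) with hs | hs
  · exact ⟨g, hs, hg⟩
  obtain ⟨i, hi⟩ : ∃ i, σ i ≠ i := by
    by_contra h
    push Not at h
    exact h1 (Equiv.ext h)
  refine ⟨g * swap i (σ i), by rw [map_mul, hs, Perm.sign_swap hi.symm]; rfl, ?_⟩
  have hc' : swap i (σ i) * σ * (swap i (σ i))⁻¹ = σ := by
    rw [mul_inv_eq_iff_eq_mul]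
    refine Equiv.ext fun x => ?_
    have e1 := apply_apply hσ i
    have e := apply_apply hσ x
    simp only [Perm.mul_apply, swap_apply_def]
    grind
  calc g * swap i (σ i) * σ * (g * swap i (σ i))⁻¹
      = g * (swap i (σ i) * σ * (swap i (σ i))⁻¹) * g⁻¹ := by group
    _ = τ := by rw [hc', hg]

end Perms

namespace Ctx

section

variable {G : Type u} [Group G] {n : ℕ} (D : Ctx G n)

theorem p_invol {x : D.X} (hx : x * x = 1) : D.p x * D.p x = 1 := by rw [← map_mul, hx, map_one]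

theorem p_ne_one {x : D.X} (h1 : x ≠ 1) (hz : x ≠ D.zX) : D.p x ≠ 1 := fun e => (D.p_eq_one.1 e).elim h1 hz

/-- **An involution of the cover other than the central one moves at least eight points, a multiple of four.** -/
theorem invol_card (hn : 5 ≤ n) {x : D.X} (hx : x * x = 1) (h1 : x ≠ 1) (hz : x ≠ D.zX) :
    4 ∣ (D.p x).support.card ∧ 8 ≤ (D.p x).support.card := by
  have h4 := four_dvd_support (D.p_invol hx) (D.p_ne_one h1 hz) (D.sign_p x)
  refine ⟨h4, ?_⟩
  have hpos : 0 < (D.p x).support.card := Finset.card_pos.2 (Finset.nonempty_iff_ne_empty.2 fun e =>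
    D.p_ne_one h1 hz (Perm.support_eq_empty_iff.1 e))
  by_contra h
  have : (D.p x).support.card = 4 := by omega
  have := D.sq_double hn (dbl_of_card_four (D.p_invol hx) this)
  rw [hx] at this
  exact D.z_ne this.symm

theorem support_le (σ : Perm (Fin n)) : σ.support.card ≤ n :=
  (Finset.card_le_univ _).trans (le_of_eq (Fintype.card_fin n))

theorem invol_eight (hn : 5 ≤ n) (hn' : n < 12) {x : D.X} (hx : x * x = 1) (h1 : x ≠ 1) (hz : x ≠ D.zX) :
    (D.p x).support.card = 8 := by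
  obtain ⟨⟨r, hr⟩, h8⟩ := D.invol_card hn hx h1 hz
  have := support_le (D.p x)
  omega

theorem invol_eq_z (hn : 5 ≤ n) (hn' : n < 8) {x : D.X} (hx : x * x = 1) (h1 : x ≠ 1) : x = D.zX := by
  by_contra hz
  have := (D.invol_card hn hx h1 hz).2
  have := support_le (D.p x)
  omega

/-- An involution other than the central one is conjugate to its product with the central one. -/
theorem exists_anti (hn : 5 ≤ n) {A : D.X} (hx : A * A = 1) (h1 : A ≠ 1) (hz : A ≠ D.zX) :
    ∃ u : D.X, u * A * u⁻¹ = D.zX * A := by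
  have hk := (D.invol_card hn hx h1 hz).2
  have hσ := D.p_invol hx
  set σ := D.p A with hσdef
  obtain ⟨i, hi, -⟩ := exists_moved hσ [] (by rw [List.length_nil]; omega)
  obtain ⟨j, hj, hij⟩ := exists_moved hσ [i] (by simp; omega)
  have hij := hij i (by simp)
  simp only [Near, not_or] at hij
  have e1 := apply_apply hσ i
  have e2 := apply_apply hσ j
  have h4 : i ≠ σ i ∧ i ≠ j ∧ i ≠ σ j ∧ σ i ≠ j ∧ σ i ≠ σ j ∧ j ≠ σ j :=
    ⟨hi.symm, Ne.symm hij.1, fun e => hij.2 (by rw [e, e2]), Ne.symm hij.2,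
      fun e => hij.1 (σ.injective e).symm, hj.symm⟩
  obtain ⟨a1, a2, a3, a4, a5, a6⟩ := h4
  obtain ⟨u, hu⟩ := D.p_surj (σ := swap i j * swap (σ i) (σ j))
    (by rw [map_mul, Perm.sign_swap a2, Perm.sign_swap a5]; rfl)
  obtain ⟨w, hw⟩ := D.p_surj (σ := swap i (σ i) * swap j (σ j))
    (by rw [map_mul, Perm.sign_swap a1, Perm.sign_swap a6]; rfl)
  have hd : [i, j, σ i, σ j].Nodup := by simp [a1, a2, a3, a4, a5, a6, Ne.symm a1, Ne.symm a2, Ne.symm a3, Ne.symm a4, Ne.symm a5, Ne.symm a6]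
  have hr : Commute u (w⁻¹ * A) := D.comm_dbl hd hu fun t ht => by
    simp only [List.mem_cons, List.not_mem_nil, or_false] at ht
    rw [map_mul, map_inv, hw, mul_inv_rev, swap_inv, swap_inv]
    show (swap j (σ j) * swap i (σ i)) (σ t) = t
    simp only [Perm.mul_apply, swap_apply_def]
    rcases ht with rfl | rfl | rfl | rfl <;> grind
  have su : u * u = D.zX := D.sq_double hn ⟨i, j, σ i, σ j, hd, hu⟩
  have sw : w * w = D.zX := D.sq_double hn ⟨i, σ i, j, σ j, by simp [a1, a2, a3, a4, a5, a6, Ne.symm a1, Ne.symm a2, Ne.symm a3, Ne.symm a4, Ne.symm a5, Ne.symm a6], hw⟩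
  have suw : u * w * (u * w) = D.zX := D.sq_double hn ⟨i, σ j, j, σ i, by simp [a1, a2, a3, a4, a5, a6, Ne.symm a1, Ne.symm a2, Ne.symm a3, Ne.symm a4, Ne.symm a5, Ne.symm a6], by
    rw [map_mul, hu, hw]
    refine Equiv.ext fun t => ?_
    simp only [Perm.mul_apply, swap_apply_def]
    grind⟩
  refine ⟨u, ?_⟩
  have huw : u * w = D.zX * (w * u) := by
    calc u * w = u * w * (u * w) * (w⁻¹ * u⁻¹) := by group
      _ = D.zX * ((w * w)⁻¹ * w * (u * (u * u)⁻¹)) := by rw [suw]; group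
      _ = D.zX * (D.zX⁻¹ * (w * u) * D.zX⁻¹) := by rw [su, sw]; group
      _ = _ := by
        rw [inv_eq_of_mul_eq_one_left D.z_sq, mul_assoc D.zX (w * u), ← D.z_comm (w * u), ← mul_assoc D.zX D.zX,
          D.z_sq, one_mul]
  calc u * A * u⁻¹ = u * w * (w⁻¹ * A) * u⁻¹ := by group
    _ = D.zX * (w * (u * (w⁻¹ * A)) * u⁻¹) := by rw [huw]; group
    _ = _ := by rw [hr.eq]; group

/-- **The non-central involutions of the cover are conjugate for degree less than twelve.** -/
theorem invol_conj_X (hn : 5 ≤ n) (hn' : n < 12) {x y : D.X} (hx : x * x = 1) (h1 : x ≠ 1) (hz : x ≠ D.zX)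
    (hy : y * y = 1) (h1' : y ≠ 1) (hz' : y ≠ D.zX) : ∃ g : D.X, g * x * g⁻¹ = y := by
  obtain ⟨s, hs, e⟩ := invol_conj (D.p_invol hx) (D.p_invol hy) (D.p_ne_one h1 hz)
    ((D.invol_eight hn hn' hx h1 hz).trans (D.invol_eight hn hn' hy h1' hz').symm)
  obtain ⟨g, rfl⟩ := D.p_surj hs
  rcases D.eq_or (show D.p (g * x * g⁻¹) = D.p y by rw [map_mul, map_mul, map_inv, e]) with h | h
  · exact ⟨g, h⟩
  · obtain ⟨u, hu⟩ := D.exists_anti hn hy h1' hz'
    refine ⟨u * g, ?_⟩
    calc u * g * x * (u * g)⁻¹ = u * (g * x * g⁻¹) * u⁻¹ := by group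
      _ = u * D.zX * u⁻¹ * (u * y * u⁻¹) := by rw [h]; group
      _ = _ := by rw [← D.z_comm u, hu, mul_inv_cancel_right, ← mul_assoc, D.z_sq, one_mul]

theorem not_comm (D : Ctx G n) (hn : 5 ≤ n) : ¬ IsMulCommutative G := by
  intro h
  let a : Fin n := ⟨0, by omega⟩
  let b : Fin n := ⟨1, by omega⟩
  let c : Fin n := ⟨2, by omega⟩
  let d : Fin n := ⟨3, by omega⟩
  let e : Fin n := ⟨4, by omega⟩
  obtain ⟨x, hx⟩ := D.p_surj (σ := swap a b * swap c d) (sign_dbl ⟨a, b, c, d, by simp [a, b, c, d, Fin.ext_iff], rfl⟩)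
  obtain ⟨y, hy⟩ := D.p_surj (σ := swap a e * swap c d) (sign_dbl ⟨a, e, c, d, by simp [a, c, d, e, Fin.ext_iff], rfl⟩)
  have hxy : x * y = y * x := Subtype.ext (h.is_comm.comm (x : G) (y : G))
  have h1 := DFunLike.congr_fun (congrArg D.p hxy) a
  simp [map_mul, hx, hy, Perm.mul_apply, swap_apply_def, a, b, c, d, e, Fin.ext_iff] at h1

end

section Simple

variable {G : Type u} [Group G] [Finite G] [IsSimpleGroup G] {n : ℕ} (D : Ctx G n)

/-- The central involution is conjugate to another involution of its centraliser. -/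
theorem exists_fused (hn : 5 ≤ n) :
    ∃ g : G, Commute D.z (g * D.z * g⁻¹) ∧ g * D.z * g⁻¹ ≠ D.z := by
  by_contra h
  push Not at h
  exact AlperinRankTwo.no_isolated (D.not_comm hn) D.z ⟨D.ord, h⟩

/-- **The degree is at least eight.** -/
theorem eight_le (D : Ctx G n) (hn : 5 ≤ n) : 8 ≤ n := by
  by_contra hlt
  obtain ⟨g, hg, hne⟩ := D.exists_fused hn
  let x : D.X := ⟨g * D.z * g⁻¹, D.mem_of_commute hg.symm⟩
  have hz2 : D.z * D.z = 1 := congrArg Subtype.val D.z_sq
  have hx : x * x = 1 := Subtype.ext (by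
    show g * D.z * g⁻¹ * (g * D.z * g⁻¹) = 1
    rw [show g * D.z * g⁻¹ * (g * D.z * g⁻¹) = g * (D.z * D.z) * g⁻¹ by group, hz2]
    group)
  have h1 : x ≠ 1 := fun e => D.z_ne (Subtype.ext (conj_eq_one_iff.1 (congrArg Subtype.val e)))
  exact hne (congrArg Subtype.val (D.invol_eq_z hn (by omega) hx h1))

/-- **One class of involutions for degree less than twelve.** -/
theorem isConj_invol (hn : 8 ≤ n) (hn' : n < 12) {t : G} (ht : orderOf t = 2) : IsConj D.z t := by
  have hz2 : D.z * D.z = 1 := congrArg Subtype.val D.z_sq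
  obtain ⟨g, hg, hne⟩ := D.exists_fused (by omega)
  let A : D.X := ⟨g * D.z * g⁻¹, D.mem_of_commute hg.symm⟩
  have hA2 : A * A = 1 := Subtype.ext (by
    show g * D.z * g⁻¹ * (g * D.z * g⁻¹) = 1
    rw [show g * D.z * g⁻¹ * (g * D.z * g⁻¹) = g * (D.z * D.z) * g⁻¹ by group, hz2]
    group)
  have hA1 : A ≠ 1 := fun e => D.z_ne (Subtype.ext (conj_eq_one_iff.1 (congrArg Subtype.val e)))
  have hAz : A ≠ D.zX := fun e => hne (congrArg Subtype.val e)
  have inX : ∀ {i : G}, i * i = 1 → i ≠ 1 → Commute i D.z → IsConj D.z i := by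
    intro i hi hi1 hc
    by_cases hiz : i = D.z
    · rw [hiz]
    obtain ⟨k, hk⟩ := D.invol_conj_X (x := A) (y := ⟨i, D.mem_of_commute hc⟩) (by omega) hn' hA2 hA1 hAz
      (Subtype.ext hi) (fun e => hi1 (congrArg Subtype.val e)) (fun e => hiz (congrArg Subtype.val e))
    refine isConj_iff.2 ⟨(k : G) * g, ?_⟩
    calc (k : G) * g * D.z * ((k : G) * g)⁻¹ = (k : G) * (g * D.z * g⁻¹) * (k : G)⁻¹ := by group
      _ = i := congrArg Subtype.val hk
  have ht2 : t * t = 1 := by rw [← pow_two, ← ht, pow_orderOf_eq_one]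
  by_contra hn0
  obtain ⟨i, hi, hi1, hiz, hit⟩ := SuzRecog.dihedral_invol hz2 ht2 hn0
  obtain ⟨h, hh⟩ := isConj_iff.1 (inX hi hi1 hiz)
  have key := inX (i := h⁻¹ * t * h) (by rw [show h⁻¹ * t * h * (h⁻¹ * t * h) = h⁻¹ * (t * t) * h by group, ht2]; group)
    (fun e => by
      have : t = 1 := by
        calc t = h * (h⁻¹ * t * h) * h⁻¹ := by group
          _ = 1 := by rw [e]; group
      rw [this, orderOf_one] at ht
      norm_num at ht)
    (by
      show _ = _
      rw [show D.z = h⁻¹ * i * h by rw [← hh]; group,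
        show h⁻¹ * t * h * (h⁻¹ * i * h) = h⁻¹ * (t * i) * h by group,
        show h⁻¹ * i * h * (h⁻¹ * t * h) = h⁻¹ * (i * t) * h by group, hit])
  exact hn0 (key.trans (isConj_iff.2 ⟨h, by group⟩))

end Simple

end Ctx

end Cfsg.Agent.DoubleCoverDeg
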