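import Cfsg.Agent.Lib.DoubleCoverDeg.Cen
import Cfsg.Agent.Lib.DoubleCoverDeg.Fusion
import Cfsg.Agent.Lib.Solvable.Coprime

/-!
S1645, degrees nine and ten: the odd core of the centraliser of a lift of a three-cycle is small.
-/

set_option autoImplicit false
set_option linter.style.haveILetI false
set_option linter.unusedSectionVars false
set_option linter.constructorNameAsVariable false

namespace Cfsg.Agent.DoubleCoverDeg

open Cfsg Equiv Subgroup

universe u

theorem dvd_fact_small {p k n : ℕ} (hn : n = 9 ∨ n = 10) (hp : p.Prime) (h : p ^ k ∣ n.factorial) :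
    k = 0 ∨ (p = 2 ∨ (p = 3 ∧ k ≤ 4) ∨ (p = 5 ∧ k ≤ 2 ∧ (n = 9 → k ≤ 1)) ∨ (p = 7 ∧ k ≤ 1)) := by
  rcases Nat.eq_zero_or_pos k with hk | hk
  · exact Or.inl hk
  right
  have hpn : p ≤ n := hp.dvd_factorial.1 ((dvd_pow_self p hk.ne').trans h)
  have key : ∀ (q j : ℕ), ¬ q ^ (j + 1) ∣ n.factorial → p = q → k ≤ j := fun q j hq e => by
    by_contra hlt
    exact hq (e ▸ (pow_dvd_pow p (by omega : j + 1 ≤ k)).trans h)
  have h3 : ¬ 3 ^ (4 + 1) ∣ n.factorial := by rcases hn with rfl | rfl <;> decide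
  have h5 : ¬ 5 ^ (2 + 1) ∣ n.factorial := by rcases hn with rfl | rfl <;> decide
  have h5' : n = 9 → ¬ 5 ^ (1 + 1) ∣ n.factorial := by rintro rfl; decide
  have h7 : ¬ 7 ^ (1 + 1) ∣ n.factorial := by rcases hn with rfl | rfl <;> decide
  have hp10 : p ≤ 10 := by omega
  interval_cases p <;> first
    | exact absurd hp (by decide)
    | exact Or.inl rfl
    | exact Or.inr (Or.inl ⟨rfl, key 3 4 h3 rfl⟩)
    | exact Or.inr (Or.inr (Or.inl ⟨rfl, key 5 2 h5 rfl, fun e => key 5 1 (h5' e) rfl⟩))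
    | exact Or.inr (Or.inr (Or.inr ⟨rfl, key 7 1 h7 rfl⟩))

variable {G : Type u} [Group G] [Finite G]

namespace Ctx

variable {n : ℕ} (D : Ctx G n)

theorem card_X (hn : 2 ≤ n) : Nat.card D.X = n.factorial := by
  haveI : Nontrivial (Fin n) := ⟨⟨⟨0, by omega⟩, ⟨1, by omega⟩, by simp [Fin.ext_iff]⟩⟩
  have hk : Nat.card D.π.ker = 2 := by
    refine Nat.card_eq_two_iff.2 ⟨⟨1, one_mem _⟩, ⟨D.zX, (D.ker _).2 (Or.inr rfl)⟩, ?_, ?_⟩
    · exact fun e => D.z_ne (congrArg Subtype.val e).symm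
    · refine Set.eq_univ_of_forall fun y => ?_
      rcases (D.ker _).1 y.2 with e | e
      · exact Or.inl (Subtype.ext (Subtype.ext e))
      · exact Or.inr (Subtype.ext (Subtype.ext e))
  rw [← card_mul_index D.π.ker, index_ker, MonoidHom.range_eq_top.2 D.surj, hk, Nat.card_congr Subgroup.topEquiv.toEquiv,
    two_mul_nat_card_alternatingGroup, Nat.card_perm, Nat.card_fin]

/-- The cover has no abelian subgroup of order `81`. -/
theorem no_abelian_81 (hn : n = 9 ∨ n = 10) (A : Subgroup D.X) (hc : Nat.card A = 81)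
    (hcomm : ∀ u ∈ A, ∀ v ∈ A, u * v = v * u) : False := by
  classical
  haveI : Fact (Nat.Prime 3) := ⟨Nat.prime_three⟩
  have h9 : 9 ≤ n := by omega
  have hinj : Function.Injective ((D.p).comp A.subtype) := (injective_iff_map_eq_one _).2 fun u hu => by
    rcases D.p_eq_one.1 (show D.p (u : D.X) = 1 from hu) with e | e
    · exact Subtype.ext e
    · exfalso
      have h1 : (u : D.X) ^ 81 = 1 := by
        rw [← hc]
        exact orderOf_dvd_iff_pow_eq_one.1 (orderOf_dvd_natCard A u.2)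
      rw [e, D.z_pow_odd (by decide)] at h1
      exact D.z_ne h1
  set P := ((D.p).comp A.subtype).range with hP
  have hPc : Nat.card P = 3 ^ 4 := by
    rw [hP, ← Nat.card_congr (MonoidHom.ofInjective hinj).toEquiv, hc]; norm_num
  have hPcomm : ∀ u ∈ P, ∀ v ∈ P, u * v = v * u := by
    rintro _ ⟨u, rfl⟩ _ ⟨v, rfl⟩
    rw [← map_mul, ← map_mul, show u * v = v * u from Subtype.ext (hcomm _ u.2 _ v.2)]
  obtain ⟨S, hS⟩ := (IsPGroup.of_card hPc).exists_le_sylow
  have hSc : Nat.card S ∣ 3 ^ 4 := by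
    obtain ⟨k, hk⟩ := IsPGroup.iff_card.1 S.isPGroup'
    have hd : 3 ^ k ∣ n.factorial := by
      rw [← hk]
      have := card_subgroup_dvd_card (S : Subgroup (Perm (Fin n)))
      rwa [Nat.card_perm, Nat.card_fin] at this
    rcases dvd_fact_small hn Nat.prime_three hd with rfl | h | ⟨-, h⟩ | ⟨h, -⟩ | ⟨h, -⟩
    · rw [hk]; norm_num
    · norm_num at h
    · rw [hk]; exact pow_dvd_pow 3 h
    · norm_num at h
    · norm_num at h
  have hPS : P = S := eq_of_le_of_card_ge hS (by rw [hPc]; exact Nat.le_of_dvd (by norm_num) hSc)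
  set c := emb h9 c0 with hc'
  have hc3 : c.IsThreeCycle := by
    unfold Perm.IsThreeCycle
    rw [← show c0.cycleType = {3} by decide +kernel]
    simp only [hc', emb, Perm.viaEmbeddingHom_apply, Perm.viaEmbedding]
    convert Perm.cycleType_extendDomain _
  obtain ⟨T, hT⟩ := (show IsPGroup 3 (zpowers c) from IsPGroup.of_card (n := 1) (by
    rw [Nat.card_zpowers, hc3.orderOf, pow_one])).exists_le_sylow
  obtain ⟨g, hg⟩ := MulAction.exists_smul_eq (Perm (Fin n)) S T
  have hTcomm : ∀ u ∈ (T : Subgroup (Perm (Fin n))), ∀ v ∈ (T : Subgroup (Perm (Fin n))), u * v = v * u := by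
    intro u hu v hv
    rw [← hg, Sylow.coe_subgroup_smul] at hu hv
    obtain ⟨u', hu', rfl⟩ := hu
    obtain ⟨v', hv', rfl⟩ := hv
    show (MulAut.conj g) u' * (MulAut.conj g) v' = (MulAut.conj g) v' * (MulAut.conj g) u'
    rw [← map_mul, ← map_mul, hPcomm _ (hPS.ge hu') _ (hPS.ge hv')]
  have hle : (T : Subgroup (Perm (Fin n))) ≤ centralizer ({c} : Set (Perm (Fin n))) := fun u hu =>
    mem_centralizer_singleton_iff.2 (hTcomm u hu c (hT (mem_zpowers c)))
  have hd := card_dvd_of_le hle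
  have hT81 : Nat.card (T : Subgroup (Perm (Fin n))) = 3 ^ 4 := by
    rw [← hPc, hPS]; exact Nat.card_congr (Sylow.equiv T S).toEquiv
  rw [hT81, Perm.nat_card_centralizer, hc3.cycleType, Fintype.card_fin] at hd
  revert hd
  rcases hn with rfl | rfl <;> decide

variable [IsSimpleGroup G]

/-- The order of a group centralising a conjugate of the involution, inverted by a square. -/
theorem part_card (hn : n = 9 ∨ n = 10) {t : G} (ht : IsConj D.z t) (A : Subgroup G)
    (hA : A ≤ centralizer ({t} : Set G)) (hcomm : ∀ u ∈ A, ∀ v ∈ A, u * v = v * u) {p : ℕ} [Fact p.Prime]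
    (hp2 : p ≠ 2) (hp : IsPGroup p A) {g : G} (hg : ∀ u ∈ A, g * u * g⁻¹ ∈ A)
    (hinv : ∀ u ∈ A, g * (g * u * g⁻¹) * g⁻¹ = u⁻¹) :
    Nat.card A = 1 ∨ (p = 3 ∧ Nat.card A = 9) ∨ (p = 5 ∧ (Nat.card A = 5 ∨ (n = 10 ∧ Nat.card A = 25))) := by
  classical
  obtain ⟨k, hk⟩ := IsPGroup.iff_card.1 hp
  obtain ⟨h, hh⟩ := isConj_iff.1 ht
  have hle : A.map (MulAut.conj h⁻¹).toMonoidHom ≤ D.X := by
    rintro _ ⟨u, hu, rfl⟩
    refine mem_centralizer_singleton_iff.2 ?_
    have h1 : Commute u t := mem_centralizer_singleton_iff.1 (hA hu)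
    have h2 := h1.map (MulAut.conj h⁻¹).toMonoidHom
    have e : (MulAut.conj h⁻¹).toMonoidHom t = D.z := by
      show h⁻¹ * t * h⁻¹⁻¹ = D.z
      rw [← hh]; group
    rw [e] at h2
    exact h2.eq
  set B := (A.map (MulAut.conj h⁻¹).toMonoidHom).subgroupOf D.X with hB
  have hBc : Nat.card B = p ^ k := by
    rw [hB, Nat.card_congr (subgroupOfEquivOfLe hle).toEquiv,
      card_map_of_injective (MulAut.conj h⁻¹).injective, hk]
  have hd : p ^ k ∣ n.factorial := by
    rw [← hBc, ← D.card_X (by omega)]; exact card_subgroup_dvd_card B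
  have hBcomm : ∀ u ∈ B, ∀ v ∈ B, u * v = v * u := by
    intro u hu v hv
    obtain ⟨u', hu', eu⟩ := hu
    obtain ⟨v', hv', ev⟩ := hv
    refine Subtype.ext ?_
    have eu' : (MulAut.conj h⁻¹).toMonoidHom u' = (u : G) := eu
    have ev' : (MulAut.conj h⁻¹).toMonoidHom v' = (v : G) := ev
    rw [Subgroup.coe_mul, Subgroup.coe_mul, ← eu', ← ev', ← map_mul, ← map_mul, hcomm u' hu' v' hv']
  have hodd : Odd (Nat.card A) := by
    rw [hk]; exact (Nat.Prime.odd_of_ne_two Fact.out hp2).pow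
  have hmod := card_mod_four A hodd hg hinv
  rcases dvd_fact_small hn Fact.out hd with rfl | h2 | ⟨rfl, hk4⟩ | ⟨rfl, hk2, hk9⟩ | ⟨rfl, hk1⟩
  · left; rw [hk, pow_zero]
  · exact absurd h2 hp2
  · rw [hk] at hmod ⊢
    interval_cases k <;> simp at hmod ⊢
    exact D.no_abelian_81 hn B (by rw [hBc]; norm_num) hBcomm
  · rw [hk] at hmod ⊢
    interval_cases k
    · simp
    · simp
    · rcases hn with rfl | rfl
      · exact absurd (hk9 rfl) (by norm_num)
      · simp
  · rw [hk] at hmod ⊢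
    interval_cases k <;> simp at hmod ⊢

section Core

variable (h : 9 ≤ n) (hn10 : n ≤ 10) {x : D.X} (hx : D.p x = emb h c0) (hx3 : x ^ 3 = 1)
include hn10 hx hx3

theorem x_cube : (x : G) ^ 3 = 1 := by rw [← SubmonoidClass.coe_pow, hx3, OneMemClass.coe_one]

/-- The core meets the centraliser of the involution in the powers of the lift. -/
theorem oddCen_meet {w : G} (hw : w ∈ oddCen (x : G)) (hz : Commute w D.z) : w ∈ zpowers (x : G) := by
  rcases D.odd_normal h hx hx3 (oddCen (x : G)) (odd_oddCen _)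
    (fun k hk u hu => oddCen_normal (congrArg Subtype.val hk.eq :) hu)
    (w := ⟨w, mem_centralizer_singleton_iff.2 hz.eq⟩) hw (Subtype.ext (oddCen_comm hw).eq) with e | e | e
  · rw [show w = 1 from congrArg Subtype.val e]; exact one_mem _
  · rw [show w = x from congrArg Subtype.val e]; exact mem_zpowers _
  · rw [show w = (x : G) * x from congrArg Subtype.val e]; exact mul_mem (mem_zpowers _) (mem_zpowers _)

theorem x_central {w e : G} (hw : w ∈ oddCen (x : G)) (he : e ∈ zpowers (x : G)) : Commute w e := by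
  obtain ⟨i, rfl⟩ := mem_zpowers_iff.1 he
  exact (oddCen_comm hw).zpow_right i

/-- The involution inverts the core modulo the powers of the lift. -/
theorem oddCen_inverted {w : G} (hw : w ∈ oddCen (x : G)) :
    ∃ e ∈ zpowers (x : G), D.z * w * D.z⁻¹ = e * w⁻¹ := by
  have hzx : Commute D.z (x : G) := (mem_centralizer_singleton_iff.1 x.2).symm
  have hzz : D.z * D.z = 1 := congrArg Subtype.val D.z_sq
  have hzi : D.z⁻¹ = D.z := inv_eq_of_mul_eq_one_right hzz
  set y := w⁻¹ * (D.z * w * D.z⁻¹) with hy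
  have hyW : y ∈ oddCen (x : G) := mul_mem (inv_mem hw) (oddCen_normal hzx hw)
  have hzy : D.z * y * D.z⁻¹ = y⁻¹ := by
    rw [hy, hzi]
    calc D.z * (w⁻¹ * (D.z * w * D.z)) * D.z = D.z * w⁻¹ * D.z * w * (D.z * D.z) := by group
      _ = D.z⁻¹ * w⁻¹ * D.z⁻¹ * w := by rw [hzz, hzi, mul_one]
      _ = _ := by group
  obtain ⟨m, hm⟩ := odd_oddCen (x : G)
  set r := y ^ (m + 1) with hr
  have hrr : r * r = y := by
    have h1 : y ^ Nat.card (oddCen (x : G)) = 1 := orderOf_dvd_iff_pow_eq_one.1 (orderOf_dvd_natCard _ hyW)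
    rw [hr, ← pow_add, show m + 1 + (m + 1) = Nat.card (oddCen (x : G)) + 1 by omega, pow_succ, h1, one_mul]
  have hzr : D.z * r * D.z⁻¹ = r⁻¹ := by rw [hr, ← conj_pow, hzy, inv_pow]
  have hwr : D.z * w * D.z⁻¹ = w * (r * r) := by rw [hrr, hy, mul_inv_cancel_left]
  have hcW : w * r ∈ oddCen (x : G) := mul_mem hw (pow_mem hyW _)
  have hc : Commute (w * r) D.z := by
    have h1 : D.z * (w * r) * D.z⁻¹ = w * r := by
      calc D.z * (w * r) * D.z⁻¹ = (D.z * w * D.z⁻¹) * (D.z * r * D.z⁻¹) := by group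
        _ = _ := by rw [hzr, hwr]; group
    exact (mul_inv_eq_iff_eq_mul.1 h1).symm
  have he := D.oddCen_meet h hn10 hx hx3 hcW hc
  refine ⟨(w * r) * (w * r), mul_mem he he, ?_⟩
  have hcw : Commute (w * r) w⁻¹ := ((D.x_central h hn10 hx hx3 hw he).symm).inv_right
  rw [hwr, show (w * r) * (w * r) * w⁻¹ = (w * r) * ((w * r) * w⁻¹) by group, hcw.eq]
  group

/-- Commutators of the core are powers of the lift. -/
theorem oddCen_commutator {u v : G} (hu : u ∈ oddCen (x : G)) (hv : v ∈ oddCen (x : G)) :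
    u * v * u⁻¹ * v⁻¹ ∈ zpowers (x : G) := by
  obtain ⟨a, ha, ea⟩ := D.oddCen_inverted h hn10 hx hx3 (inv_mem hu)
  obtain ⟨b, hb, eb⟩ := D.oddCen_inverted h hn10 hx hx3 (inv_mem hv)
  obtain ⟨c, hc, ec⟩ := D.oddCen_inverted h hn10 hx hx3 (inv_mem (mul_mem hv hu))
  rw [inv_inv] at ea eb ec
  have hab : a * u * (b * v) = c * (v * u) := by
    rw [← ea, ← eb, ← ec]; group
  have hbu : Commute u b := D.x_central h hn10 hx hx3 hu hb
  rw [show a * u * (b * v) = a * b * (u * v) by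
    calc a * u * (b * v) = a * (u * b) * v := by group
      _ = _ := by rw [hbu.eq]; group] at hab
  have e : u * v * u⁻¹ * v⁻¹ = (a * b)⁻¹ * c := by
    calc u * v * u⁻¹ * v⁻¹ = (a * b)⁻¹ * (a * b * (u * v)) * (v * u)⁻¹ := by group
      _ = _ := by rw [hab]; group
  rw [e]
  exact mul_mem (inv_mem (mul_mem ha hb)) hc

/-- Elements of the core of order prime to three are central in it. -/
theorem oddCen_central {u v : G} (hu : u ∈ oddCen (x : G)) (hco : (orderOf u).Coprime 3) (hv : v ∈ oddCen (x : G)) :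
    Commute u v := by
  obtain ⟨i, hi⟩ := exists_pow_eq_self_of_coprime (n := 3) hco.symm
  set a := u ^ i with ha
  have ha3 : u = a ^ 3 := by rw [ha, ← pow_mul, mul_comm, pow_mul, hi]
  have haW : a ∈ oddCen (x : G) := pow_mem hu i
  set e := v * a * v⁻¹ * a⁻¹ with he
  have heZ := D.oddCen_commutator h hn10 hx hx3 hv haW
  have hea : v * a * v⁻¹ = e * a := by rw [he, inv_mul_cancel_right]
  have he3 : e ^ 3 = 1 := by
    obtain ⟨j, hj⟩ := mem_zpowers_iff.1 heZ
    rw [he, ← hj, ← zpow_natCast, ← zpow_mul, mul_comm, zpow_mul, zpow_natCast, D.x_cube h hn10 hx hx3, one_zpow]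
  refine (Commute.symm ?_)
  refine mul_inv_eq_iff_eq_mul.1 ?_
  rw [ha3, ← conj_pow, hea, ((D.x_central h hn10 hx hx3 haW heZ).symm).mul_pow, he3, one_mul]

variable {a g : D.X} (ha : a * a = 1) (hax : a * x * a⁻¹ = x⁻¹) (hg : g * g = D.zX) (hga : Commute g a)
  (hgx : Commute g x)
include ha hax hg hga hgx

theorem a_ne : a ≠ 1 ∧ a ≠ D.zX := by
  have hne : x ≠ x⁻¹ := fun e => D.x_ne h hx hx3 (by
    calc x = x ^ 3 * (x * x)⁻¹ := by simp [pow_succ, mul_assoc]
      _ = 1 := by rw [hx3, one_mul]; nth_rw 2 [e]; rw [mul_inv_cancel, inv_one])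
  refine ⟨fun e => hne ?_, fun e => hne ?_⟩ <;> rw [← hax, e]
  · simp
  · rw [D.z_comm, mul_inv_cancel_right]

/-- The two involutions of the four-group other than the central one. -/
theorem four_data {t : D.X} (ht : t = a ∨ t = D.zX * a) :
    t * t = 1 ∧ t * x * t⁻¹ = x⁻¹ ∧ Commute g t ∧ IsConj D.z (t : G) ∧ Commute t D.zX := by
  obtain ⟨h1, h2⟩ := D.a_ne h hn10 hx hx3 ha hax hg hga hgx
  have hzt : Commute t D.zX := (D.z_comm t).symm
  have hsq : t * t = 1 := by
    rcases ht with rfl | rfl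
    · exact ha
    · rw [show D.zX * a * (D.zX * a) = D.zX * (a * D.zX) * a by group, ← D.z_comm, ← mul_assoc, D.z_sq, one_mul, ha]
  refine ⟨hsq, ?_, ?_, D.isConj_invol (by omega) ?_ (orderOf_eq_prime ?_ ?_), hzt⟩
  · rcases ht with rfl | rfl
    · exact hax
    · rw [show D.zX * a * x * (D.zX * a)⁻¹ = D.zX * (a * x * a⁻¹) * D.zX⁻¹ by group, hax, D.z_comm,
        mul_inv_cancel_right]
  · rcases ht with rfl | rfl
    · exact hga
    · exact (show Commute D.zX g from D.z_comm g).symm.mul_right hga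
  · by_contra hlt
    omega
  · rw [pow_two]; exact congrArg Subtype.val hsq
  · intro e
    have e' : t = 1 := Subtype.ext e
    rcases ht with rfl | rfl
    · exact h1 e'
    · exact h2 (by rw [← inv_eq_of_mul_eq_one_right D.z_sq]; exact eq_inv_of_mul_eq_one_right e')

/-- The part of the core fixed by one of them is inverted by the central involution. -/
theorem part_inverted {t : D.X} (ht : t = a ∨ t = D.zX * a) {u : G} (hu : u ∈ oddCen (x : G))
    (hut : Commute u (t : G)) : D.z * u * D.z⁻¹ = u⁻¹ := by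
  obtain ⟨-, htx, -, -, htz⟩ := D.four_data h hn10 hx hx3 ha hax hg hga hgx ht
  obtain ⟨e, he, eq⟩ := D.oddCen_inverted h hn10 hx hx3 hu
  have htz' : Commute (t : G) D.z := congrArg Subtype.val htz.eq
  have hte : Commute (t : G) e := by
    have h1 : Commute (t : G) (D.z * u * D.z⁻¹ * u) := ((htz'.mul_right hut.symm).mul_right htz'.inv_right).mul_right
      hut.symm
    rwa [eq, inv_mul_cancel_right] at h1
  obtain ⟨i, hi⟩ := mem_zpowers_iff.1 he
  have h2 : (t : G) * e * (t : G)⁻¹ = e⁻¹ := by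
    rw [← hi, ← conj_zpow, show (t : G) * x * (t : G)⁻¹ = (x : G)⁻¹ from congrArg Subtype.val htx, inv_zpow]
  rw [hte.eq, mul_inv_cancel_right] at h2
  have he3 : e ^ 3 = 1 := by
    rw [← hi, ← zpow_natCast, ← zpow_mul, mul_comm, zpow_mul, zpow_natCast, D.x_cube h hn10 hx hx3, one_zpow]
  have he1 : e = 1 := by
    calc e = e ^ 3 * (e * e)⁻¹ := by group
      _ = 1 := by rw [he3, one_mul]; nth_rw 2 [h2]; rw [mul_inv_cancel, inv_one]
  rw [eq, he1, one_mul]

/-- The order of the fixed part of an invariant subgroup of the core. -/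
theorem fixed_card {t : D.X} (ht : t = a ∨ t = D.zX * a) (U : Subgroup G) (hU : U ≤ oddCen (x : G))
    (hnorm : ∀ k : D.X, Commute k x → ∀ u ∈ U, (k : G) * u * (k : G)⁻¹ ∈ U) {p : ℕ} [Fact p.Prime] (hp2 : p ≠ 2)
    (hp : IsPGroup p U) (hn : n = 9 ∨ n = 10) :
    Nat.card ↥(U ⊓ centralizer ({(t : G)} : Set G)) = 1 ∨
      (p = 3 ∧ Nat.card ↥(U ⊓ centralizer ({(t : G)} : Set G)) = 9) ∨
      (p = 5 ∧ (Nat.card ↥(U ⊓ centralizer ({(t : G)} : Set G)) = 5 ∨
        (n = 10 ∧ Nat.card ↥(U ⊓ centralizer ({(t : G)} : Set G)) = 25))) := by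
  obtain ⟨-, -, hgt, htc, -⟩ := D.four_data h hn10 hx hx3 ha hax hg hga hgx ht
  have hinv : ∀ u ∈ U ⊓ centralizer ({(t : G)} : Set G), D.z * u * D.z⁻¹ = u⁻¹ := fun u hu =>
    D.part_inverted h hn10 hx hx3 ha hax hg hga hgx ht (hU hu.1) (mem_centralizer_singleton_iff.1 hu.2)
  refine D.part_card hn htc _ inf_le_right (fun u hu v hv => ?_) hp2 (hp.to_le inf_le_left) (g := (g : G))
    (fun u hu => ⟨hnorm g hgx u hu.1, ?_⟩) fun u hu => ?_
  · refine inv_injective ?_
    rw [← hinv _ (mul_mem hu hv),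
      show D.z * (u * v) * D.z⁻¹ = (D.z * u * D.z⁻¹) * (D.z * v * D.z⁻¹) by group, hinv u hu, hinv v hv, mul_inv_rev]
  · refine mem_centralizer_singleton_iff.2 ?_
    have h1 : Commute u (t : G) := mem_centralizer_singleton_iff.1 hu.2
    have h2 := h1.map (MulAut.conj (g : G)).toMonoidHom
    have e : (MulAut.conj (g : G)).toMonoidHom (t : G) = t := by
      show (g : G) * t * (g : G)⁻¹ = t
      rw [show (g : G) * t = t * g from congrArg Subtype.val hgt.eq, mul_inv_cancel_right]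
    rw [e] at h2
    exact h2.eq
  · rw [← hinv u hu, show D.z = (g : G) * g from (congrArg Subtype.val hg).symm]
    group

/-- The order of an invariant subgroup of the core is bounded by its three fixed parts. -/
theorem core_le (U : Subgroup G) (hU : U ≤ oddCen (x : G))
    (hnorm : ∀ k : D.X, Commute k x → ∀ u ∈ U, (k : G) * u * (k : G)⁻¹ ∈ U)
    (hna : ∀ u ∈ U, (a : G) * u * (a : G)⁻¹ ∈ U) :
    Nat.card U ≤ Nat.card ↥(U ⊓ centralizer ({D.z} : Set G)) *
      (Nat.card ↥(U ⊓ centralizer ({(a : G)} : Set G)) *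
        Nat.card ↥(U ⊓ centralizer ({((D.zX * a : D.X) : G)} : Set G))) := by
  have h4 := card_mul_four_le U ((odd_oddCen (x : G)).of_dvd_nat (card_dvd_of_le hU)) (x := D.z) (y := (a : G))
    (congrArg Subtype.val D.z_sq) (congrArg Subtype.val ha) (congrArg Subtype.val (D.z_comm a))
    (hnorm D.zX (D.z_comm x)) hna
  refine le_trans (Nat.le_mul_of_pos_right _ (pow_pos Nat.card_pos 2)) (h4.trans (le_of_eq ?_))
  rfl

omit ha hax hg hga hgx in
/-- The lift lies in the core. -/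
theorem x_mem : (x : G) ∈ oddCen (x : G) := by
  refine AxB.le_pPrimeCoreOf (p := 2) (H := centralizer ({(x : G)} : Set G)) (N := zpowers (x : G)) ?_ ?_ ?_
    (mem_zpowers _)
  · exact zpowers_le.2 (mem_centralizer_singleton_iff.2 rfl)
  · intro k hk
    refine mem_normalizer_fintype ?_
    rintro _ ⟨i, rfl⟩
    refine ⟨i, ?_⟩
    rw [((show Commute k (x : G) from mem_centralizer_singleton_iff.1 hk).zpow_right i).eq, mul_inv_cancel_right]
  · rw [Nat.card_zpowers]
    exact Nat.Coprime.coprime_dvd_left (orderOf_dvd_of_pow_eq_one (D.x_cube h hn10 hx hx3)) (by norm_num)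

omit ha hax hg hga hgx in
/-- An element of order `q` moving the other points. -/
theorem exists_outside {q : ℕ} (hq : q.Prime) (hq2 : q ≠ 2) (hqn : q ≤ n - 3) :
    ∃ s : D.X, s ^ q = 1 ∧ Commute s x ∧ ∃ i : Fin n, 3 ≤ (i : ℕ) ∧ D.p s i ≠ i := by
  classical
  haveI : Fact q.Prime := ⟨hq⟩
  have hle : n - 3 ≤ Fintype.card {i : Fin n // 3 ≤ (i : ℕ)} := by
    refine le_trans (le_of_eq (Fintype.card_fin (n - 3)).symm) (Fintype.card_le_of_injective
      (fun j : Fin (n - 3) => (⟨⟨(j : ℕ) + 3, by omega⟩, by simp⟩ : {i : Fin n // 3 ≤ (i : ℕ)})) fun a b e => ?_)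
    have := congrArg (fun q : {i : Fin n // 3 ≤ (i : ℕ)} => ((q : Fin n) : ℕ)) e
    exact Fin.ext (by simpa using this)
  haveI : Nontrivial {i : Fin n // 3 ≤ (i : ℕ)} :=
    Fintype.one_lt_card_iff_nontrivial.1 (by have := hq.two_le; omega)
  have hd : q ∣ Nat.card (alternatingGroup {i : Fin n // 3 ≤ (i : ℕ)}) := by
    refine (Nat.Coprime.dvd_mul_left ((Nat.coprime_primes hq Nat.prime_two).2 hq2)).1 ?_
    rw [two_mul_nat_card_alternatingGroup, Nat.card_perm, Nat.card_eq_fintype_card]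
    exact Nat.dvd_factorial hq.pos (hqn.trans hle)
  obtain ⟨τ, hτ⟩ := exists_prime_orderOf_dvd_card' q hd
  obtain ⟨k, -, hk⟩ := D.rho_surj h hx hx3 τ (Perm.mem_alternatingGroup.1 τ.2)
  have hpow : Perm.ofSubtype (τ : Perm {i : Fin n // 3 ≤ (i : ℕ)}) ^ q = 1 := by
    rw [← map_pow, ← SubmonoidClass.coe_pow, ← hτ, pow_orderOf_eq_one, OneMemClass.coe_one, map_one]
  obtain ⟨s, hs, hsq⟩ := D.lift_odd
    (show Perm.sign (Perm.ofSubtype (τ : Perm {i : Fin n // 3 ≤ (i : ℕ)})) = 1 by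
      rw [Perm.sign_ofSubtype]; exact Perm.mem_alternatingGroup.1 τ.2) (hq.odd_of_ne_two hq2) hpow
  refine ⟨s, hsq, (D.comm_x h hx hx3).2 ?_, ?_⟩
  · rw [hs, ← hk]
    exact (D.comm_x h hx hx3).1 (mem_centralizer_singleton_iff.1 k.2)
  · by_contra hcon
    push Not at hcon
    refine hq.ne_one (hτ.symm.trans (orderOf_eq_one_iff.2 (Subtype.ext (Equiv.ext fun i => Subtype.ext ?_))))
    have := hcon i i.2
    rwa [hs, Perm.ofSubtype_apply_coe] at this

omit ha hax hg hga hgx in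
/-- The elements of the core of order a power of a prime other than three. -/
def corePart (p : ℕ) (hp : p.Coprime 3) : Subgroup G where
  carrier := {w | w ∈ oddCen (x : G) ∧ ∃ j, w ^ p ^ j = 1}
  one_mem' := ⟨one_mem _, 0, one_pow _⟩
  inv_mem' := fun {w} ⟨hw, j, e⟩ => ⟨inv_mem hw, j, by rw [inv_pow, e, inv_one]⟩
  mul_mem' := fun {u v} ⟨hu, i, ei⟩ ⟨hv, j, ej⟩ => ⟨mul_mem hu hv, i + j, by
    have hco : (orderOf u).Coprime 3 :=
      Nat.Coprime.coprime_dvd_left (orderOf_dvd_of_pow_eq_one ei) (hp.pow_left i)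
    rw [(D.oddCen_central h hn10 hx hx3 hu hco hv).mul_pow, pow_add, pow_mul, ei, one_pow, one_mul, mul_comm,
      pow_mul, ej, one_pow]⟩

omit ha hax hg hga hgx in
theorem corePart_isPGroup {p : ℕ} (hp : p.Coprime 3) : IsPGroup p (D.corePart h hn10 hx hx3 p hp) :=
  fun ⟨_, _, j, e⟩ => ⟨j, Subtype.ext e⟩

variable {k : D.X} (hk3 : k ^ 3 = 1) (hkx : Commute k x) (hka : Commute k a)
  (hkmove : ∃ i : Fin n, 3 ≤ (i : ℕ) ∧ D.p k i ≠ i)
include hk3 hkx hka hkmove

/-- **The core has no part prime to three.** -/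
theorem corePart_eq_bot {p : ℕ} [Fact p.Prime] (hp2 : p ≠ 2) (hp : p.Coprime 3) :
    D.corePart h hn10 hx hx3 p hp = ⊥ := by
  classical
  have hn : n = 9 ∨ n = 10 := by omega
  set U := D.corePart h hn10 hx hx3 p hp with hUdef
  have hU : U ≤ oddCen (x : G) := fun u hu => hu.1
  have hUp : IsPGroup p U := D.corePart_isPGroup h hn10 hx hx3 hp
  have hconj : ∀ g : G, (∀ w ∈ oddCen (x : G), g * w * g⁻¹ ∈ oddCen (x : G)) → ∀ u ∈ U, g * u * g⁻¹ ∈ U := by
    rintro g hg' u ⟨hu, j, e⟩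
    exact ⟨hg' u hu, j, by rw [conj_pow, e, mul_one, mul_inv_cancel]⟩
  have hnorm : ∀ k : D.X, Commute k x → ∀ u ∈ U, (k : G) * u * (k : G)⁻¹ ∈ U := fun k hk =>
    hconj k fun w hw => oddCen_normal (congrArg Subtype.val hk.eq :) hw
  have hna := hconj a fun w hw => oddCen_conj_inv (congrArg Subtype.val hax :) hw
  have hz1 : ∀ u ∈ U, Commute u D.z → u = 1 := fun u hu hc => by
    obtain ⟨j, hj⟩ := hu.2
    obtain ⟨i, rfl⟩ := mem_zpowers_iff.1 (D.oddCen_meet h hn10 hx hx3 hu.1 hc)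
    refine orderOf_eq_one_iff.1 (Nat.eq_one_of_dvd_coprimes (hp.pow_left j) (orderOf_dvd_of_pow_eq_one hj) ?_)
    refine orderOf_dvd_of_pow_eq_one ?_
    rw [← zpow_natCast, ← zpow_mul, mul_comm, zpow_mul, zpow_natCast, D.x_cube h hn10 hx hx3, one_zpow]
  have hzc : Nat.card ↥(U ⊓ centralizer ({D.z} : Set G)) = 1 :=
    card_eq_one.2 (eq_bot_iff.2 fun u hu => mem_bot.2 (hz1 u hu.1 (mem_centralizer_singleton_iff.1 hu.2)))
  have hfaith : ∀ (c : D.X) (m : ℕ), Odd m → c ^ m = 1 → Commute c x →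
      (∃ i : Fin n, 3 ≤ (i : ℕ) ∧ D.p c i ≠ i) → (∀ u ∈ U, Commute (c : G) u) → U = ⊥ := fun c m hm hc hcx hmv hf =>
    eq_bot_iff.2 fun u hu => mem_bot.2 (hz1 u hu (D.faithful h hx hx3 U hnorm hm hc hcx hmv hf u hu).symm)
  have hle := D.core_le h hn10 hx hx3 ha hax hg hga hgx U hU hnorm hna
  rw [hzc, one_mul] at hle
  have hA := D.fixed_card h hn10 hx hx3 ha hax hg hga hgx (Or.inl rfl) U hU hnorm hp2 hUp hn
  have hB := D.fixed_card h hn10 hx hx3 ha hax hg hga hgx (Or.inr rfl) U hU hnorm hp2 hUp hn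
  have hp3 : p ≠ 3 := fun e => by rw [e] at hp; norm_num at hp
  by_cases hp5 : p = 5
  swap
  · simp only [hp3, hp5, false_and, or_false] at hA hB
    rw [hA, hB] at hle
    exact card_eq_one.1 (le_antisymm hle Nat.card_pos)
  subst hp5
  rcases hn with rfl | rfl
  · -- degree nine
    simp only [hp3, false_and, false_or, true_and, show ¬ (9 = 10) by decide, or_false] at hA hB
    have hU25 : Nat.card U ≤ 25 := hle.trans (Nat.mul_le_mul (by omega : _ ≤ 5) (by omega : _ ≤ 5))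
    have hk3' : (k : G) ^ 3 = 1 := by rw [← SubmonoidClass.coe_pow, hk3, OneMemClass.coe_one]
    rcases fix_or_dvd hUp Nat.prime_three (by decide : 3 ≠ 5) hk3' (hnorm k hkx) with hf | ⟨i, j, hi, hc, hj, hd⟩
    · exact hfaith k 3 (by decide) hk3 hkx hkmove hf
    have hij : i + j ≤ 2 := (Nat.pow_le_pow_iff_right (a := 5) (by norm_num)).1 (by rw [← hc]; norm_num; exact hU25)
    have hj0 : j = 0 := by
      by_contra hne
      obtain ⟨rfl, rfl⟩ : i = 1 ∧ j = 1 := ⟨by omega, by omega⟩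
      norm_num at hd
    rw [hj0, pow_zero, card_eq_one] at hj
    have hsmall : ∀ t : D.X, Commute k t → (Nat.card ↥(U ⊓ centralizer ({(t : G)} : Set G)) = 1 ∨
        Nat.card ↥(U ⊓ centralizer ({(t : G)} : Set G)) = 5) →
        Nat.card ↥(U ⊓ centralizer ({(t : G)} : Set G)) = 1 := by
      intro t hkt hc'
      refine hc'.resolve_right fun h5 => ?_
      set A := U ⊓ centralizer ({(t : G)} : Set G) with hAdef
      rcases fix_or_dvd (hUp.to_le (inf_le_left : A ≤ U)) Nat.prime_three (by decide : 3 ≠ 5) hk3'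
        (fun u hu => (⟨hnorm k hkx u hu.1, mem_centralizer_singleton_iff.2 (by
          have h2 := (show Commute u (t : G) from mem_centralizer_singleton_iff.1 hu.2).map
            (MulAut.conj (k : G)).toMonoidHom
          have e : (MulAut.conj (k : G)).toMonoidHom (t : G) = t := by
            show (k : G) * t * (k : G)⁻¹ = t
            rw [show (k : G) * t = t * k from congrArg Subtype.val hkt.eq, mul_inv_cancel_right]
          rw [e] at h2
          exact h2.eq)⟩ : (k : G) * u * (k : G)⁻¹ ∈ A)) with hf | ⟨i', j', hi', hc'', -, hd'⟩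
      · have hAbot : A = ⊥ := eq_bot_iff.2 fun u hu =>
          hj ▸ ⟨hu.1, mem_centralizer_singleton_iff.2 (hf u hu).symm.eq⟩
        rw [hAbot, card_bot] at h5
        norm_num at h5
      · rw [h5] at hc''
        have : i' = 1 := by
          have := (Nat.pow_eq_self_iff (by norm_num : 1 < 5)).1 hc''.symm
          omega
        subst this
        norm_num at hd'
    rw [hsmall a hka hA, hsmall (D.zX * a) ((show Commute D.zX k from D.z_comm k).symm.mul_right hka) hB] at hle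
    exact card_eq_one.1 (le_antisymm hle Nat.card_pos)
  · -- degree ten
    simp only [hp3, false_and, false_or, true_and] at hA hB
    have hU625 : Nat.card U ≤ 625 := hle.trans (Nat.mul_le_mul (by omega : _ ≤ 25) (by omega : _ ≤ 25))
    obtain ⟨s, hs7, hsx, hmv⟩ := D.exists_outside h hn10 hx hx3 (q := 7) (by norm_num) (by norm_num) (by norm_num)
    have hs7' : (s : G) ^ 7 = 1 := by rw [← SubmonoidClass.coe_pow, hs7, OneMemClass.coe_one]
    rcases fix_or_dvd hUp (by norm_num : Nat.Prime 7) (by decide : 7 ≠ 5) hs7' (hnorm s hsx) with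
      hf | ⟨i, j, hi, hc, -, hd⟩
    · exact hfaith s 7 (by decide) hs7 hsx hmv hf
    exfalso
    have hij : i + j ≤ 4 := (Nat.pow_le_pow_iff_right (a := 5) (by norm_num)).1 (by rw [← hc]; norm_num; exact hU625)
    have hi4 : i ≤ 4 := by omega
    interval_cases i <;> norm_num at hd

/-- **The core is a three-group.** -/
theorem core_three : IsPGroup 3 (oddCen (x : G)) := by
  classical
  refine IsPGroup.of_card (n := (Nat.card (oddCen (x : G))).primeFactorsList.length)
    (Nat.eq_prime_pow_of_unique_prime_dvd Nat.card_pos.ne' fun {q} hq hd => ?_)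
  by_contra hq3
  haveI : Fact q.Prime := ⟨hq⟩
  obtain ⟨w, hw⟩ := exists_prime_orderOf_dvd_card' q hd
  have hco : q.Coprime 3 := (Nat.coprime_primes hq Nat.prime_three).2 hq3
  have hq2 : q ≠ 2 := by
    rintro rfl
    exact (Nat.not_even_iff_odd.2 (odd_oddCen (x : G))) (even_iff_two_dvd.2 hd)
  have hbot := D.corePart_eq_bot h hn10 hx hx3 ha hax hg hga hgx hk3 hkx hka hkmove hq2 hco
  have hmem : (w : G) ∈ D.corePart h hn10 hx hx3 q hco :=
    ⟨w.2, 1, by rw [pow_one, ← SubmonoidClass.coe_pow, ← hw, pow_orderOf_eq_one, OneMemClass.coe_one]⟩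
  rw [hbot, mem_bot] at hmem
  rw [show w = 1 from Subtype.ext hmem, orderOf_one] at hw
  exact hq.ne_one hw.symm

/-- **The core is the powers of the lift, or has order `243` in degree nine.** -/
theorem core_cases : oddCen (x : G) = zpowers (x : G) ∨ (n = 9 ∧ Nat.card (oddCen (x : G)) = 243 ∧
    Nat.card ↥(oddCen (x : G) ⊓ centralizer ({(a : G)} : Set G)) = 9 ∧
    Nat.card ↥(oddCen (x : G) ⊓ centralizer ({((D.zX * a : D.X) : G)} : Set G)) = 9) := by
  classical
  have hn : n = 9 ∨ n = 10 := by omega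
  set W := oddCen (x : G) with hW
  have hW3 := D.core_three h hn10 hx hx3 ha hax hg hga hgx hk3 hkx hka hkmove
  have hnorm : ∀ k : D.X, Commute k x → ∀ u ∈ W, (k : G) * u * (k : G)⁻¹ ∈ W := fun k hk u hu =>
    oddCen_normal (congrArg Subtype.val hk.eq :) hu
  have hna : ∀ u ∈ W, (a : G) * u * (a : G)⁻¹ ∈ W := fun u hu => oddCen_conj_inv (congrArg Subtype.val hax :) hu
  have hxW : (x : G) ∈ W := D.x_mem h hn10 hx hx3
  have hxz : Commute (x : G) D.z := mem_centralizer_singleton_iff.1 x.2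
  have hxo : orderOf (x : G) = 3 := orderOf_eq_prime (D.x_cube h hn10 hx hx3) fun e => D.x_ne h hx hx3 (Subtype.ext e)
  have hCz : W ⊓ centralizer ({D.z} : Set G) = zpowers (x : G) := le_antisymm
    (fun u hu => D.oddCen_meet h hn10 hx hx3 hu.1 (mem_centralizer_singleton_iff.1 hu.2))
    (zpowers_le.2 ⟨hxW, mem_centralizer_singleton_iff.2 hxz.eq⟩)
  haveI : Fact (Nat.Prime 3) := ⟨Nat.prime_three⟩
  have hA := D.fixed_card h hn10 hx hx3 ha hax hg hga hgx (Or.inl rfl) W le_rfl hnorm (by decide) hW3 hn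
  have hB := D.fixed_card h hn10 hx hx3 ha hax hg hga hgx (Or.inr rfl) W le_rfl hnorm (by decide) hW3 hn
  simp only [show ¬ (3 = 5) by decide, false_and, true_and, or_false] at hA hB
  have hle := D.core_le h hn10 hx hx3 ha hax hg hga hgx W le_rfl hnorm hna
  rw [hCz, Nat.card_zpowers, hxo] at hle
  have hW243 : Nat.card W ≤ 243 := hle.trans (Nat.mul_le_mul le_rfl (Nat.mul_le_mul (by omega : _ ≤ 9) (by omega : _ ≤ 9)))
  have hfaith : ∀ (c : D.X) (m : ℕ), Odd m → c ^ m = 1 → Commute c x →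
      (∃ i : Fin n, 3 ≤ (i : ℕ) ∧ D.p c i ≠ i) → (∀ u ∈ W, Commute (c : G) u) → W = zpowers (x : G) :=
    fun c m hm hc hcx hmv hf => by
      rw [← hCz]
      exact le_antisymm (fun u hu => ⟨hu, mem_centralizer_singleton_iff.2
        (D.faithful h hx hx3 W hnorm hm hc hcx hmv hf u hu).symm.eq⟩) inf_le_left
  obtain ⟨q, hq, hq2, hq3, hqn, hq10, hq9⟩ : ∃ q : ℕ, q.Prime ∧ q ≠ 2 ∧ q ≠ 3 ∧ q ≤ n - 3 ∧
      (n = 10 → q = 7) ∧ (n = 9 → q = 5) := by
    rcases hn with rfl | rfl
    · exact ⟨5, by norm_num, by norm_num, by norm_num, by norm_num, by norm_num, fun _ => rfl⟩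
    · exact ⟨7, by norm_num, by norm_num, by norm_num, by norm_num, fun _ => rfl, by norm_num⟩
  obtain ⟨s, hsq, hsx, hmv⟩ := D.exists_outside h hn10 hx hx3 hq hq2 hqn
  have hsq' : (s : G) ^ q = 1 := by rw [← SubmonoidClass.coe_pow, hsq, OneMemClass.coe_one]
  rcases fix_or_dvd hW3 hq hq3 hsq' (hnorm s hsx) with hf | ⟨i, j, hi, hc, hj, hd⟩
  · exact Or.inl (hfaith s q (hq.odd_of_ne_two hq2) hsq hsx hmv hf)
  right
  have hij : i + j ≤ 5 := (Nat.pow_le_pow_iff_right (a := 3) (by norm_num)).1 (by rw [← hc]; norm_num; exact hW243)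
  have hj1 : 1 ≤ j := by
    by_contra h0
    have hsx' : Commute (x : G) (s : G) := (congrArg Subtype.val hsx.eq :).symm
    have hmem : (x : G) ∈ W ⊓ centralizer ({(s : G)} : Set G) := ⟨hxW, mem_centralizer_singleton_iff.2 hsx'⟩
    rw [show j = 0 by omega, pow_zero, card_eq_one] at hj
    rw [hj, mem_bot] at hmem
    rw [hmem, orderOf_one] at hxo
    norm_num at hxo
  rcases hn with rfl | rfl
  · rw [hq9 rfl] at hd
    have hi4 : i = 4 := by
      have : i ≤ 4 := by omega
      interval_cases i <;> first | rfl | (norm_num at hd)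
    obtain rfl : j = 1 := by omega
    subst hi4
    norm_num at hc
    rcases hA with eA | eA <;> rcases hB with eB | eB <;> rw [eA, eB, hc] at hle <;>
      first | (exfalso; omega) | exact ⟨rfl, hc, eA, eB⟩
  · rw [hq10 rfl] at hd
    exfalso
    have : i ≤ 4 := by omega
    interval_cases i <;> norm_num at hd

end Core

end Ctx

end Cfsg.Agent.DoubleCoverDeg
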