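/-
The exact four-group bound for a group of odd order, and small counting facts.
-/
import Mathlib.GroupTheory.Coset.Card
import Mathlib.GroupTheory.OrderOfElement
import Mathlib.GroupTheory.Index
import Mathlib.Data.Set.Card
import Mathlib.GroupTheory.PGroup
import Mathlib.GroupTheory.Sylow
import Mathlib.Tactic.Group

set_option autoImplicit false
set_option linter.unusedSectionVars false
set_option linter.style.haveILetI false

namespace Cfsg.Agent.DoubleCoverDeg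

universe u

variable {G : Type u} [Group G] [Finite G]

/-- Coordinates of an element of an odd group normalised by a four-group. -/
theorem exists_four_coord (K : Subgroup G) (hK : Odd (Nat.card K)) {x y : G}
    (hx : x * x = 1) (hy : y * y = 1) (hxy : x * y = y * x)
    (hxK : ∀ k ∈ K, x * k * x⁻¹ ∈ K) (hyK : ∀ k ∈ K, y * k * y⁻¹ ∈ K) :
    ∃ (c e g : K → G) (r : G → G),
      (∀ k, c k ∈ K ∧ Commute (c k) x) ∧
      (∀ k, e k ∈ K ∧ Commute (e k) y ∧ x * e k * x⁻¹ = (e k)⁻¹) ∧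
      (∀ k, g k ∈ K ∧ Commute (g k) (x * y) ∧ x * g k * x⁻¹ = (g k)⁻¹) ∧
      (∀ a, r a ∈ Subgroup.zpowers a) ∧
      ∀ k : K, (k : G) = c k * (r (g k) * e k * r (g k)) := by
  obtain ⟨h, hh⟩ : ∃ h, Nat.card K = 2 * h + 1 := hK
  let rt : G → G := fun k => k ^ (h + 1)
  have hrt : ∀ k ∈ K, rt k * rt k = k := fun k hk => by
    have h1 : k ^ Nat.card K = 1 :=
      orderOf_dvd_iff_pow_eq_one.1 (Subgroup.orderOf_dvd_natCard _ hk)
    simp only [rt, ← pow_add]
    rw [show h + 1 + (h + 1) = Nat.card K + 1 by omega, pow_succ, h1, one_mul]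
  have hrtinv : ∀ k, rt k⁻¹ = (rt k)⁻¹ := fun k => inv_pow k _
  have hrtc : ∀ c k : G, rt (c * k * c⁻¹) = c * rt k * c⁻¹ := fun c k => conj_pow
  obtain ⟨σ, hσ⟩ : ∃ σ : G → G, ∀ k, σ k = x * k * x⁻¹ := ⟨_, fun _ => rfl⟩
  obtain ⟨τ, hτ⟩ : ∃ τ : G → G, ∀ k, τ k = y * k * y⁻¹ := ⟨_, fun _ => rfl⟩
  have hσm : ∀ a b, σ (a * b) = σ a * σ b := fun a b => by simp [hσ, mul_assoc]
  have hτm : ∀ a b, τ (a * b) = τ a * τ b := fun a b => by simp [hτ, mul_assoc]
  have hσi : ∀ a, σ a⁻¹ = (σ a)⁻¹ := fun a => by simp [hσ, mul_assoc]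
  have hτi : ∀ a, τ a⁻¹ = (τ a)⁻¹ := fun a => by simp [hτ, mul_assoc]
  have hσσ : ∀ a, σ (σ a) = a := fun a => by
    calc σ (σ a) = (x * x) * a * (x * x)⁻¹ := by simp only [hσ]; group
      _ = a := by rw [hx, inv_one, one_mul, mul_one]
  have hττ : ∀ a, τ (τ a) = a := fun a => by
    calc τ (τ a) = (y * y) * a * (y * y)⁻¹ := by simp only [hτ]; group
      _ = a := by rw [hy, inv_one, one_mul, mul_one]
  have hcomm : ∀ a, σ (τ a) = τ (σ a) := fun a => by
    calc σ (τ a) = (x * y) * a * (x * y)⁻¹ := by simp only [hσ, hτ]; group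
      _ = (y * x) * a * (y * x)⁻¹ := by rw [hxy]
      _ = τ (σ a) := by simp only [hσ, hτ]; group
  have hσrt : ∀ k, σ (rt k) = rt (σ k) := fun k => by rw [hσ, hσ, hrtc]
  have hτrt : ∀ k, τ (rt k) = rt (τ k) := fun k => by rw [hτ, hτ, hrtc]
  have hrtK : ∀ k ∈ K, rt k ∈ K := fun k hk => pow_mem hk _
  have hfix : ∀ z a : G, z * a * z⁻¹ = a → a ∈ Subgroup.centralizer ({z} : Set G) := fun z a ha =>
    Subgroup.mem_centralizer_iff.2 fun q hq => by
      rw [Set.mem_singleton_iff.1 hq]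
      exact mul_inv_eq_iff_eq_mul.1 ha
  -- the inverted part of an element, and the two coordinates of an inverted element
  let sI : G → G := fun k => rt (k⁻¹ * σ k)
  let gI : G → G := fun d => d * (rt (τ d * d))⁻¹
  let eI : G → G := fun d => (rt (gI d))⁻¹ * d * (rt (gI d))⁻¹
  have hfirst : ∀ k ∈ K, sI k ∈ K ∧ σ (sI k) = (sI k)⁻¹ ∧ σ (k * sI k) = k * sI k := by
    intro k hk
    have hq : k⁻¹ * σ k ∈ K := mul_mem (inv_mem hk) (hσ k ▸ hxK k hk)
    have hinv : σ (k⁻¹ * σ k) = (k⁻¹ * σ k)⁻¹ := by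
      rw [hσm, hσi, hσσ, mul_inv_rev, inv_inv]
    have h2 : σ (sI k) = (sI k)⁻¹ := by simp only [sI]; rw [hσrt, hinv, hrtinv]
    refine ⟨hrtK _ hq, h2, ?_⟩
    rw [hσm, h2]
    have h3 : σ k = k * (sI k * sI k) := by simp only [sI]; rw [hrt _ hq, mul_inv_cancel_left]
    rw [h3]; group
  have hsecond : ∀ d ∈ K, σ d = d⁻¹ →
      gI d ∈ K ∧ σ (τ (gI d)) = gI d ∧ eI d ∈ K ∧ τ (eI d) = eI d ∧ σ (gI d) = (gI d)⁻¹ ∧
        σ (eI d) = (eI d)⁻¹ := by
    intro d hd hdx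
    have hw : τ d * d ∈ K := mul_mem (hτ d ▸ hyK d hd) hd
    have hg : gI d ∈ K := mul_mem hd (inv_mem (hrtK _ hw))
    have hdconj : rt (d * (τ d * d) * d⁻¹) = d * rt (τ d * d) * d⁻¹ := hrtc _ _
    have hg1 : σ (gI d) = (gI d)⁻¹ := by
      have e : σ (τ d * d) = (d * (τ d * d) * d⁻¹)⁻¹ := by
        rw [hσm, hcomm, hdx, hτi]; group
      simp only [gI]
      rw [hσm, hσi, hσrt, e, hrtinv, hdconj, hdx, inv_inv]; group
    have hg2 : τ (gI d) = (gI d)⁻¹ := by
      have e : τ (τ d * d) = d * (τ d * d) * d⁻¹ := by rw [hτm, hττ]; group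
      simp only [gI]
      rw [hτm, hτi, hτrt, e, hdconj]
      calc τ d * (d * rt (τ d * d) * d⁻¹)⁻¹ = (τ d * d) * (rt (τ d * d))⁻¹ * d⁻¹ := by group
        _ = rt (τ d * d) * rt (τ d * d) * (rt (τ d * d))⁻¹ * d⁻¹ := by rw [hrt _ hw]
        _ = (d * (rt (τ d * d))⁻¹)⁻¹ := by group
    refine ⟨hg, by rw [hg2, hσi, hg1, inv_inv],
      mul_mem (mul_mem (inv_mem (hrtK _ hg)) hd) (inv_mem (hrtK _ hg)), ?_, hg1, ?_⟩
    rotate_left
    · simp only [eI]
      rw [hσm, hσm, hσi, hσrt, hdx, hg1, hrtinv]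
      group
    have hτd : τ d = (gI d)⁻¹ * d * (gI d)⁻¹ := by
      have h1 : rt (τ d * d) = (gI d)⁻¹ * d := by simp only [gI]; group
      calc τ d = (τ d * d) * d⁻¹ := by group
        _ = rt (τ d * d) * rt (τ d * d) * d⁻¹ := by rw [hrt _ hw]
        _ = (gI d)⁻¹ * d * (gI d)⁻¹ := by rw [h1]; group
    simp only [eI]
    rw [hτm, hτm, hτi, hτrt, hg2, hrtinv, inv_inv, hτd]
    have hgg : gI d = rt (gI d) * rt (gI d) := (hrt _ hg).symm
    calc rt (gI d) * ((gI d)⁻¹ * d * (gI d)⁻¹) * rt (gI d)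
        = rt (gI d) * ((rt (gI d) * rt (gI d))⁻¹ * d * (rt (gI d) * rt (gI d))⁻¹) * rt (gI d) := by
          rw [← hgg]
      _ = (rt (gI d))⁻¹ * d * (rt (gI d))⁻¹ := by group
  have hmem : ∀ k : K, (sI k)⁻¹ ∈ K ∧ σ ((sI (k : G))⁻¹) = ((sI k)⁻¹)⁻¹ := fun k =>
    ⟨inv_mem (hfirst k k.2).1, by rw [hσi, (hfirst k k.2).2.1]⟩
  have hsc := fun k : K => hsecond _ (hmem k).1 (hmem k).2
  refine ⟨fun k => (k : G) * sI k, fun k => eI (sI (k : G))⁻¹, fun k => gI (sI (k : G))⁻¹, rt,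
    fun k => ⟨mul_mem k.2 (hfirst k k.2).1,
      (mul_inv_eq_iff_eq_mul.1 ((hσ _).symm.trans (hfirst k k.2).2.2)).symm⟩,
    fun k => ⟨(hsc k).2.2.1, (mul_inv_eq_iff_eq_mul.1 ((hτ _).symm.trans (hsc k).2.2.2.1)).symm,
      (hσ _).symm.trans (hsc k).2.2.2.2.2⟩,
    fun k => ⟨(hsc k).1, ?_, (hσ _).symm.trans (hsc k).2.2.2.2.1⟩, fun a => ⟨(h + 1 : ℕ), zpow_natCast a _⟩,
    fun k => ?_⟩
  · refine (mul_inv_eq_iff_eq_mul.1 ((show _ = σ (τ (gI (sI (k : G))⁻¹)) by simp only [hσ, hτ]; group).trans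
      (hsc k).2.1)).symm
  · simp only [eI]; group

end Cfsg.Agent.DoubleCoverDeg

namespace Cfsg.Agent.DoubleCoverDeg

open Subgroup

universe u

variable {G : Type u} [Group G] [Finite G]

/-- An odd group normalised by a four-group is generated by its three fixed subgroups. -/
theorem le_four_sup (K : Subgroup G) (hK : Odd (Nat.card K)) {x y : G}
    (hx : x * x = 1) (hy : y * y = 1) (hxy : x * y = y * x)
    (hxK : ∀ k ∈ K, x * k * x⁻¹ ∈ K) (hyK : ∀ k ∈ K, y * k * y⁻¹ ∈ K) :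
    K ≤ (K ⊓ centralizer ({x} : Set G)) ⊔ ((K ⊓ centralizer ({y} : Set G)) ⊔ (K ⊓ centralizer ({x * y} : Set G))) := by
  obtain ⟨c, e, g, r, hc, he, hg, hr, heq⟩ := exists_four_coord K hK hx hy hxy hxK hyK
  intro k hk
  have hgk : g ⟨k, hk⟩ ∈ K ⊓ centralizer ({x * y} : Set G) :=
    ⟨(hg _).1, mem_centralizer_singleton_iff.2 (hg _).2.1⟩
  have hrg := zpowers_le.2 hgk (hr (g ⟨k, hk⟩))
  rw [show k = _ from heq ⟨k, hk⟩]
  refine mul_mem (mem_sup_left ⟨(hc _).1, mem_centralizer_singleton_iff.2 (hc _).2⟩) (mem_sup_right ?_)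
  refine mul_mem (mul_mem (mem_sup_right hrg) (mem_sup_left ?_)) (mem_sup_right hrg)
  exact ⟨(he _).1, mem_centralizer_singleton_iff.2 (he _).2.1⟩

/-- The exact bound: the part fixed by the whole four-group is counted once. -/
theorem card_mul_four_le (K : Subgroup G) (hK : Odd (Nat.card K)) {x y : G}
    (hx : x * x = 1) (hy : y * y = 1) (hxy : x * y = y * x)
    (hxK : ∀ k ∈ K, x * k * x⁻¹ ∈ K) (hyK : ∀ k ∈ K, y * k * y⁻¹ ∈ K) :
    Nat.card K * Nat.card ↥(K ⊓ centralizer ({x} : Set G) ⊓ centralizer ({y} : Set G)) ^ 2 ≤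
      Nat.card ↥(K ⊓ centralizer ({x} : Set G)) *
      (Nat.card ↥(K ⊓ centralizer ({y} : Set G)) * Nat.card ↥(K ⊓ centralizer ({x * y} : Set G))) := by
  classical
  obtain ⟨c, e, g, r, hc, he, hg, hr, heq⟩ := exists_four_coord K hK hx hy hxy hxK hyK
  set C := K ⊓ centralizer ({x} : Set G) ⊓ centralizer ({y} : Set G) with hC
  let I (w : G) : Type u := {a : G // a ∈ K ∧ Commute a w ∧ x * a * x⁻¹ = a⁻¹}
  have hI : ∀ w : G, (∀ b ∈ C, Commute b w) → Nat.card C * Nat.card (I w) ≤ Nat.card ↥(K ⊓ centralizer ({w} : Set G)) := by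
    intro w hw
    rw [← Nat.card_prod]
    refine Nat.card_le_card_of_injective (fun p => (⟨(p.1 : G) * p.2.1, mul_mem p.1.2.1.1 p.2.2.1,
      mem_centralizer_singleton_iff.2 ((hw _ p.1.2).mul_left p.2.2.2.1)⟩ : ↥(K ⊓ centralizer ({w} : Set G)))) ?_
    rintro ⟨b, a, ha⟩ ⟨b', a', ha'⟩ h
    replace h : (b : G) * a = b' * a' := congrArg Subtype.val h
    have hb : ∀ d : C, x * (d : G) * x⁻¹ = d := fun d => by
      rw [← (mem_centralizer_singleton_iff.1 d.2.1.2 : (d : G) * x = x * d), mul_inv_cancel_right]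
    have h2 : (b : G) * a⁻¹ = b' * a'⁻¹ := by
      rw [← ha.2.2, ← ha'.2.2]
      calc (b : G) * (x * a * x⁻¹) = x * b * x⁻¹ * (x * a * x⁻¹) := by rw [hb]
        _ = x * (b * a) * x⁻¹ := by group
        _ = x * (b' * a') * x⁻¹ := by rw [h]
        _ = x * b' * x⁻¹ * (x * a' * x⁻¹) := by group
        _ = _ := by rw [hb]
    have h3 : a * a = a' * a' := by
      calc a * a = ((b : G) * a⁻¹)⁻¹ * ((b : G) * a) := by group
        _ = ((b' : G) * a'⁻¹)⁻¹ * ((b' : G) * a') := by rw [h2, h]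
        _ = _ := by group
    obtain ⟨m, hm⟩ := hK
    have key : ∀ d : G, d ∈ K → (d * d) ^ (m + 1) = d := fun d hd => by
      have h1 : d ^ Nat.card K = 1 := orderOf_dvd_iff_pow_eq_one.1 (orderOf_dvd_natCard _ hd)
      rw [← pow_two, ← pow_mul, show 2 * (m + 1) = Nat.card K + 1 by omega, pow_succ, h1, one_mul]
    have e1 : a = a' := by rw [← key a ha.1, ← key a' ha'.1, h3]
    subst e1
    exact Prod.ext (Subtype.ext (mul_right_cancel h)) rfl
  have hF := Nat.card_le_card_of_injective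
    (fun k : K => ((⟨c k, (hc k).1, mem_centralizer_singleton_iff.2 (hc k).2⟩ : ↥(K ⊓ centralizer ({x} : Set G))),
      (⟨e k, he k⟩ : I y), (⟨g k, hg k⟩ : I (x * y))))
    (fun k k' h => by
      obtain ⟨h1, h2⟩ := Prod.mk.inj h
      obtain ⟨h2, h3⟩ := Prod.mk.inj h2
      exact Subtype.ext (by
        rw [heq k, heq k', show c k = c k' from congrArg Subtype.val h1, show e k = e k' from congrArg Subtype.val h2,
          show g k = g k' from congrArg Subtype.val h3]))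
  rw [Nat.card_prod, Nat.card_prod] at hF
  have hy' : ∀ b ∈ C, Commute b y := fun b hb => mem_centralizer_singleton_iff.1 hb.2
  have hxy' : ∀ b ∈ C, Commute b (x * y) := fun b hb =>
    (show Commute b x from mem_centralizer_singleton_iff.1 hb.1.2).mul_right (hy' b hb)
  calc Nat.card K * Nat.card C ^ 2
      ≤ Nat.card ↥(K ⊓ centralizer ({x} : Set G)) * (Nat.card (I y) * Nat.card (I (x * y))) * Nat.card C ^ 2 :=
        Nat.mul_le_mul_right _ hF
    _ = Nat.card ↥(K ⊓ centralizer ({x} : Set G)) *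
        ((Nat.card C * Nat.card (I y)) * (Nat.card C * Nat.card (I (x * y)))) := by ring
    _ ≤ _ := Nat.mul_le_mul_left _ (Nat.mul_le_mul (hI y hy') (hI (x * y) hxy'))

/-- A product of two subgroups inside a third. -/
theorem card_mul_le {A B R : Subgroup G} (hA : A ≤ R) (hB : B ≤ R) :
    Nat.card A * Nat.card B ≤ Nat.card R * Nat.card ↥(A ⊓ B) := by
  classical
  let f : A × B → R := fun p => ⟨(p.1 : G) * p.2, mul_mem (hA p.1.2) (hB p.2.2)⟩
  choose! s hs using fun (r : R) (h : ∃ p, f p = r) => h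
  rw [← Nat.card_prod, ← Nat.card_prod]
  refine Nat.card_le_card_of_injective (fun p : A × B => ((f p,
    (⟨((s (f p)).1 : G)⁻¹ * p.1, A.mul_mem (A.inv_mem (s (f p)).1.2) p.1.2, ?_⟩ : ↥(A ⊓ B))))) ?_
  · have h := congrArg Subtype.val (hs (f p) ⟨p, rfl⟩)
    have e : ((s (f p)).1 : G)⁻¹ * p.1 = (s (f p)).2 * (p.2 : G)⁻¹ := by
      rw [eq_mul_inv_iff_mul_eq, mul_assoc, ← show ((s (f p)).1 : G) * (s (f p)).2 = p.1 * p.2 from h,
        inv_mul_cancel_left]
    rw [e]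
    exact B.mul_mem (s (f p)).2.2 (B.inv_mem p.2.2)
  · intro p q h
    obtain ⟨h1, h2⟩ := Prod.mk.inj h
    replace h2 : ((s (f p)).1 : G)⁻¹ * p.1 = ((s (f q)).1 : G)⁻¹ * q.1 :=
      congrArg (fun x : ↥(A ⊓ B) => (x : G)) h2
    rw [h1] at h2
    have e1 : p.1 = q.1 := Subtype.ext (mul_left_cancel h2)
    have e2 := congrArg Subtype.val h1
    simp only [f, e1] at e2
    exact Prod.ext e1 (Subtype.ext (mul_left_cancel e2))

/-- An element acting on an odd group with square inverting it and no smaller orbit: the order is `1` mod `4`. -/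
theorem card_mod_four (A : Subgroup G) (hA : Odd (Nat.card A)) {g : G} (hg : ∀ a ∈ A, g * a * g⁻¹ ∈ A)
    (hinv : ∀ a ∈ A, g * (g * a * g⁻¹) * g⁻¹ = a⁻¹) : Nat.card A % 4 = 1 := by
  classical
  haveI : Fintype A := Fintype.ofFinite _
  let σ : Equiv.Perm A := Equiv.ofBijective (fun a => ⟨g * a * g⁻¹, hg a a.2⟩)
    (Finite.injective_iff_bijective.1 fun a b h =>
      Subtype.ext (mul_left_cancel (mul_right_cancel (congrArg Subtype.val h : g * (a : G) * g⁻¹ = g * b * g⁻¹))))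
  have h2 : ∀ a, σ (σ a) = a⁻¹ := fun a => Subtype.ext (hinv a a.2)
  have hone : ∀ a : A, a⁻¹ = a → a = 1 := fun a h => by
    have hd : orderOf a ∣ 2 := orderOf_dvd_of_pow_eq_one (by rw [pow_two]; nth_rw 1 [← h]; exact inv_mul_cancel a)
    refine orderOf_eq_one_iff.1 (Nat.eq_one_of_dvd_coprimes ?_ hd (orderOf_dvd_natCard a))
    exact Nat.coprime_two_left.2 hA
  have hone' : σ (1 : A) = 1 := Subtype.ext (by show g * (1 : G) * g⁻¹ = 1; group)
  have hs4 : ∀ a, σ (σ (σ (σ a))) = a := fun a => by rw [h2, h2, inv_inv]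
  let f : A → Finset A := fun a => {a, σ a, σ (σ a), σ (σ (σ a))}
  set S : Finset A := Finset.univ.erase 1 with hS
  have hne : ∀ a : A, a ≠ 1 → σ a ≠ a ∧ σ (σ a) ≠ a ∧ σ a ≠ 1 := fun a ha => by
    refine ⟨fun e => ha (hone a (by rw [← h2 a, e, e])), fun e => ha (hone a (by rw [← h2 a, e])), fun e => ha ?_⟩
    exact σ.injective (e.trans hone'.symm)
  have hcard : ∀ a : A, a ≠ 1 → (f a).card = 4 := fun a ha => by
    obtain ⟨n1, n2, m1⟩ := hne a ha
    obtain ⟨n3, n4, m2⟩ := hne (σ a) m1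
    obtain ⟨n5, n6, m3⟩ := hne (σ (σ a)) m2
    have n7 : σ (σ (σ a)) ≠ a := fun e => n1 (by
      have := congrArg σ e
      rw [hs4] at this
      exact this.symm)
    simp only [f]
    rw [Finset.card_insert_of_notMem, Finset.card_insert_of_notMem, Finset.card_insert_of_notMem,
      Finset.card_singleton]
    · simp only [Finset.mem_singleton]; exact Ne.symm n5
    · simp only [Finset.mem_insert, Finset.mem_singleton, not_or]; exact ⟨Ne.symm n3, Ne.symm n4⟩
    · simp only [Finset.mem_insert, Finset.mem_singleton, not_or]; exact ⟨Ne.symm n1, Ne.symm n2, Ne.symm n7⟩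
  have hstep : ∀ a, f (σ a) = f a := fun a => by
    simp only [f]
    rw [hs4]
    ext b
    simp only [Finset.mem_insert, Finset.mem_singleton]
    tauto
  have hsum : 4 ∣ S.card := by
    rw [Finset.card_eq_sum_card_image f S]
    refine Finset.dvd_sum fun O hO => ?_
    obtain ⟨a, ha, rfl⟩ := Finset.mem_image.1 hO
    have ha1 : a ≠ 1 := (Finset.mem_erase.1 ha).1
    rw [show S.filter (fun b => f b = f a) = f a from ?_, hcard a ha1]
    ext b
    simp only [Finset.mem_filter]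
    constructor
    · rintro ⟨-, e⟩
      rw [← e]
      simp [f]
    · intro hb
      simp only [f, Finset.mem_insert, Finset.mem_singleton] at hb
      obtain ⟨n1, n2, m1⟩ := hne a ha1
      have m2 := (hne _ m1).2.2
      have m3 := (hne _ m2).2.2
      rcases hb with rfl | rfl | rfl | rfl
      · exact ⟨ha, rfl⟩
      · exact ⟨Finset.mem_erase.2 ⟨m1, Finset.mem_univ _⟩, hstep a⟩
      · exact ⟨Finset.mem_erase.2 ⟨m2, Finset.mem_univ _⟩, by rw [hstep, hstep]⟩
      · exact ⟨Finset.mem_erase.2 ⟨m3, Finset.mem_univ _⟩, by rw [hstep, hstep, hstep]⟩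
  rw [hS, Finset.card_erase_of_mem (Finset.mem_univ _), Finset.card_univ, ← Nat.card_eq_fintype_card] at hsum
  have : 0 < Nat.card A := Nat.card_pos
  omega

/-- An element of prime order `q` acting on a `p`-group fixes a subgroup of complementary order. -/
theorem fix_or_dvd {p : ℕ} [Fact p.Prime] {U : Subgroup G} (hU : IsPGroup p U) {s : G} {q : ℕ} (hq : q.Prime)
    (hpq : q ≠ p) (hs : s ^ q = 1) (hn : ∀ u ∈ U, s * u * s⁻¹ ∈ U) :
    (∀ u ∈ U, Commute s u) ∨ ∃ i j, 0 < i ∧ Nat.card U = p ^ (i + j) ∧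
      Nat.card ↥(U ⊓ centralizer ({s} : Set G)) = p ^ j ∧ q ∣ p ^ i - 1 := by
  classical
  haveI : Fact q.Prime := ⟨hq⟩
  set C := U ⊓ centralizer ({s} : Set G) with hC
  obtain ⟨k, hk⟩ := IsPGroup.iff_card.1 hU
  obtain ⟨j, hj⟩ := IsPGroup.iff_card.1 (hU.to_le (inf_le_left : C ≤ U))
  have hjk : j ≤ k := (Nat.pow_dvd_pow_iff_le_right (Fact.out : p.Prime).one_lt).1
    (hk ▸ hj ▸ card_dvd_of_le (inf_le_left : C ≤ U))
  rcases hjk.eq_or_lt with rfl | hlt
  · left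
    intro u hu
    have : u ∈ C := (eq_of_le_of_card_ge (inf_le_left : C ≤ U) (by rw [hk, hj])).ge hu
    exact (show Commute u s from mem_centralizer_singleton_iff.1 this.2).symm
  right
  refine ⟨k - j, j, by omega, by rw [Nat.sub_add_cancel hjk, hk], hj, ?_⟩
  let Z := zpowers s
  have hZ : ∀ z : Z, ∀ u ∈ U, (z : G) * u * (z : G)⁻¹ ∈ U := fun z u hu =>
    (mem_normalizer_iff.1 ((zpowers_le.2 (mem_normalizer_fintype hn) : Z ≤ _) z.2) u).1 hu
  letI : MulAction Z U := {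
    smul := fun z u => ⟨(z : G) * u * (z : G)⁻¹, hZ z u u.2⟩
    one_smul := fun u => Subtype.ext (by show ((1 : Z) : G) * u * ((1 : Z) : G)⁻¹ = u; simp)
    mul_smul := fun z w u => Subtype.ext (by
      show ((z * w : Z) : G) * u * ((z * w : Z) : G)⁻¹ = (z : G) * ((w : G) * u * (w : G)⁻¹) * (z : G)⁻¹
      rw [Subgroup.coe_mul]; group) }
  have hZq : IsPGroup q Z := fun z => by
    obtain ⟨n, hn'⟩ := mem_zpowers_iff.1 z.2
    refine ⟨1, Subtype.ext ?_⟩
    rw [pow_one, SubmonoidClass.coe_pow, ← hn', ← zpow_natCast, ← zpow_mul, mul_comm, zpow_mul, zpow_natCast, hs,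
      one_zpow, OneMemClass.coe_one]
  have hmod := hZq.card_modEq_card_fixedPoints U
  have hfix : Nat.card (MulAction.fixedPoints Z U) = Nat.card C := by
    refine Nat.card_congr ⟨fun u => ⟨u.1, u.1.2, mem_centralizer_singleton_iff.2 ?_⟩,
      fun c => ⟨⟨c, c.2.1⟩, fun z => Subtype.ext ?_⟩, fun u => rfl, fun c => rfl⟩
    · have h := congrArg Subtype.val (u.2 ⟨s, mem_zpowers s⟩)
      exact (mul_inv_eq_iff_eq_mul.1 h).symm
    · obtain ⟨n, hn'⟩ := mem_zpowers_iff.1 z.2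
      show (z : G) * c * (z : G)⁻¹ = c
      rw [← hn']
      have : Commute (s ^ n) (c : G) :=
        (show Commute (c : G) s from mem_centralizer_singleton_iff.1 c.2.2).symm.zpow_left n
      rw [this.eq, mul_inv_cancel_right]
  rw [hfix, hj, hk] at hmod
  have hle : p ^ j ≤ p ^ k := Nat.pow_le_pow_right (Fact.out : p.Prime).pos hjk
  have hd : q ∣ p ^ j * (p ^ (k - j) - 1) := by
    rw [Nat.mul_sub, mul_one, ← pow_add, Nat.add_sub_cancel' hjk]
    exact (Nat.modEq_iff_dvd' hle).1 hmod.symm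
  rcases hq.dvd_mul.1 hd with h | h
  · exact absurd ((Nat.prime_dvd_prime_iff_eq hq Fact.out).1 (hq.dvd_of_dvd_pow h)) hpq
  · exact h

end Cfsg.Agent.DoubleCoverDeg
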