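import Cfsg.Agent.Lib.DoubleCoverDeg.Lifts
import Cfsg.Agent.Lib.DoubleCoverDeg.FourBound
import Cfsg.Agent.Lib.BrauerSuzuki.ZStar
import Cfsg.Agent.Lib.CharP.AxB
import Mathlib.GroupTheory.Perm.ViaEmbedding
import Mathlib.GroupTheory.FixedPointFree
import Mathlib.GroupTheory.Perm.Centralizer

/-!
S1645, degrees nine and ten: the centraliser of a lift of a three-cycle is its odd core times its part in the
centraliser of the involution, and the action of that part on the core is faithful.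
-/

set_option autoImplicit false
set_option linter.style.haveILetI false
set_option linter.unusedSectionVars false
set_option linter.constructorNameAsVariable false

namespace Cfsg.Agent.DoubleCoverDeg

open Cfsg Equiv Subgroup

universe u

variable {G : Type u} [Group G] [Finite G]

/-- The odd core of the centraliser of an element. -/
def oddCen (x : G) : Subgroup G :=
  (Cfsg.pPrimeCore 2 (centralizer ({x} : Set G))).map (centralizer ({x} : Set G)).subtype

theorem oddCen_le (x : G) : oddCen x ≤ centralizer ({x} : Set G) := map_subtype_le _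

theorem oddCen_comm {x w : G} (h : w ∈ oddCen x) : Commute w x := mem_centralizer_singleton_iff.1 (oddCen_le x h)

theorem odd_oddCen (x : G) : Odd (Nat.card (oddCen x)) :=
  Nat.coprime_two_right.1 (AxB.coprime_card_pPrimeCoreOf 2 _)

theorem oddCen_normal {x g w : G} (hg : Commute g x) (hw : w ∈ oddCen x) : g * w * g⁻¹ ∈ oddCen x :=
  (mem_normalizer_iff.1 (AxB.le_normalizer_map_subtype (Cfsg.pPrimeCore_normal 2 _)
    (mem_centralizer_singleton_iff.2 hg.eq)) w).1 hw

theorem oddCen_inv (x : G) : oddCen x⁻¹ = oddCen x := by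
  have h : centralizer ({x⁻¹} : Set G) = centralizer ({x} : Set G) := by
    ext g
    rw [mem_centralizer_singleton_iff, mem_centralizer_singleton_iff]
    exact Commute.inv_right_iff
  unfold oddCen
  rw [h]

/-- Transport of the core. -/
theorem oddCen_map (g x : G) {w : G} (hw : w ∈ oddCen x) : g * w * g⁻¹ ∈ oddCen (g * x * g⁻¹) := by
  refine AxB.le_pPrimeCoreOf (p := 2) (H := centralizer ({g * x * g⁻¹} : Set G))
    (N := (oddCen x).map (MulAut.conj g).toMonoidHom) ?_ ?_ ?_ ⟨w, hw, rfl⟩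
  · rintro _ ⟨v, hv, rfl⟩
    exact mem_centralizer_singleton_iff.2 ((oddCen_comm hv).map (MulAut.conj g).toMonoidHom).eq
  · intro h hh
    refine mem_normalizer_fintype ?_
    rintro _ ⟨v, hv, rfl⟩
    have hc : Commute (g⁻¹ * h * g) x := by
      have := (show Commute h (g * x * g⁻¹) from mem_centralizer_singleton_iff.1 hh).map
        (MulAut.conj g⁻¹).toMonoidHom
      simpa [MulAut.conj_apply, mul_assoc] using this
    refine ⟨_, oddCen_normal hc hv, ?_⟩
    show g * (g⁻¹ * h * g * v * (g⁻¹ * h * g)⁻¹) * g⁻¹ = h * (g * v * g⁻¹) * h⁻¹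
    group
  · rw [card_map_of_injective (MulAut.conj g).injective]
    exact AxB.coprime_card_pPrimeCoreOf 2 _

theorem oddCen_conj_inv {g x w : G} (hg : g * x * g⁻¹ = x⁻¹) (hw : w ∈ oddCen x) : g * w * g⁻¹ ∈ oddCen x := by
  have := oddCen_map g x hw
  rwa [hg, oddCen_inv] at this

namespace Ctx

variable {n : ℕ} (D : Ctx G n)

/-- The standard points. -/
noncomputable def emb (h : 9 ≤ n) : Perm (Fin 9) →* Perm (Fin n) := Perm.viaEmbeddingHom (Fin.castLEEmb h)

theorem emb_apply (h : 9 ≤ n) (σ : Perm (Fin 9)) (i : Fin 9) :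
    emb h σ (Fin.castLE h i) = Fin.castLE h (σ i) := Perm.viaEmbedding_apply σ (Fin.castLEEmb h) i

theorem emb_out (h : 9 ≤ n) (σ : Perm (Fin 9)) (j : Fin n) (hj : 9 ≤ (j : ℕ)) : emb h σ j = j :=
  Perm.viaEmbedding_apply_of_notMem σ (Fin.castLEEmb h) j fun ⟨i, hi⟩ => by
    have : (i : ℕ) = j := congrArg Fin.val hi
    omega

theorem sign_emb (h : 9 ≤ n) (σ : Perm (Fin 9)) : Perm.sign (emb h σ) = Perm.sign σ := by
  classical
  simp only [emb, Perm.viaEmbeddingHom_apply, Perm.viaEmbedding]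
  convert Perm.sign_extendDomain σ _

/-- The standard three-cycle. -/
def c0 : Perm (Fin 9) := swap 0 1 * swap 1 2

/-- Two lifts of the same exponent are equal. -/
theorem lift_uniq {x y : D.X} {m : ℕ} (hm : Odd m) (hx : x ^ m = 1) (hy : y ^ m = 1) (h : D.p x = D.p y) :
    x = y := by
  rcases D.eq_or h with e | e
  · exact e
  · exfalso
    rw [e, Commute.mul_pow (D.z_comm y), D.z_pow_odd hm, hy, mul_one] at hx
    exact D.z_ne hx

theorem z_conj (y : D.X) : y * D.zX * y⁻¹ = D.zX := by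
  rw [← D.z_comm, mul_inv_cancel_right]

/-- A product of two disjoint transpositions is an involution. -/
theorem dbl_sq {α : Type*} [DecidableEq α] {a b c d : α} (hd : [a, b, c, d].Nodup) :
    swap a b * swap c d * (swap a b * swap c d) = 1 ∧ (swap a b * swap c d) a = b := by
  simp only [List.nodup_cons, List.mem_cons, List.not_mem_nil, or_false, not_or] at hd
  refine ⟨Equiv.ext fun t => ?_, ?_⟩
  · simp only [Perm.mul_apply, swap_apply_def, Perm.one_apply]
    grind
  · simp only [Perm.mul_apply, swap_apply_def]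
    grind

/-- A dbl permutation stays one under conjugation. -/
theorem isDbl_conj {g σ : Perm (Fin n)} (h : IsDbl σ) : IsDbl (g * σ * g⁻¹) := by
  obtain ⟨a, b, c, d, hd, rfl⟩ := h
  refine ⟨g a, g b, g c, g d, ?_, ?_⟩
  · exact List.Nodup.map g.injective hd
  · rw [show g * (swap a b * swap c d) * g⁻¹ = (g * swap a b * g⁻¹) * (g * swap c d * g⁻¹) by group,
      ← Equiv.swap_apply_apply, ← Equiv.swap_apply_apply]

/-- Even involutions moving at most seven points are double transpositions. -/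
theorem isDbl_of_support {τ : Perm (Fin n)} (hn : 4 ≤ n) (h2 : τ * τ = 1) (hs : Perm.sign τ = 1)
    (hsupp : τ.support.card ≤ 7) (h1 : τ ≠ 1) : IsDbl τ := by
  have hct : τ.cycleType = {2, 2} := by
    have hsum := τ.sum_cycleType
    have hrep : τ.cycleType = Multiset.replicate (Multiset.card τ.cycleType) 2 := by
      refine Multiset.eq_replicate_card.2 fun k hk => ?_
      have hk2 := Perm.two_le_of_mem_cycleType hk
      have hd : k ∣ 2 := (Perm.dvd_of_mem_cycleType hk).trans (orderOf_dvd_of_pow_eq_one (by rw [pow_two, h2]))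
      have := Nat.le_of_dvd two_pos hd
      omega
    have hne : Multiset.card τ.cycleType ≠ 0 := fun e => h1 (Perm.cycleType_eq_zero.1 (Multiset.card_eq_zero.1 e))
    rw [hrep] at hsum
    simp only [Multiset.sum_replicate, smul_eq_mul] at hsum
    have hev : Even (Multiset.card τ.cycleType) := by
      rw [Perm.sign_of_cycleType, hrep] at hs
      simp only [Multiset.sum_replicate, Multiset.card_replicate, smul_eq_mul] at hs
      rwa [pow_add, mul_comm _ 2, pow_mul, show ((-1 : ℤˣ) ^ 2) = 1 by decide, one_pow, one_mul,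
        neg_one_pow_eq_one_iff_even (by decide)] at hs
    obtain ⟨k, hk⟩ := hev
    have h' : Multiset.card τ.cycleType = 2 := by omega
    rw [hrep, h']
    rfl
  let a : Fin n := ⟨0, by omega⟩
  let b : Fin n := ⟨1, by omega⟩
  let c : Fin n := ⟨2, by omega⟩
  let d : Fin n := ⟨3, by omega⟩
  have hd : [a, b, c, d].Nodup := by simp [a, b, c, d, Fin.ext_iff]
  have hdbl : IsDbl (swap a b * swap c d) := ⟨a, b, c, d, hd, rfl⟩
  have hdis : Perm.Disjoint (swap a b) (swap c d) := fun x => by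
    simp only [a, b, c, d, swap_apply_def, Fin.ext_iff]
    split_ifs <;> simp_all <;> omega
  have hct' : (swap a b * swap c d).cycleType = {2, 2} := by
    rw [hdis.cycleType_mul, (Perm.isSwap_iff_cycleType).1 ⟨a, b, by simp [a, b, Fin.ext_iff], rfl⟩,
      (Perm.isSwap_iff_cycleType).1 ⟨c, d, by simp [c, d, Fin.ext_iff], rfl⟩]
    rfl
  obtain ⟨g, hg⟩ := isConj_iff.1 (Perm.isConj_iff_cycleType_eq.2 (hct'.trans hct.symm))
  exact hg ▸ isDbl_conj hdbl

theorem c0_facts : (∀ i : Fin 9, c0 i = i ↔ 3 ≤ (i : ℕ)) ∧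
    (∀ j : Fin 9, (j : ℕ) < 3 → j = 0 ∨ j = c0 0 ∨ j = c0 (c0 0)) ∧ c0 (c0 (c0 0)) = 0 ∧ c0 0 ≠ 0 ∧
    c0 (c0 0) ≠ 0 := by
  decide +kernel

theorem emb_c0_fix (h : 9 ≤ n) (i : Fin n) : emb h c0 i = i ↔ 3 ≤ (i : ℕ) := by
  by_cases hi : 9 ≤ (i : ℕ)
  · exact ⟨fun _ => by omega, fun _ => emb_out h c0 i hi⟩
  · have e : i = Fin.castLE h ⟨i, by omega⟩ := rfl
    rw [e, emb_apply, (Fin.castLE_injective h).eq_iff]
    exact c0_facts.1 _

/-- A permutation commuting with the three-cycle preserves the other points. -/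
theorem outside_iff (h : 9 ≤ n) {σ : Perm (Fin n)} (hc : Commute σ (emb h c0)) (i : Fin n) :
    3 ≤ (σ i : ℕ) ↔ 3 ≤ (i : ℕ) := by
  rw [← emb_c0_fix h, ← emb_c0_fix h]
  have e : emb h c0 (σ i) = σ (emb h c0 i) := (DFunLike.congr_fun hc.eq i).symm
  rw [e, σ.injective.eq_iff]

theorem c0_orbit (h : 9 ≤ n) (i : Fin n) (hi : ¬ 3 ≤ (i : ℕ)) :
    i = Fin.castLE h 0 ∨ i = emb h c0 (Fin.castLE h 0) ∨ i = emb h c0 (emb h c0 (Fin.castLE h 0)) := by
  rw [emb_apply, emb_apply]
  have key := c0_facts.2.1 ⟨i, by omega⟩ (Nat.lt_of_not_le hi)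
  have e : i = Fin.castLE h ⟨i, by omega⟩ := rfl
  rcases key with k | k | k <;> rw [k] at e
  exacts [Or.inl e, Or.inr (Or.inl e), Or.inr (Or.inr e)]

/-- Two permutations commuting with the three-cycle agree when they agree outside it and on one point of it. -/
theorem eq_of_outside (h : 9 ≤ n) {σ τ : Perm (Fin n)} (hσ : Commute σ (emb h c0)) (hτ : Commute τ (emb h c0))
    (hout : ∀ i : Fin n, 3 ≤ (i : ℕ) → σ i = τ i) (h0 : σ (Fin.castLE h 0) = τ (Fin.castLE h 0)) : σ = τ := by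
  have hs : ∀ i, σ (emb h c0 i) = emb h c0 (σ i) := fun i => DFunLike.congr_fun hσ.eq i
  have ht : ∀ i, τ (emb h c0 i) = emb h c0 (τ i) := fun i => DFunLike.congr_fun hτ.eq i
  refine Equiv.ext fun i => ?_
  by_cases hi : 3 ≤ (i : ℕ)
  · exact hout i hi
  · rcases c0_orbit h i hi with rfl | rfl | rfl
    · exact h0
    · rw [hs, ht, h0]
    · rw [hs, hs, ht, ht, h0]

theorem zero_image (h : 9 ≤ n) {σ : Perm (Fin n)} (hc : Commute σ (emb h c0)) :
    σ (Fin.castLE h 0) = Fin.castLE h 0 ∨ σ (Fin.castLE h 0) = emb h c0 (Fin.castLE h 0) ∨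
      σ (Fin.castLE h 0) = emb h c0 (emb h c0 (Fin.castLE h 0)) :=
  c0_orbit h _ (by rw [outside_iff h hc]; simp)

/-- A permutation commuting with the three-cycle and fixing the other points is a power of it. -/
theorem inside_pow (h : 9 ≤ n) {σ : Perm (Fin n)} (hc : Commute σ (emb h c0))
    (hfix : ∀ i : Fin n, 3 ≤ (i : ℕ) → σ i = i) : σ = 1 ∨ σ = emb h c0 ∨ σ = emb h c0 * emb h c0 := by
  have hf : ∀ i : Fin n, 3 ≤ (i : ℕ) → emb h c0 i = i := fun i => (emb_c0_fix h i).2
  rcases zero_image h hc with e | e | e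
  · exact Or.inl (eq_of_outside h hc (Commute.one_left _) hfix e)
  · exact Or.inr (Or.inl (eq_of_outside h hc (Commute.refl _) (fun i hi => (hfix i hi).trans (hf i hi).symm) e))
  · exact Or.inr (Or.inr (eq_of_outside h hc ((Commute.refl _).mul_left (Commute.refl _))
      (fun i hi => by rw [Perm.mul_apply, hf i hi, hf i hi, hfix i hi]) e))

/-- An involution commuting with the three-cycle fixes it pointwise. -/
theorem invol_fix (h : 9 ≤ n) {σ : Perm (Fin n)} (hc : Commute σ (emb h c0)) (h2 : σ * σ = 1) (i : Fin n)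
    (hi : ¬ 3 ≤ (i : ℕ)) : σ i = i := by
  have hs : ∀ i, σ (emb h c0 i) = emb h c0 (σ i) := fun i => DFunLike.congr_fun hc.eq i
  set o := Fin.castLE h (0 : Fin 9) with ho
  have h22 : σ (σ o) = o := DFunLike.congr_fun h2 o
  have h0 : σ o = o := by
    rcases zero_image h hc with e | e | e
    · exact e
    · rw [e, hs, e, ho, emb_apply, emb_apply, (Fin.castLE_injective h).eq_iff] at h22
      exact absurd h22 c0_facts.2.2.2.2
    · rw [e, hs, hs, e, ho, emb_apply, emb_apply, emb_apply, emb_apply, (Fin.castLE_injective h).eq_iff,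
        c0_facts.2.2.1] at h22
      exact absurd h22 c0_facts.2.2.2.1
  rcases c0_orbit h i hi with rfl | rfl | rfl
  · exact h0
  · rw [hs, h0]
  · rw [hs, hs, h0]

section Three

variable (h : 9 ≤ n) {x : D.X} (hx : D.p x = emb h c0) (hx3 : x ^ 3 = 1)
include hx hx3

theorem x_ne : x ≠ 1 := fun e => by
  have := DFunLike.congr_fun (hx.symm.trans (by rw [e, map_one])) (Fin.castLE h 0)
  rw [emb_apply, Perm.one_apply, (Fin.castLE_injective h).eq_iff] at this
  exact absurd this (by decide)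

theorem comm_x {y : D.X} : Commute y x ↔ Commute (D.p y) (emb h c0) :=
  ⟨fun e => hx ▸ e.map D.p, fun e => D.comm_odd (m := 3) (by decide) hx3 (hx.symm ▸ e)⟩

/-- The restriction to the other points. -/
noncomputable def rho : centralizer ({x} : Set D.X) →* Perm {i : Fin n // 3 ≤ (i : ℕ)} where
  toFun y := (D.p y).subtypePerm fun i =>
    outside_iff h ((D.comm_x h hx hx3).1 (mem_centralizer_singleton_iff.1 y.2)) i
  map_one' := Equiv.ext fun i => Subtype.ext (DFunLike.congr_fun (map_one D.p) (i : Fin n))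
  map_mul' y w := Equiv.ext fun i => Subtype.ext (DFunLike.congr_fun (map_mul D.p (y : D.X) w) (i : Fin n))

theorem rho_apply (y : centralizer ({x} : Set D.X)) (i : {i : Fin n // 3 ≤ (i : ℕ)}) :
    ((D.rho h hx hx3 y i : {i : Fin n // 3 ≤ (i : ℕ)}) : Fin n) = D.p y i := rfl

/-- Every even permutation of the other points is induced. -/
theorem rho_surj (τ : Perm {i : Fin n // 3 ≤ (i : ℕ)}) (hτ : Perm.sign τ = 1) :
    ∃ k, D.rho h hx hx3 k = τ ∧ D.p k = Perm.ofSubtype τ := by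
  obtain ⟨k, hk⟩ := D.p_surj (σ := Perm.ofSubtype τ) (by rw [Perm.sign_ofSubtype]; exact hτ)
  have hkc : Commute (D.p k) (emb h c0) := by
    rw [hk]
    refine Equiv.ext fun i => ?_
    simp only [Perm.mul_apply]
    by_cases hi : 3 ≤ (i : ℕ)
    · rw [(emb_c0_fix h i).2 hi, (emb_c0_fix h _).2]
      rw [Perm.ofSubtype_apply_of_mem τ (a := i) hi]
      exact (τ ⟨i, hi⟩).2
    · have hout : ¬ 3 ≤ ((emb h c0 i : Fin n) : ℕ) := fun hh => hi ((outside_iff h (Commute.refl _) i).1 hh)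
      rw [Perm.ofSubtype_apply_of_not_mem τ (a := i) hi, Perm.ofSubtype_apply_of_not_mem τ (a := emb h c0 i) hout]
  refine ⟨⟨k, mem_centralizer_singleton_iff.2 ((D.comm_x h hx hx3).2 hkc).eq⟩,
    Equiv.ext fun i => Subtype.ext ?_, hk⟩
  rw [rho_apply]
  show D.p k i = _
  rw [hk, Perm.ofSubtype_apply_coe]

/-- A normal part of the centraliser acts on the other points through a normal subgroup of the even ones. -/
theorem rho_normal (K : Subgroup (centralizer ({x} : Set D.X))) [hK : K.Normal] :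
    (K.map (D.rho h hx hx3)).subgroupOf (alternatingGroup {i : Fin n // 3 ≤ (i : ℕ)}) = ⊥ ∨
    (K.map (D.rho h hx hx3)).subgroupOf (alternatingGroup {i : Fin n // 3 ≤ (i : ℕ)}) = ⊤ := by
  have h5 : 5 ≤ Nat.card {i : Fin n // 3 ≤ (i : ℕ)} := by
    refine le_trans ?_ (Nat.card_le_card_of_injective
      (fun j : Fin 5 => (⟨⟨(j : ℕ) + 3, by omega⟩, by simp⟩ : {i : Fin n // 3 ≤ (i : ℕ)})) ?_)
    · simp
    · intro a b e
      have := congrArg (fun q : {i : Fin n // 3 ≤ (i : ℕ)} => ((q : Fin n) : ℕ)) e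
      exact Fin.ext (by simpa using this)
  haveI := alternatingGroup.isSimpleGroup (α := {i : Fin n // 3 ≤ (i : ℕ)}) h5
  refine Subgroup.Normal.eq_bot_or_eq_top ⟨?_⟩
  rintro σ ⟨u, hu, eu⟩ τ
  obtain ⟨k, hk, -⟩ := D.rho_surj h hx hx3 τ (Perm.mem_alternatingGroup.1 τ.2)
  refine ⟨k * u * k⁻¹, hK.conj_mem u hu k, ?_⟩
  rw [map_mul, map_mul, map_inv, hk, eu]
  rfl

/-- An element of odd exponent acts by an even permutation of the other points. -/
theorem rho_sign {y : centralizer ({x} : Set D.X)} {m : ℕ} (hm : Odd m) (hy : y ^ m = 1) :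
    Perm.sign (D.rho h hx hx3 y) = 1 := by
  have h1 : Perm.sign (D.rho h hx hx3 y) ^ m = 1 := by rw [← map_pow, ← map_pow, hy, map_one, map_one]
  rcases Int.units_eq_one_or (Perm.sign (D.rho h hx hx3 y)) with e | e
  · exact e
  · rw [e, hm.neg_one_pow] at h1; exact absurd h1 (by decide)

/-- The involution is the only one of its centraliser commuting with the lift. -/
theorem only_invol (hn : n ≤ 10) {v : D.X} (hv : v * v = 1) (hvx : Commute v x) : v = 1 ∨ v = D.zX := by
  by_contra hcon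
  have hp : D.p v ≠ 1 := fun e => hcon (D.p_eq_one.1 e)
  have hc := (D.comm_x h hx hx3).1 hvx
  have h2 : D.p v * D.p v = 1 := by rw [← map_mul, hv, map_one]
  have hfix := invol_fix h hc h2
  have hsupp : (D.p v).support.card ≤ 7 := by
    refine le_trans (Finset.card_le_card_of_injOn (fun i : Fin n => (i : ℕ) - 3) (t := Finset.range 7)
      (fun i _ => Finset.mem_range.2 (show (i : ℕ) - 3 < 7 by omega)) fun a ha b hb e => ?_) (by simp)
    have ha' : 3 ≤ (a : ℕ) := not_not.1 fun hlt => Perm.mem_support.1 ha (hfix a hlt)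
    have hb' : 3 ≤ (b : ℕ) := not_not.1 fun hlt => Perm.mem_support.1 hb (hfix b hlt)
    exact Fin.ext (by simp only at e; omega)
  have hsq := D.sq_double (by omega) (isDbl_of_support (by omega) h2 (D.sign_p v) hsupp hp)
  exact D.z_ne (hsq.symm.trans hv)

/-- **The centraliser of the lift is its odd core times the part in the centraliser of the involution.** -/
theorem cen_split (hn : n ≤ 10) {g : G} (hg : Commute g (x : G)) :
    ∃ w ∈ oddCen (x : G), ∃ c : D.X, Commute c x ∧ g = w * c := by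
  classical
  set C := centralizer ({(x : G)} : Set G) with hC
  have hzC : D.z ∈ C := mem_centralizer_singleton_iff.2 (mem_centralizer_singleton_iff.1 x.2).symm
  have hzo : orderOf (⟨D.z, hzC⟩ : C) = 2 := by rw [Subgroup.orderOf_mk, D.ord]
  have hiso : Cfsg.IsIsolated (⟨D.z, hzC⟩ : C) := by
    intro k hk
    set v := k * ⟨D.z, hzC⟩ * k⁻¹ with hv
    have hvX : (v : G) ∈ D.X := mem_centralizer_singleton_iff.2 (congrArg Subtype.val hk.eq).symm
    have hvv : v * v = 1 := by
      rw [hv, show ∀ a b : C, a * b * a⁻¹ * (a * b * a⁻¹) = a * (b * b) * a⁻¹ from fun a b => by group]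
      rw [show (⟨D.z, hzC⟩ : C) * ⟨D.z, hzC⟩ = 1 by rw [← pow_two, ← hzo, pow_orderOf_eq_one], mul_one,
        mul_inv_cancel]
    have hvne : v ≠ 1 := fun e => by
      rw [hv, conj_eq_one_iff] at e
      rw [e, orderOf_one] at hzo
      norm_num at hzo
    rcases D.only_invol h hx hx3 hn (v := ⟨v, hvX⟩) (Subtype.ext (congrArg Subtype.val hvv :))
      (Subtype.ext (mem_centralizer_singleton_iff.1 v.2)) with e | e
    · exact absurd (Subtype.ext (congrArg Subtype.val e :) : v = 1) hvne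
    · exact Subtype.ext (congrArg Subtype.val e :)
  have hy' := BrauerSuzuki.zStar C ⟨D.z, hzC⟩ hzo hiso ⟨g, mem_centralizer_singleton_iff.2 hg.eq⟩
  set y := g * D.z * g⁻¹ * D.z⁻¹ with hy
  have hyW : y ∈ oddCen (x : G) := ⟨_, hy', rfl⟩
  have hzz : D.z * D.z = 1 := congrArg Subtype.val D.z_sq
  have hzi : D.z⁻¹ = D.z := inv_eq_of_mul_eq_one_right hzz
  have hzy : D.z * y * D.z⁻¹ = y⁻¹ := by
    rw [hy, hzi]
    calc D.z * (g * D.z * g⁻¹ * D.z) * D.z = D.z * g * D.z * g⁻¹ * (D.z * D.z) := by group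
      _ = D.z⁻¹ * g * D.z⁻¹ * g⁻¹ := by rw [hzz, hzi, mul_one]
      _ = _ := by group
  obtain ⟨m, hm⟩ := odd_oddCen (x : G)
  set r := y ^ (m + 1) with hr
  have hrr : r * r = y := by
    have h1 : y ^ Nat.card (oddCen (x : G)) = 1 := orderOf_dvd_iff_pow_eq_one.1 (orderOf_dvd_natCard _ hyW)
    rw [hr, ← pow_add, show m + 1 + (m + 1) = Nat.card (oddCen (x : G)) + 1 by omega, pow_succ, h1, one_mul]
  have hzr : D.z * r * D.z⁻¹ = r⁻¹ := by rw [hr, ← conj_pow, hzy, inv_pow]
  have hrW : r ∈ oddCen (x : G) := pow_mem hyW _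
  have hgz : g * D.z * g⁻¹ = r * r * D.z := by rw [hrr, hy, inv_mul_cancel_right]
  have hcX : r⁻¹ * g ∈ D.X := by
    refine mem_centralizer_singleton_iff.2 (mul_inv_eq_iff_eq_mul.1 ?_)
    calc r⁻¹ * g * D.z * (r⁻¹ * g)⁻¹ = r⁻¹ * (g * D.z * g⁻¹) * r := by group
      _ = r * (D.z * r * D.z⁻¹) * D.z := by rw [hgz]; group
      _ = D.z := by rw [hzr, mul_inv_cancel, one_mul]
  refine ⟨r, hrW, ⟨r⁻¹ * g, hcX⟩, Subtype.ext ?_, by rw [mul_inv_cancel_left]⟩
  exact ((oddCen_comm hrW).inv_left.mul_left hg).eq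

/-- A subgroup of odd order normalised by the centraliser meets it in powers of the lift only. -/
theorem odd_normal (N : Subgroup G) (hN : Odd (Nat.card N)) (hnorm : ∀ k : D.X, Commute k x → ∀ u ∈ N,
    (k : G) * u * (k : G)⁻¹ ∈ N) {w : D.X} (hw : (w : G) ∈ N) (hwx : Commute w x) :
    w = 1 ∨ w = x ∨ w = x * x := by
  classical
  set H := centralizer ({x} : Set D.X) with hH
  let K : Subgroup H := N.comap (D.X.subtype.comp H.subtype)
  haveI : K.Normal := ⟨fun u hu k => hnorm k (mem_centralizer_singleton_iff.1 k.2) _ hu⟩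
  have hK : Odd (Nat.card K) := hN.of_dvd_nat (card_comap_dvd_of_injective N
    (D.X.subtype.comp H.subtype) (D.X.subtype_injective.comp H.subtype_injective))
  have hbot := (D.rho_normal h hx hx3 K).resolve_right fun htop => by
    have h3 : 3 < n := by omega
    let a : {i : Fin n // 3 ≤ (i : ℕ)} := ⟨⟨3, by omega⟩, le_rfl⟩
    let b : {i : Fin n // 3 ≤ (i : ℕ)} := ⟨⟨4, by omega⟩, by simp⟩
    let c : {i : Fin n // 3 ≤ (i : ℕ)} := ⟨⟨5, by omega⟩, by simp⟩
    let d : {i : Fin n // 3 ≤ (i : ℕ)} := ⟨⟨6, by omega⟩, by simp⟩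
    have hτ : Perm.sign (swap a b * swap c d) = 1 := by
      rw [map_mul, Perm.sign_swap (by simp [a, b, Subtype.ext_iff, Fin.ext_iff]),
        Perm.sign_swap (by simp [c, d, Subtype.ext_iff, Fin.ext_iff])]
      rfl
    have hnd : [a, b, c, d].Nodup := by simp [a, b, c, d, Subtype.ext_iff, Fin.ext_iff]
    obtain ⟨u, hu, eu⟩ :=
      (show (⟨_, Perm.mem_alternatingGroup.2 hτ⟩ : alternatingGroup _) ∈ _ from htop ▸ mem_top _)
    replace eu : D.rho h hx hx3 u = swap a b * swap c d := eu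
    have h1 : D.rho h hx hx3 u ^ Nat.card K = 1 := by
      rw [← map_pow, show u ^ Nat.card K = 1 from orderOf_dvd_iff_pow_eq_one.1 (orderOf_dvd_natCard K hu), map_one]
    have h2 : D.rho h hx hx3 u ^ 2 = 1 := by
      rw [eu, pow_two]
      exact (dbl_sq hnd).1
    have h3' : D.rho h hx hx3 u = 1 := by
      obtain ⟨q, hq⟩ := hK
      rwa [hq, pow_succ, pow_mul, h2, one_pow, one_mul] at h1
    have := DFunLike.congr_fun (eu.symm.trans h3') a
    rw [(dbl_sq hnd).2, Perm.one_apply] at this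
    exact absurd this (by simp [a, b, Subtype.ext_iff, Fin.ext_iff])
  have hwH : w ∈ H := mem_centralizer_singleton_iff.2 hwx.eq
  have hwK : (⟨w, hwH⟩ : H) ∈ K := hw
  have hwm : w ^ Nat.card K = 1 :=
    congrArg Subtype.val (orderOf_dvd_iff_pow_eq_one.1 (orderOf_dvd_natCard K hwK) :)
  have hsgn := D.rho_sign h hx hx3 hK (orderOf_dvd_iff_pow_eq_one.1 (orderOf_dvd_natCard K hwK))
  have hmem : (⟨_, Perm.mem_alternatingGroup.2 hsgn⟩ : alternatingGroup {i : Fin n // 3 ≤ (i : ℕ)}) ∈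
      (K.map (D.rho h hx hx3)).subgroupOf (alternatingGroup {i : Fin n // 3 ≤ (i : ℕ)}) := ⟨_, hwK, rfl⟩
  rw [hbot, Subgroup.mem_bot] at hmem
  have hfix : ∀ i : Fin n, 3 ≤ (i : ℕ) → D.p w i = i := fun i hi => by
    have h1 : D.rho h hx hx3 ⟨w, hwH⟩ = 1 := congrArg Subtype.val hmem
    have h2 := congrArg Subtype.val (DFunLike.congr_fun h1 ⟨i, hi⟩)
    rwa [rho_apply, Perm.one_apply] at h2
  have key : ∀ y : D.X, y ^ 3 = 1 → D.p w = D.p y → w = y := fun y hy e =>
    D.lift_uniq (hK.mul (by decide : Odd 3)) (by rw [pow_mul, hwm, one_pow])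
      (by rw [mul_comm, pow_mul, hy, one_pow]) e
  rcases inside_pow h ((D.comm_x h hx hx3).1 hwx) hfix with e | e | e
  · exact Or.inl (key 1 (one_pow _) (by rw [e, map_one]))
  · exact Or.inr (Or.inl (key x hx3 (by rw [e, hx])))
  · refine Or.inr (Or.inr (key (x * x) ?_ (by rw [e, map_mul, hx])))
    rw [← pow_two, ← pow_mul, mul_comm, pow_mul, hx3, one_pow]

/-- An element moving the other points centralises no subgroup on which the involution acts non-trivially. -/
theorem faithful (U : Subgroup G) (hnorm : ∀ k : D.X, Commute k x → ∀ u ∈ U, (k : G) * u * (k : G)⁻¹ ∈ U)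
    {c : D.X} {m : ℕ} (hm : Odd m) (hcm : c ^ m = 1) (hcx : Commute c x)
    (hmove : ∃ i : Fin n, 3 ≤ (i : ℕ) ∧ D.p c i ≠ i) (hfix : ∀ u ∈ U, Commute (c : G) u) :
    ∀ u ∈ U, Commute D.z u := by
  classical
  set H := centralizer ({x} : Set D.X) with hH
  let K : Subgroup H := (centralizer (U : Set G)).comap (D.X.subtype.comp H.subtype)
  haveI : K.Normal := ⟨fun u hu k => mem_centralizer_iff.2 fun a ha => by
    have h1 := hnorm (k : D.X)⁻¹ (show Commute (k : D.X) x from mem_centralizer_singleton_iff.1 k.2).inv_left a ha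
    have h2 : ((k : D.X) : G)⁻¹ * a * ((k : D.X) : G)⁻¹⁻¹ * ((u : D.X) : G) =
        ((u : D.X) : G) * (((k : D.X) : G)⁻¹ * a * ((k : D.X) : G)⁻¹⁻¹) := mem_centralizer_iff.1 hu _ h1
    have h3 : Commute (((k : D.X) : G)⁻¹ * a * ((k : D.X) : G)⁻¹⁻¹) ((u : D.X) : G) := h2
    have h4 := h3.map (MulAut.conj ((k : D.X) : G)).toMonoidHom
    show a * (((k : D.X) : G) * ((u : D.X) : G) * ((k : D.X) : G)⁻¹) =
      ((k : D.X) : G) * ((u : D.X) : G) * ((k : D.X) : G)⁻¹ * a
    simpa [MulAut.conj_apply, mul_assoc] using h4.eq⟩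
  have hcH : c ∈ H := mem_centralizer_singleton_iff.2 hcx.eq
  have hcK : (⟨c, hcH⟩ : H) ∈ K := mem_centralizer_iff.2 fun a ha => (hfix a ha).eq.symm
  have hsgn := D.rho_sign h hx hx3 hm (y := ⟨c, hcH⟩) (Subtype.ext hcm)
  have htop := (D.rho_normal h hx hx3 K).resolve_left fun hbot => by
    have hmem : (⟨_, Perm.mem_alternatingGroup.2 hsgn⟩ : alternatingGroup {i : Fin n // 3 ≤ (i : ℕ)}) ∈
        (K.map (D.rho h hx hx3)).subgroupOf (alternatingGroup {i : Fin n // 3 ≤ (i : ℕ)}) := ⟨_, hcK, rfl⟩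
    rw [hbot, Subgroup.mem_bot] at hmem
    obtain ⟨i, hi, hne⟩ := hmove
    have h1 : D.rho h hx hx3 ⟨c, hcH⟩ = 1 := congrArg Subtype.val hmem
    have h2 := congrArg Subtype.val (DFunLike.congr_fun h1 ⟨i, hi⟩)
    rw [rho_apply, Perm.one_apply] at h2
    exact hne h2
  let a : Fin n := ⟨3, by omega⟩
  let b : Fin n := ⟨4, by omega⟩
  let p : Fin n := ⟨5, by omega⟩
  let q : Fin n := ⟨6, by omega⟩
  let τ : Perm {i : Fin n // 3 ≤ (i : ℕ)} :=
    swap ⟨a, le_rfl⟩ ⟨b, by simp [b]⟩ * swap ⟨p, by simp [p]⟩ ⟨q, by simp [q]⟩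
  have hτ : Perm.sign τ = 1 := by
    simp only [τ, map_mul]
    rw [Perm.sign_swap (by simp [a, b, Subtype.ext_iff, Fin.ext_iff]),
      Perm.sign_swap (by simp [p, q, Subtype.ext_iff, Fin.ext_iff])]
    rfl
  obtain ⟨k, hk, hkp⟩ := D.rho_surj h hx hx3 τ hτ
  obtain ⟨u, hu, eu⟩ :=
    (show (⟨τ, Perm.mem_alternatingGroup.2 hτ⟩ : alternatingGroup _) ∈ _ from htop ▸ mem_top _)
  replace eu : D.rho h hx hx3 u = τ := eu
  have hd : D.rho h hx hx3 (u * k⁻¹) = 1 := by rw [map_mul, map_inv, eu, hk, mul_inv_cancel]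
  have hfixd : ∀ i : Fin n, 3 ≤ (i : ℕ) → D.p ((u * k⁻¹ : H) : D.X) i = i := fun i hi => by
    have h2 := congrArg Subtype.val (DFunLike.congr_fun hd ⟨i, hi⟩)
    rwa [rho_apply, Perm.one_apply] at h2
  have hcd := (D.comm_x h hx hx3).1 (mem_centralizer_singleton_iff.1 (u * k⁻¹ : H).2)
  have hex : ∃ j : ℕ, D.p (u : D.X) = emb h c0 ^ j * D.p (k : D.X) := by
    have he : D.p (u : D.X) = D.p ((u * k⁻¹ : H) : D.X) * D.p (k : D.X) := by
      rw [← map_mul, ← Subgroup.coe_mul, inv_mul_cancel_right]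
    rcases inside_pow h hcd hfixd with e | e | e <;> rw [he, e]
    exacts [⟨0, by rw [pow_zero]⟩, ⟨1, by rw [pow_one]⟩, ⟨2, by rw [pow_two]⟩]
  obtain ⟨j, hj⟩ := hex
  have hkc : Commute (emb h c0) (D.p (k : D.X)) :=
    ((D.comm_x h hx hx3).1 (mem_centralizer_singleton_iff.1 k.2)).symm
  have hcube : D.p ((u : D.X) ^ 3) = D.p (k : D.X) ^ 3 := by
    rw [map_pow, hj, (hkc.pow_left j).mul_pow, ← pow_mul, mul_comm, pow_mul, ← hx, ← map_pow, hx3, map_one, one_pow,
      one_mul]
  have hk2 : D.p (k : D.X) * D.p (k : D.X) = 1 := by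
    rw [hkp, ← map_mul, show τ * τ = 1 from ?_, map_one]
    exact (dbl_sq (by simp [a, b, p, q, Subtype.ext_iff, Fin.ext_iff])).1
  have hsq : (u : D.X) ^ 3 * (u : D.X) ^ 3 = D.zX := by
    refine D.sq_double (by omega) ⟨a, b, p, q, by simp [a, b, p, q, Fin.ext_iff], ?_⟩
    rw [hcube, pow_succ, pow_two, hk2, one_mul, hkp]
    simp only [τ, map_mul, Perm.ofSubtype_swap_eq]
  intro e he
  have hue : Commute (((u : D.X)) : G) e := (mem_centralizer_iff.1 hu e he).symm
  have h6 : Commute (((u : D.X) ^ 3 * (u : D.X) ^ 3 : D.X) : G) e := by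
    simp only [Subgroup.coe_mul, SubmonoidClass.coe_pow]
    exact (hue.pow_left 3).mul_left (hue.pow_left 3)
  rwa [hsq] at h6

end Three

end Ctx

end Cfsg.Agent.DoubleCoverDeg
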