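import Cfsg.Agent.Lib.DoubleCoverDeg.Std

/-!
S1645, degree ten: the centraliser of a lift of a three-cycle lies in the centraliser of the involution.
-/

set_option autoImplicit false
set_option linter.style.haveILetI false

namespace Cfsg.Agent.DoubleCoverDeg

open Cfsg Equiv Subgroup

universe u

variable {G : Type u} [Group G] [Finite G] [IsSimpleGroup G]

/-- **The centraliser of a lift of a three-cycle lies in the centraliser of the involution.** -/
theorem cenThree_le (D : Ctx G 10) (c : centralizer ({D.z} : Set G))
    (h : (D.π c : Perm (Fin 10)).IsThreeCycle) (ho : orderOf (c : G) = 3) :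
    centralizer ({(c : G)} : Set G) ≤ centralizer ({D.z} : Set G) := by
  have hc : c ^ 3 = 1 := Subtype.ext (by rw [SubmonoidClass.coe_pow, ← ho, pow_orderOf_eq_one, OneMemClass.coe_one])
  obtain ⟨u, hp, h3⟩ := D.exists_std_lift (n := 10) (by norm_num) c h hc
  have hle := D.cen_le (by norm_num) hp h3 le_rfl (D.core_ten (by norm_num) hp h3 rfl)
  intro g hg
  have hg' : (u : G) * g * (u : G)⁻¹ ∈ centralizer ({((u * c * u⁻¹ : D.X) : G)} : Set G) := by
    refine mem_centralizer_singleton_iff.2 ?_
    simp only [Subgroup.coe_mul, Subgroup.coe_inv]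
    have h1 := (show Commute g (c : G) from mem_centralizer_singleton_iff.1 hg).map (MulAut.conj (u : G)).toMonoidHom
    exact h1.eq
  have h2 := mul_mem (mul_mem (inv_mem u.2) (hle hg')) u.2
  rwa [show (u : G)⁻¹ * ((u : G) * g * (u : G)⁻¹) * u = g by group] at h2

end Cfsg.Agent.DoubleCoverDeg
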