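import Cfsg.Agent.Lib.DoubleCoverDeg.Setup
import Cfsg.Agent.Lib.BoundedPres.Kappa
import Mathlib.GroupTheory.Complement
import Mathlib.GroupTheory.Perm.Cycle.Type

/-!
Lifts in a non-split double cover of an alternating group: elements of odd order, double transpositions and their
commutation.
-/

set_option autoImplicit false
set_option linter.style.haveILetI false

namespace Cfsg.Agent.DoubleCoverDeg

open Cfsg Equiv

/-- A product of two disjoint transpositions. -/
def IsDbl {α : Type*} [DecidableEq α] (σ : Perm α) : Prop :=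
  ∃ a b c d : α, [a, b, c, d].Nodup ∧ σ = swap a b * swap c d

section Perms

variable {α : Type*} [DecidableEq α]

theorem sign_dbl [Fintype α] {σ : Perm α} (h : IsDbl σ) : Perm.sign σ = 1 := by
  obtain ⟨a, b, c, d, h, rfl⟩ := h
  simp only [List.nodup_cons, List.mem_cons, List.not_mem_nil, or_false, not_or] at h
  rw [map_mul, Perm.sign_swap h.1.1, Perm.sign_swap h.2.2.1]
  rfl

/-- Two double transpositions are conjugate by an even permutation. -/
theorem dbl_conj [Fintype α] {σ τ : Perm α} (hσ : IsDbl σ) (hτ : IsDbl τ) :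
    ∃ g : Perm α, Perm.sign g = 1 ∧ g * σ * g⁻¹ = τ := by
  have ct : ∀ {ρ : Perm α}, IsDbl ρ → ρ.cycleType = {2, 2} := by
    rintro ρ ⟨a, b, c, d, h, rfl⟩
    simp only [List.nodup_cons, List.mem_cons, List.not_mem_nil, or_false, not_or] at h
    have hd : Perm.Disjoint (swap a b) (swap c d) := fun x => by
      by_cases hxa : x = a
      · subst hxa; exact Or.inr (swap_apply_of_ne_of_ne h.1.2.1 h.1.2.2)
      by_cases hxb : x = b
      · subst hxb; exact Or.inr (swap_apply_of_ne_of_ne h.2.1.1 h.2.1.2)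
      exact Or.inl (swap_apply_of_ne_of_ne hxa hxb)
    rw [hd.cycleType_mul, (Perm.isSwap_iff_cycleType).1 ⟨a, b, h.1.1, rfl⟩,
      (Perm.isSwap_iff_cycleType).1 ⟨c, d, h.2.2.1, rfl⟩]
    rfl
  obtain ⟨g, hg⟩ := isConj_iff.1 (Perm.isConj_iff_cycleType_eq.2 ((ct hσ).trans (ct hτ).symm))
  rcases Int.units_eq_one_or (Perm.sign g) with hs | hs
  · exact ⟨g, hs, hg⟩
  obtain ⟨a, b, c, d, h, rfl⟩ := hσ
  simp only [List.nodup_cons, List.mem_cons, List.not_mem_nil, or_false, not_or] at h
  refine ⟨g * swap a b, by rw [map_mul, hs, Perm.sign_swap h.1.1]; rfl, ?_⟩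
  have hc : swap a b * (swap a b * swap c d) * (swap a b)⁻¹ = swap a b * swap c d := by
    rw [swap_inv, ← mul_assoc, swap_mul_self, one_mul]
    refine Equiv.ext fun x => ?_
    simp only [Perm.mul_apply, swap_apply_def]
    grind
  calc g * swap a b * (swap a b * swap c d) * (g * swap a b)⁻¹
      = g * (swap a b * (swap a b * swap c d) * (swap a b)⁻¹) * g⁻¹ := by group
    _ = τ := by rw [hc, hg]

end Perms

variable {G : Type*} [Group G] {n : ℕ} (D : Ctx G n)

namespace Ctx

/-- The centraliser. -/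
abbrev X : Subgroup G := Subgroup.centralizer ({D.z} : Set G)

/-- The involution in its centraliser. -/
def zX : D.X := ⟨D.z, Subgroup.mem_centralizer_singleton_iff.2 rfl⟩

/-- The permutation of an element of the centraliser. -/
def p : D.X →* Perm (Fin n) := (alternatingGroup (Fin n)).subtype.comp D.π

theorem z_ne : D.zX ≠ 1 := fun e => by
  have h := D.ord
  rw [show D.z = 1 from congrArg Subtype.val e, orderOf_one] at h
  norm_num at h

theorem z_sq : D.zX * D.zX = 1 := Subtype.ext (by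
  show D.z * D.z = 1
  rw [← pow_two, ← D.ord, pow_orderOf_eq_one])

theorem z_comm (x : D.X) : D.zX * x = x * D.zX :=
  Subtype.ext (Subgroup.mem_centralizer_singleton_iff.1 x.2).symm

theorem p_eq_one {x : D.X} : D.p x = 1 ↔ x = 1 ∨ x = D.zX := by
  rw [show D.p x = 1 ↔ D.π x = 1 from OneMemClass.coe_eq_one, D.ker]
  exact or_congr ⟨fun h => Subtype.ext h, fun h => congrArg Subtype.val h⟩
    ⟨fun h => Subtype.ext h, fun h => congrArg Subtype.val h⟩

theorem p_z : D.p D.zX = 1 := D.p_eq_one.2 (Or.inr rfl)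

theorem sign_p (x : D.X) : Perm.sign (D.p x) = 1 := Perm.mem_alternatingGroup.1 (D.π x).2

theorem p_surj {σ : Perm (Fin n)} (h : Perm.sign σ = 1) : ∃ x, D.p x = σ := by
  obtain ⟨x, hx⟩ := D.surj ⟨σ, Perm.mem_alternatingGroup.2 h⟩
  exact ⟨x, congrArg Subtype.val hx⟩

theorem eq_or {x y : D.X} (h : D.p x = D.p y) : x = y ∨ x = D.zX * y := by
  have e : D.p (x * y⁻¹) = 1 := by rw [map_mul, map_inv, h, mul_inv_cancel]
  rcases D.p_eq_one.1 e with e | e
  · exact Or.inl (mul_inv_eq_one.1 e)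
  · exact Or.inr (mul_inv_eq_iff_eq_mul.1 e)

theorem z_pow_odd {m : ℕ} (h : Odd m) : D.zX ^ m = D.zX := by
  obtain ⟨k, rfl⟩ := h
  rw [pow_succ, pow_mul, pow_two, D.z_sq, one_pow, one_mul]

/-- An even permutation of odd exponent has a lift of the same exponent. -/
theorem lift_odd {σ : Perm (Fin n)} (hs : Perm.sign σ = 1) {m : ℕ} (hm : Odd m) (h : σ ^ m = 1) :
    ∃ x, D.p x = σ ∧ x ^ m = 1 := by
  obtain ⟨x, rfl⟩ := D.p_surj hs
  rcases D.p_eq_one.1 (by rw [map_pow, h] : D.p (x ^ m) = 1) with e | e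
  · exact ⟨x, rfl, e⟩
  · exact ⟨D.zX * x, by rw [map_mul, p_z, one_mul],
      by rw [(Commute.mul_pow (D.z_comm x)), D.z_pow_odd hm, e, D.z_sq]⟩

/-- An element of odd exponent commutes with all elements whose permutations commute with its. -/
theorem comm_odd {x y : D.X} {m : ℕ} (hm : Odd m) (hy : y ^ m = 1) (h : Commute (D.p x) (D.p y)) :
    Commute x y := by
  rcases D.eq_or (show D.p (x * y) = D.p (y * x) by rw [map_mul, map_mul, h.eq]) with e | e
  · exact e
  exfalso
  have e' : x * y * x⁻¹ = D.zX * y := by rw [e]; group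
  have h2 := congrArg (· ^ m) e'
  simp only [conj_pow, hy, mul_one, mul_inv_cancel, (Commute.mul_pow (D.z_comm y)), D.z_pow_odd hm] at h2
  exact D.z_ne h2.symm

theorem sq_congr {x y : D.X} (h : D.p x = D.p y) : x * x = y * y := by
  rcases D.eq_or h with rfl | rfl
  · rfl
  · calc D.zX * y * (D.zX * y) = D.zX * (y * D.zX) * y := by group
      _ = D.zX * D.zX * (y * y) := by rw [← D.z_comm]; group
      _ = _ := by rw [D.z_sq, one_mul]

/-- **A lift of a double transposition squares to the involution.** -/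
theorem sq_double (hn : 5 ≤ n) {x : D.X} (h : IsDbl (D.p x)) : x * x = D.zX := by
  classical
  have hx2 : D.p (x * x) = 1 := by
    obtain ⟨a, b, c, d, hnd, e⟩ := h
    rw [map_mul, e]
    simp only [List.nodup_cons, List.mem_cons, List.not_mem_nil, or_false, not_or] at hnd
    refine Equiv.ext fun t => ?_
    simp only [Perm.mul_apply, swap_apply_def, Perm.one_apply]
    grind
  refine (D.p_eq_one.1 hx2).resolve_left fun hone => ?_
  have hall : ∀ y : D.X, IsDbl (D.p y) → y * y = 1 := by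
    intro y hy
    obtain ⟨g, hg, e⟩ := dbl_conj h hy
    obtain ⟨u, rfl⟩ := D.p_surj hg
    rw [D.sq_congr (show D.p y = D.p (u * x * u⁻¹) by rw [map_mul, map_mul, map_inv, e])]
    calc u * x * u⁻¹ * (u * x * u⁻¹) = u * (x * x) * u⁻¹ := by group
      _ = 1 := by rw [hone]; group
  let a : Fin n := ⟨0, by omega⟩
  let b : Fin n := ⟨1, by omega⟩
  let s : Finset (Fin n) := Finset.univ.filter fun i => i ≠ a ∧ i ≠ b
  have hs : BoundedPres.Good a b s := ⟨by simp [a, b, Fin.ext_iff], by simp [s], by simp [s]⟩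
  have hfull : ∀ i, i ≠ a → i ≠ b → i ∈ s := fun i h1 h2 => by simp [s, h1, h2]
  have hcyc : ∀ i ∈ s, ∃ X : D.X, D.p X = BoundedPres.cyc a b i ∧ X ^ 3 = 1 := fun i hi =>
    D.lift_odd (Perm.mem_alternatingGroup.1 (BoundedPres.Cs_eq_alternating hs hfull ▸ BoundedPres.cyc_mem hi))
      (by decide) (BoundedPres.cyc_cube hs.ne (hs.ne_a hi) (hs.ne_b hi))
  choose! X hX hX3 using hcyc
  have hrel : BoundedPres.CarRel X s := ⟨hX3, fun i hi j hj hij => by
    rw [pow_two]
    refine hall _ ⟨a, i, b, j, ?_, ?_⟩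
    · have h1 := hs.ne_a hi; have h2 := hs.ne_b hi; have h3 := hs.ne_a hj; have h4 := hs.ne_b hj
      have h5 := hs.ne
      simp only [List.nodup_cons, List.mem_cons, List.not_mem_nil, or_false, not_or]
      exact ⟨⟨h1.symm, h5, h3.symm⟩, ⟨h2, hij⟩, h4.symm, not_false, List.nodup_nil⟩
    · rw [map_mul, hX i hi, hX j hj]
      have h1 := hs.ne_a hi; have h2 := hs.ne_b hi; have h3 := hs.ne_a hj; have h4 := hs.ne_b hj
      have h5 := hs.ne
      refine Equiv.ext fun t => ?_
      simp only [BoundedPres.cyc, Perm.mul_apply, swap_apply_def]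
      grind⟩
  obtain ⟨f, hf⟩ := BoundedPres.car_hom hs X hrel
  have hCs := BoundedPres.Cs_eq_alternating hs hfull
  have hid : D.p.comp f = (BoundedPres.Cs a b s).subtype := BoundedPres.hom_ext fun i hi => by
    rw [MonoidHom.comp_apply, hf i hi, hX i hi]; rfl
  refine D.nonsplit f.range (Subgroup.isComplement'_of_disjoint_and_mul_eq_univ ?_ ?_)
  · rw [disjoint_iff, eq_bot_iff]
    rintro _ ⟨hy, σ, rfl⟩
    have e := DFunLike.congr_fun hid σ
    rw [MonoidHom.comp_apply, show D.p (f σ) = 1 from congrArg Subtype.val (MonoidHom.mem_ker.1 hy)] at e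
    rw [Subgroup.mem_bot, show σ = 1 from Subtype.ext e.symm, map_one]
  · refine Set.eq_univ_of_forall fun y => ?_
    let σ : BoundedPres.Cs a b s := ⟨D.p y, hCs ▸ (D.π y).2⟩
    refine ⟨y * (f σ)⁻¹, MonoidHom.mem_ker.2 (Subtype.ext ?_), f σ, ⟨σ, rfl⟩, inv_mul_cancel_right _ _⟩
    show D.p (y * (f σ)⁻¹) = 1
    rw [map_mul, map_inv, show D.p (f σ) = D.p y from DFunLike.congr_fun hid σ, mul_inv_cancel]

/-- A double transposition on four points commutes upstairs with everything fixing these points. -/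
theorem comm_dbl {x y : D.X} {a b c d : Fin n} (hd : [a, b, c, d].Nodup) (h : D.p x = swap a b * swap c d)
    (hy : ∀ t ∈ [a, b, c, d], D.p y t = t) : Commute x y := by
  simp only [List.nodup_cons, List.mem_cons, List.not_mem_nil, or_false, not_or] at hd
  obtain ⟨⟨hab, hac, had⟩, ⟨hbc, hbd⟩, hcd, -⟩ := hd
  have hsign : ∀ {p q r : Fin n}, p ≠ q → q ≠ r → Perm.sign (swap p q * swap q r) = 1 := fun h1 h2 => by
    rw [map_mul, Perm.sign_swap h1, Perm.sign_swap h2]; rfl
  have hcube : ∀ {p q r : Fin n}, p ≠ q → q ≠ r → p ≠ r → (swap p q * swap q r) ^ 3 = 1 := fun h1 h2 h3 => by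
    refine Equiv.ext fun t => ?_
    simp only [pow_succ, pow_zero, one_mul, Perm.mul_apply, swap_apply_def, Perm.one_apply]
    grind
  obtain ⟨u, hu, hu3⟩ := D.lift_odd (hsign hab hbc) (m := 3) (by decide) (hcube hab hbc hac)
  obtain ⟨v, hv, hv3⟩ := D.lift_odd (hsign hbc hcd) (m := 3) (by decide) (hcube hbc hcd hbd)
  have hcom : ∀ {p q r : Fin n} {w : D.X}, p ∈ [a, b, c, d] → q ∈ [a, b, c, d] → r ∈ [a, b, c, d] →
      D.p w = swap p q * swap q r → Commute (D.p y) (D.p w) := by
    intro p q r w hp hq hr e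
    have hp' := hy p hp; have hq' := hy q hq; have hr' := hy r hr
    rw [e]
    refine Commute.mul_right ?_ ?_
    · show D.p y * swap p q = swap p q * D.p y
      rw [← mul_inv_eq_iff_eq_mul, ← Equiv.swap_apply_apply, hp', hq']
    · show D.p y * swap q r = swap q r * D.p y
      rw [← mul_inv_eq_iff_eq_mul, ← Equiv.swap_apply_apply, hq', hr']
  have cu : Commute y u := D.comm_odd (by decide) hu3 (hcom (by simp) (by simp) (by simp) hu)
  have cv : Commute y v := D.comm_odd (by decide) hv3 (hcom (by simp) (by simp) (by simp) hv)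
  have hx : D.p x = D.p (u * v) := by
    rw [map_mul, hu, hv, h]
    refine Equiv.ext fun t => ?_
    simp only [Perm.mul_apply, swap_apply_def]
    grind
  rcases D.eq_or hx with rfl | rfl
  · exact (cu.mul_right cv).symm
  · exact Commute.mul_left (D.z_comm y) (cu.mul_right cv).symm

/-- **Lifts of double transpositions sharing one transposition anticommute.** -/
theorem anticomm (hn : 5 ≤ n) {x y : D.X} {a b c d e f : Fin n} (hd : [a, b, c, d, e, f].Nodup)
    (hx : D.p x = swap a b * swap c d) (hy : D.p y = swap a b * swap e f) : x * y = D.zX * (y * x) := by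
  simp only [List.nodup_cons, List.mem_cons, List.not_mem_nil, or_false, not_or] at hd
  obtain ⟨⟨hab, hac, had, hae, haf⟩, ⟨hbc, hbd, hbe, hbf⟩, ⟨hcd, hce, hcf⟩, ⟨hde, hdf⟩, hef, -⟩ := hd
  have sx : x * x = D.zX := D.sq_double hn ⟨a, b, c, d, by simp [*], hx⟩
  have sy : y * y = D.zX := D.sq_double hn ⟨a, b, e, f, by simp [*], hy⟩
  have sxy : x * y * (x * y) = D.zX := D.sq_double hn ⟨c, d, e, f, by simp [*], by
    rw [map_mul, hx, hy]
    refine Equiv.ext fun t => ?_
    simp only [Perm.mul_apply, swap_apply_def]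
    grind⟩
  calc x * y = x * y * (x * y) * (y⁻¹ * x⁻¹) := by group
    _ = D.zX * ((y * y)⁻¹ * y * (x * (x * x)⁻¹)) := by rw [sxy]; group
    _ = D.zX * (D.zX⁻¹ * (y * x) * D.zX⁻¹) := by rw [sx, sy]; group
    _ = _ := by
      rw [inv_eq_of_mul_eq_one_left D.z_sq, mul_assoc D.zX (y * x), ← D.z_comm (y * x), ← mul_assoc D.zX D.zX,
        D.z_sq, one_mul]

end Ctx

end Cfsg.Agent.DoubleCoverDeg
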