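import Cfsg.Agent.Lib.DoubleCoverDeg.NineFix
import Cfsg.Agent.Lib.BSW.Main

/-!
S1645, degree nine, small core: the centraliser of the product of two lifts modulo the product contradicts the
theorem of Brauer, Suzuki and Wall.
-/

set_option autoImplicit false
set_option linter.style.haveILetI false
set_option linter.unusedSectionVars false
set_option linter.constructorNameAsVariable false

namespace Cfsg.Agent.DoubleCoverDeg

open Cfsg Equiv Subgroup
open Ctx (c0)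

universe u

variable {G : Type u} [Group G] [Finite G]

/-- At most three residues modulo `37` have cube one. -/
theorem cube_roots : (Finset.univ.filter fun k : Fin 37 => ((k : ℕ) ^ 3) % 37 = 1).card = 3 := by
  decide +kernel

/-- A cyclic group of prime order has its power automorphisms detected on a generator. -/
theorem conj_pow_iter {H : Type*} [Group H] {d x : H} {k : ℕ} (h : d * x * d⁻¹ = x ^ k) (j : ℕ) :
    d ^ j * x * (d ^ j)⁻¹ = x ^ k ^ j := by
  induction j with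
  | zero => simp
  | succ j ih =>
    calc d ^ (j + 1) * x * (d ^ (j + 1))⁻¹ = d * (d ^ j * x * (d ^ j)⁻¹) * d⁻¹ := by rw [pow_succ']; group
      _ = (d * x * d⁻¹) ^ k ^ j := by rw [ih, conj_pow]
      _ = _ := by rw [h, ← pow_mul, ← pow_succ']

namespace Nine.Frame

variable {D : Ctx G 9} (F : Frame D)

/-- The lifts and the involution. -/
def K0 : Subgroup G where
  carrier := {g | g ∈ F.E ∨ D.z * g ∈ F.E}
  one_mem' := Or.inl (one_mem _)
  mul_mem' := fun {a b} ha hb => by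
    have hc : ∀ {e : G}, e ∈ F.E → Commute e D.z := fun he => mem_centralizer_singleton_iff.1 (F.E_le he)
    rcases ha with ha | ha <;> rcases hb with hb | hb
    · exact Or.inl (mul_mem ha hb)
    · refine Or.inr ?_
      rw [← mul_assoc, ← (hc ha).eq, mul_assoc]
      exact mul_mem ha hb
    · refine Or.inr ?_
      rw [← mul_assoc]
      exact mul_mem ha hb
    · refine Or.inl ?_
      have e : a * b = (D.z * a) * (D.z * b) := by
        rw [← mul_assoc (D.z * a), (hc ha).eq, ← mul_assoc, D.zz, one_mul]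
      rw [e]
      exact mul_mem ha hb
  inv_mem' := fun {a} ha => by
    rcases ha with ha | ha
    · exact Or.inl (inv_mem ha)
    · refine Or.inr ?_
      have hc : Commute (D.z * a) D.z := mem_centralizer_singleton_iff.1 (F.E_le ha)
      rw [show D.z * a⁻¹ = D.z * ((D.z * a)⁻¹ * D.z) by group, hc.inv_left.eq, ← mul_assoc, D.zz, one_mul]
      exact inv_mem ha

/-- The centraliser of the product. -/
abbrev Y : Subgroup G := centralizer ({F.y} : Set G)

/-- The powers of the product inside it. -/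
abbrev N : Subgroup F.Y := (zpowers F.y).subgroupOf F.Y

instance N_normal : F.N.Normal := ⟨fun n hn g => by
  rw [mem_subgroupOf] at hn ⊢
  obtain ⟨i, hi⟩ := mem_zpowers_iff.1 hn
  refine mem_zpowers_iff.2 ⟨i, ?_⟩
  rw [Subgroup.coe_mul, Subgroup.coe_mul, InvMemClass.coe_inv, ← hi,
    ((show Commute (g : G) F.y from mem_centralizer_singleton_iff.1 g.2).zpow_right i).eq, mul_inv_cancel_right]⟩

/-- The quotient. -/
abbrev π : F.Y →* F.Y ⧸ F.N := QuotientGroup.mk' F.N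

theorem π_one {a : F.Y} : F.π a = 1 ↔ (a : G) ∈ zpowers F.y := by
  rw [QuotientGroup.mk'_apply, QuotientGroup.eq_one_iff, mem_subgroupOf]

theorem π_eq {a b : F.Y} : F.π a = F.π b ↔ (a : G) * (b : G)⁻¹ ∈ zpowers F.y := by
  rw [← mul_inv_eq_one, ← map_inv, ← map_mul, F.π_one, Subgroup.coe_mul, InvMemClass.coe_inv]

theorem y_le_E : zpowers F.y ≤ F.E := zpowers_le.2 F.y_mem_E

theorem E_zero {e : G} (he : e ∈ F.E) (h2 : e * e = 1) : e = 1 := by
  have h3 := F.E_cube he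
  rwa [pow_succ, pow_two, h2, one_mul] at h3

theorem K0_invol {w : G} (hw : w ∈ F.K0) (h2 : w * w = 1) (h1 : w ≠ 1) : w = D.z := by
  rcases hw with h | h
  · exact absurd (F.E_zero h h2) h1
  · have hc : Commute (D.z * w) D.z := mem_centralizer_singleton_iff.1 (F.E_le h)
    have e := F.E_zero h (by rw [← mul_assoc, hc.eq, ← mul_assoc, D.zz, one_mul, h2])
    rw [eq_inv_of_mul_eq_one_right e, inv_eq_of_mul_eq_one_right D.zz]

theorem K0_sq {a : G} (ha : a ∈ F.K0) : a * a ∈ F.E := by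
  rcases ha with h | h
  · exact mul_mem h h
  · have hc : Commute (D.z * a) D.z := mem_centralizer_singleton_iff.1 (F.E_le h)
    rw [show a * a = D.z * a * (D.z * a) by rw [← mul_assoc, hc.eq, ← mul_assoc, D.zz, one_mul]]
    exact mul_mem h h

theorem K0_comm {a b : G} (ha : a ∈ F.K0) (hb : b ∈ F.K0) : Commute a b := by
  have hc : ∀ {e : G}, e ∈ F.E → Commute e D.z := fun he => mem_centralizer_singleton_iff.1 (F.E_le he)
  have hsplit : ∀ {k : G}, D.z * k ∈ F.E → k = D.z * (D.z * k) := fun _ => by rw [← mul_assoc, D.zz, one_mul]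
  rcases ha with ha | ha <;> rcases hb with hb | hb
  · exact F.E_comm ha hb
  · rw [hsplit hb]; exact (hc ha).mul_right (F.E_comm ha hb)
  · rw [hsplit ha]; exact ((hc hb).symm).mul_left (F.E_comm ha hb)
  · rw [hsplit ha, hsplit hb]
    exact (((Commute.refl D.z).mul_right (hc hb).symm).mul_left ((hc ha).mul_right (F.E_comm ha hb)))

theorem K0_le_Y : F.K0 ≤ F.Y := fun a ha => mem_centralizer_singleton_iff.2
  (F.K0_comm ha (Or.inl F.y_mem_E)).eq

theorem z_K0 : D.z ∈ F.K0 := Or.inr (by rw [D.zz]; exact one_mem _)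

theorem K0_le_X : F.K0 ≤ D.X := fun a ha => mem_centralizer_singleton_iff.2 (F.K0_comm ha F.z_K0).eq

/-- The image of the lifts and the involution. -/
abbrev KH : Subgroup (F.Y ⧸ F.N) := (F.K0.subgroupOf F.Y).map F.π

theorem mem_KH {a : F.Y} : F.π a ∈ F.KH ↔ (a : G) ∈ F.K0 := by
  refine ⟨?_, fun h => ⟨a, mem_subgroupOf.2 h, rfl⟩⟩
  rintro ⟨b, hb, e⟩
  have h1 : (a : G) * (b : G)⁻¹ ∈ F.K0 := Or.inl (F.y_le_E (F.π_eq.1 e.symm))
  have h2 := F.K0.mul_mem h1 (mem_subgroupOf.1 hb)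
  rwa [inv_mul_cancel_right] at h2

/-- Coordinates of the image. -/
noncomputable def κ (p : Fin 2 × Fin 3 × Fin 3) : F.Y ⧸ F.N :=
  F.π (⟨D.z, F.K0_le_Y F.z_K0⟩ ^ (p.1 : ℕ) *
    ⟨(F.el (p.2.1, 0, p.2.2) : G), F.K0_le_Y (Or.inl (F.el_mem _))⟩)

theorem κ_val (p : Fin 2 × Fin 3 × Fin 3) :
    ∃ a : F.Y, F.κ p = F.π a ∧ (a : G) = D.z ^ (p.1 : ℕ) * (F.el (p.2.1, 0, p.2.2) : G) :=
  ⟨_, rfl, by simp⟩

theorem y_pow_mem {m : G} (h : m ∈ zpowers F.y) : ∃ j : Fin 3, m = (F.el (j, j, 0) : G) := by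
  obtain ⟨i, rfl⟩ := mem_zpowers_iff.1 h
  refine ⟨⟨(i % 3).toNat, by omega⟩, ?_⟩
  have h3 : F.y ^ (3 : ℤ) = 1 := by
    rw [zpow_ofNat]; exact F.E_cube F.y_mem_E
  rw [el_y]
  conv_lhs => rw [← Int.mul_ediv_add_emod i 3, zpow_add, zpow_mul, h3, one_zpow, one_mul]
  rw [← zpow_natCast, Int.toNat_of_nonneg (Int.emod_nonneg _ (by norm_num))]

theorem κ_injective : Function.Injective F.κ := by
  intro p q h
  obtain ⟨a, ea, va⟩ := F.κ_val p
  obtain ⟨b, eb, vb⟩ := F.κ_val q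
  rw [ea, eb, F.π_eq, va, vb] at h
  obtain ⟨j, hj⟩ := F.y_pow_mem h
  have hc : ∀ (v) (n : ℕ), Commute ((F.el v : D.X) : G) (D.z ^ n) := fun v n => (D.z_commG _).symm.pow_right n
  have hd : D.z ^ (p.1 : ℕ) * (D.z ^ (q.1 : ℕ))⁻¹ * (((F.el (p.2.1, 0, p.2.2)) : G) * (F.el (q.2.1, 0, q.2.2) : G)⁻¹) =
      (F.el (j, j, 0) : G) := by
    rw [← hj, mul_inv_rev]
    have h1 := ((hc (p.2.1, 0, p.2.2) (q.1 : ℕ)).mul_left (hc (q.2.1, 0, q.2.2) (q.1 : ℕ)).inv_left).inv_right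
    rw [show D.z ^ (p.1 : ℕ) * ((F.el (p.2.1, 0, p.2.2) : G)) *
      ((F.el (q.2.1, 0, q.2.2) : G)⁻¹ * (D.z ^ (q.1 : ℕ))⁻¹) = D.z ^ (p.1 : ℕ) *
      (((F.el (p.2.1, 0, p.2.2) : G) * (F.el (q.2.1, 0, q.2.2) : G)⁻¹) * (D.z ^ (q.1 : ℕ))⁻¹) by group, h1.eq]
    group
  rw [← InvMemClass.coe_inv, el_inv, el_val_mul] at hd
  have hz : D.z ^ (p.1 : ℕ) * (D.z ^ (q.1 : ℕ))⁻¹ ∈ F.E := by
    have : D.z ^ (p.1 : ℕ) * (D.z ^ (q.1 : ℕ))⁻¹ =
        (F.el (j, j, 0) : G) * (F.el ((p.2.1, 0, p.2.2) + -(q.2.1, 0, q.2.2)) : G)⁻¹ := by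
      rw [← hd, mul_inv_cancel_right]
    rw [this]
    exact mul_mem (F.el_mem _) (inv_mem (F.el_mem _))
  obtain ⟨d, a, c⟩ := p
  obtain ⟨d', a', c'⟩ := q
  have hdd : d = d' := by
    by_contra hne
    apply F.z_not_E
    fin_cases d <;> fin_cases d' <;> simp_all [inv_eq_of_mul_eq_one_right D.zz]
  subst hdd
  simp only [mul_inv_cancel, one_mul] at hd
  have e := F.el_injective (Subtype.ext hd :)
  have hfin := (show ∀ a a' c c' j : Fin 3,
    ((a, 0, c) : Fin 3 × Fin 3 × Fin 3) + -(a', 0, c') = (j, j, 0) → a = a' ∧ c = c' by decide +kernel) a a' c c' j e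
  rw [hfin.1, hfin.2]

theorem κ_range {k : F.Y ⧸ F.N} (hk : k ∈ F.KH) : ∃ p, F.κ p = k := by
  obtain ⟨a, ha, rfl⟩ := hk
  obtain ⟨d, v, hv⟩ : ∃ (d : Fin 2) (v : Fin 3 × Fin 3 × Fin 3), (a : G) = D.z ^ (d : ℕ) * (F.el v : G) := by
    rcases (mem_subgroupOf.1 ha) with ⟨v, hv⟩ | ⟨v, hv⟩
    · exact ⟨0, v, by simp [hv]⟩
    · exact ⟨1, v, by rw [← hv, show ((1 : Fin 2) : ℕ) = 1 from rfl, pow_one, ← mul_assoc, D.zz, one_mul]⟩
  refine ⟨(d, v.1 - v.2.1, v.2.2), ?_⟩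
  obtain ⟨b, eb, vb⟩ := F.κ_val (d, v.1 - v.2.1, v.2.2)
  rw [eb, F.π_eq, vb, hv, show D.z ^ (d : ℕ) * (F.el (v.1 - v.2.1, 0, v.2.2) : G) * (D.z ^ (d : ℕ) * (F.el v : G))⁻¹ =
    D.z ^ (d : ℕ) * ((F.el (v.1 - v.2.1, 0, v.2.2) : G) * (F.el v : G)⁻¹) * (D.z ^ (d : ℕ))⁻¹ by group,
    ← InvMemClass.coe_inv, el_inv, el_val_mul,
    show (v.1 - v.2.1, (0 : Fin 3), v.2.2) + -v = (-v.2.1, -v.2.1, 0) from
      (show ∀ v : Fin 3 × Fin 3 × Fin 3, (v.1 - v.2.1, (0 : Fin 3), v.2.2) + -v = (-v.2.1, -v.2.1, 0) by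
        decide +kernel) v,
    ((D.z_commG _).pow_left (d : ℕ)).eq, mul_inv_cancel_right, el_y]
  exact pow_mem (mem_zpowers _) _

theorem card_KH : Nat.card F.KH = 18 := by
  have e : Nat.card (Fin 2 × Fin 3 × Fin 3) = 18 := by simp [Nat.card_eq_fintype_card]
  rw [← e]
  refine (Nat.card_eq_of_bijective (fun p => (⟨F.κ p, ?_⟩ : F.KH)) ⟨fun p q h => ?_, ?_⟩).symm
  · obtain ⟨a, ea, va⟩ := F.κ_val p
    rw [ea, F.mem_KH, va]
    exact mul_mem (pow_mem F.z_K0 _) (Or.inl (F.el_mem _))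
  · exact F.κ_injective (congrArg Subtype.val h :)
  · rintro ⟨k, hk⟩
    obtain ⟨p, rfl⟩ := F.κ_range hk
    exact ⟨p, rfl⟩

variable [IsSimpleGroup G] (hW : F.W = zpowers (F.x : G))
include hW

/-- The centraliser of an element of the image outside the involution. -/
theorem cent_E {e b : G} (he : e ∈ F.E) (hey : e ∉ zpowers F.y) (hb : Commute b F.y)
    (h : b * e * b⁻¹ * e⁻¹ ∈ zpowers F.y) : b ∈ F.K0 := by
  obtain ⟨v, rfl⟩ := he
  refine F.coset_cen hW (fun hv => hey ?_) hb h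
  rw [show v = (v.2.1, v.2.1, 0) from Prod.ext hv.1 (Prod.ext rfl hv.2), el_y]
  exact pow_mem (mem_zpowers _) _

theorem bsw : BSW.Hyp (F.π ⟨D.z, F.K0_le_Y F.z_K0⟩) F.KH
    (F.π ⟨F.u, mem_centralizer_singleton_iff.2 F.u_y.eq⟩) := by
  set zY : F.Y := ⟨D.z, F.K0_le_Y F.z_K0⟩ with hzY
  set uY : F.Y := ⟨F.u, mem_centralizer_singleton_iff.2 F.u_y.eq⟩ with huY
  have hzu : Commute D.z (F.u : G) := D.z_commG F.u
  have hcy : ∀ a : F.Y, Commute (a : G) F.y := fun a => mem_centralizer_singleton_iff.1 a.2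
  have ht1 : F.π zY ≠ 1 := fun e => F.z_not_E (F.y_le_E (F.π_one.1 e))
  have hs1 : F.π uY ≠ 1 := fun e => F.u_not_E.1 (F.y_le_E (F.π_one.1 e))
  have htt : F.π zY * F.π zY = 1 := by
    rw [← map_mul, show zY * zY = 1 from Subtype.ext D.zz, map_one]
  have hss : F.π uY * F.π uY = 1 := by
    rw [← map_mul, show uY * uY = 1 from Subtype.ext F.uu, map_one]
  have hst : F.π uY ∈ BSW.Cz (F.π zY) :=
    BSW.mem_Cz.2 (by rw [← map_mul, ← map_mul, show uY * zY = zY * uY from Subtype.ext hzu.symm.eq])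
  have hle : F.KH ≤ BSW.Cz (F.π zY) := by
    rintro _ ⟨a, ha, rfl⟩
    exact BSW.mem_Cz.2 (by
      rw [← map_mul, ← map_mul, show a * zY = zY * a from Subtype.ext (F.K0_comm (mem_subgroupOf.1 ha) F.z_K0).eq])
  have hcent : ∀ a : F.Y, F.π a ∈ BSW.Cz (F.π zY) → Commute (a : G) D.z := by
    intro a ha
    have h1 := BSW.mem_Cz'.1 ha
    rw [← map_inv, ← map_mul, ← map_mul, F.π_eq] at h1
    have h1' : (a : G) * D.z * (a : G)⁻¹ * D.z⁻¹ ∈ zpowers F.y := h1
    set w := (a : G) * D.z * (a : G)⁻¹ * D.z⁻¹ with hw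
    have hwz : Commute w D.z := mem_centralizer_singleton_iff.1 (F.E_le (F.y_le_E h1'))
    have e : (a : G) * D.z * (a : G)⁻¹ = w * D.z := by rw [hw, inv_mul_cancel_right]
    have h2 : w * w = 1 := by
      have : w * D.z * (w * D.z) = 1 := by
        rw [← e, show (a : G) * D.z * (a : G)⁻¹ * ((a : G) * D.z * (a : G)⁻¹) = (a : G) * (D.z * D.z) * (a : G)⁻¹ by group,
          D.zz]
        group
      rwa [hwz.symm.mul_mul_mul_comm, D.zz, mul_one] at this
    have h3 := F.E_zero (F.y_le_E h1') h2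
    rw [h3, one_mul] at e
    exact mul_inv_eq_iff_eq_mul.1 e
  refine ⟨BSW.order_two_iff.2 ⟨htt, ht1⟩, ?_, hle, F.mem_KH.2 F.z_K0, BSW.order_two_iff.2 ⟨hss, hs1⟩, hst, ?_, ?_,
    ?_, ?_, ?_, ?_⟩
  · rintro _ ⟨a, ha, rfl⟩ _ ⟨b, hb, rfl⟩
    rw [← map_mul, ← map_mul, show a * b = b * a from
      Subtype.ext (F.K0_comm (mem_subgroupOf.1 ha) (mem_subgroupOf.1 hb)).eq]
  · intro h
    rcases F.mem_KH.1 h with e | e
    · exact F.u_not_E.1 e
    · exact F.u_not_E.2 e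
  · refine le_antisymm (sup_le hle (zpowers_le.2 hst)) fun k hk => ?_
    obtain ⟨a, rfl⟩ := QuotientGroup.mk'_surjective F.N k
    have hs : F.π uY ∈ F.KH ⊔ zpowers (F.π uY) := mem_sup_right (mem_zpowers _)
    have key : ∀ b : F.Y, (b : G) ∈ F.K0 → F.π b ∈ F.KH ⊔ zpowers (F.π uY) := fun b hb =>
      mem_sup_left (F.mem_KH.2 hb)
    have hua : ((uY * a : F.Y) : G) ∈ F.K0 → F.π a ∈ F.KH ⊔ zpowers (F.π uY) := fun h => by
      have := mul_mem hs (key _ h)
      rwa [map_mul, ← mul_assoc, hss, one_mul] at this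
    rcases F.cen_prod_G (mem_centralizer_singleton_iff.2 (hcent a hk).eq) (hcy a) with e | e | e | e
    · exact key a (Or.inl e)
    · exact key a (Or.inr e)
    · exact hua (Or.inl e)
    · exact hua (Or.inr e)
  · refine le_antisymm ?_ (zpowers_le.2 ⟨F.mem_KH.2 F.z_K0, BSW.mem_Cz_symm.1 hst⟩)
    rintro _ ⟨⟨a, ha, rfl⟩, hs⟩
    have h1 := BSW.mem_Cz'.1 (BSW.mem_Cz_symm.1 hs)
    rw [← map_inv, ← map_mul, ← map_mul, F.π_eq] at h1
    have h1' : (F.u : G) * a * (F.u : G)⁻¹ * (a : G)⁻¹ ∈ zpowers F.y := h1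
    obtain ⟨d, v, hv⟩ : ∃ (d : ℕ) (v : Fin 3 × Fin 3 × Fin 3), (a : G) = D.z ^ d * (F.el v : G) := by
      rcases (mem_subgroupOf.1 ha) with ⟨v, hv⟩ | ⟨v, hv⟩
      · exact ⟨0, v, by simp [hv]⟩
      · exact ⟨1, v, by rw [← hv, pow_one, ← mul_assoc, D.zz, one_mul]⟩
    have hu : (F.u : G) * (F.el v : G) * (F.u : G)⁻¹ = (F.el (v.2.1, v.1, -v.2.2) : G) := by
      have e : F.u * F.el v * F.u⁻¹ = F.el (v.2.1, v.1, -v.2.2) := by
        refine D.conj3 (F.el_cube _) (F.el_cube _) ?_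
        rw [F.pu, F.p_el, F.p_el]
        exact (show ∀ v : Fin 3 × Fin 3 × Fin 3, u0 * cpow v * u0⁻¹ = cpow (v.2.1, v.1, -v.2.2) by decide +kernel) v
      exact congrArg Subtype.val e
    rw [hv, show (F.u : G) * (D.z ^ d * (F.el v : G)) * (F.u : G)⁻¹ * (D.z ^ d * (F.el v : G))⁻¹ =
      ((F.u : G) * D.z ^ d) * (F.el v : G) * (F.u : G)⁻¹ * (F.el v : G)⁻¹ * (D.z ^ d)⁻¹ by group,
      (hzu.symm.pow_right d).eq,
      show D.z ^ d * (F.u : G) * (F.el v : G) * (F.u : G)⁻¹ * (F.el v : G)⁻¹ * (D.z ^ d)⁻¹ =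
        D.z ^ d * (((F.u : G) * (F.el v : G) * (F.u : G)⁻¹) * (F.el v : G)⁻¹) * (D.z ^ d)⁻¹ by group, hu,
      ← InvMemClass.coe_inv, el_inv, el_val_mul, ((D.z_commG _).pow_left d).eq, mul_inv_cancel_right] at h1'
    obtain ⟨j, hj⟩ := F.y_pow_mem h1'
    obtain ⟨hv1, hv2⟩ := (show ∀ (v : Fin 3 × Fin 3 × Fin 3) (j : Fin 3),
      (v.2.1, v.1, -v.2.2) + -v = (j, j, 0) → v.1 = v.2.1 ∧ v.2.2 = 0 by decide +kernel) v j
      (F.el_injective (Subtype.ext hj :))
    have he : F.π a = F.π (zY ^ d) := by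
      rw [F.π_eq, SubmonoidClass.coe_pow, hv, ((D.z_commG (F.el v)).pow_left d).eq, mul_inv_cancel_right,
        show v = (v.2.1, v.2.1, 0) from Prod.ext hv1 (Prod.ext rfl hv2), el_y]
      exact pow_mem (mem_zpowers _) _
    rw [he, map_pow]
    exact pow_mem (mem_zpowers _) _
  · rintro _ ⟨a, ha, rfl⟩
    rw [← map_inv, ← map_inv, ← map_mul, ← map_mul, F.π_eq]
    show (F.u : G) * a * (F.u : G)⁻¹ * (a : G)⁻¹⁻¹ ∈ zpowers F.y
    obtain ⟨d, v, hv⟩ : ∃ (d : ℕ) (v : Fin 3 × Fin 3 × Fin 3), (a : G) = D.z ^ d * (F.el v : G) := by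
      rcases (mem_subgroupOf.1 ha) with ⟨v, hv⟩ | ⟨v, hv⟩
      · exact ⟨0, v, by simp [hv]⟩
      · exact ⟨1, v, by rw [← hv, pow_one, ← mul_assoc, D.zz, one_mul]⟩
    have hu : (F.u : G) * (F.el v : G) * (F.u : G)⁻¹ = (F.el (v.2.1, v.1, -v.2.2) : G) := by
      have e : F.u * F.el v * F.u⁻¹ = F.el (v.2.1, v.1, -v.2.2) := by
        refine D.conj3 (F.el_cube _) (F.el_cube _) ?_
        rw [F.pu, F.p_el, F.p_el]
        exact (show ∀ v : Fin 3 × Fin 3 × Fin 3, u0 * cpow v * u0⁻¹ = cpow (v.2.1, v.1, -v.2.2) by decide +kernel) v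
      exact congrArg Subtype.val e
    rw [inv_inv, hv, show (F.u : G) * (D.z ^ d * (F.el v : G)) * (F.u : G)⁻¹ * (D.z ^ d * (F.el v : G)) =
      ((F.u : G) * D.z ^ d) * (F.el v : G) * (F.u : G)⁻¹ * D.z ^ d * (F.el v : G) by group,
      (hzu.symm.pow_right d).eq,
      show D.z ^ d * (F.u : G) * (F.el v : G) * (F.u : G)⁻¹ * D.z ^ d * (F.el v : G) =
        D.z ^ d * ((F.u : G) * (F.el v : G) * (F.u : G)⁻¹) * D.z ^ d * (F.el v : G) by group, hu,
      ((D.z_commG _).pow_left d).eq, mul_assoc _ (D.z ^ d) (D.z ^ d), ← pow_add, ← two_mul d, pow_mul, pow_two, D.zz,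
      one_pow, mul_one, el_val_mul,
      show (v.2.1, v.1, -v.2.2) + v = (v.1 + v.2.1, v.1 + v.2.1, 0) from
        (show ∀ v : Fin 3 × Fin 3 × Fin 3, (v.2.1, v.1, -v.2.2) + v = (v.1 + v.2.1, v.1 + v.2.1, 0) by
          decide +kernel) v, el_y]
    exact pow_mem (mem_zpowers _) _
  · intro g hg
    rw [eq_bot_iff]
    rintro _ ⟨⟨a, ha, rfl⟩, ⟨_, ⟨c, hc, rfl⟩, e⟩⟩
    rw [mem_bot]
    by_contra ha1
    obtain ⟨b, rfl⟩ := QuotientGroup.mk'_surjective F.N g
    apply hg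
    have e' : F.π (b * c * b⁻¹) = F.π a := by rw [map_mul, map_mul, map_inv]; exact e
    have ha' := mem_subgroupOf.1 ha
    have hc' := mem_subgroupOf.1 hc
    have hsq : F.π (b * (c * c) * b⁻¹) = F.π (a * a) := by
      rw [show b * (c * c) * b⁻¹ = (b * c * b⁻¹) * (b * c * b⁻¹) by group, map_mul, e', ← map_mul]
    rw [F.π_eq] at hsq
    have hsq' : (b : G) * ((c : G) * c) * (b : G)⁻¹ * ((a : G) * a)⁻¹ ∈ zpowers F.y := hsq
    by_cases hay : ((a : G) * a) ∈ zpowers F.y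
    · have hcy' : (c : G) * c ∈ zpowers F.y := by
        have h1 : (b : G) * ((c : G) * c) * (b : G)⁻¹ ∈ zpowers F.y := by
          have := mul_mem hsq' hay
          rwa [inv_mul_cancel_right] at this
        obtain ⟨i, hi⟩ := mem_zpowers_iff.1 h1
        refine mem_zpowers_iff.2 ⟨i, ?_⟩
        calc F.y ^ i = (b : G)⁻¹ * (F.y ^ i) * b := by
              rw [((hcy b).zpow_right i).inv_left.eq, inv_mul_cancel_right]
          _ = (c : G) * c := by rw [hi]; group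
      have half : ∀ k : F.Y, (k : G) ∈ F.K0 → (k : G) * k ∈ zpowers F.y → F.π k ≠ 1 → F.π k = F.π zY := by
        intro k hk hkk hk1
        have hE : ∀ f : G, f ∈ F.E → f * f ∈ zpowers F.y → f ∈ zpowers F.y := fun f hf hff => by
          have h4 := mul_mem hff hff
          rwa [show f * f * (f * f) = f ^ 3 * f by rw [pow_succ, pow_two]; group, F.E_cube hf, one_mul] at h4
        rcases hk with hk | hk
        · exact absurd (F.π_one.2 (hE _ hk hkk)) hk1
        · have hc2 : Commute (D.z * (k : G)) D.z := mem_centralizer_singleton_iff.1 (F.E_le hk)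
          have h := hE _ hk (by
            rw [show D.z * (k : G) * (D.z * k) = (k : G) * k by rw [← mul_assoc, hc2.eq, ← mul_assoc, D.zz, one_mul]]
            exact hkk)
          rw [F.π_eq]
          show (k : G) * D.z⁻¹ ∈ zpowers F.y
          have hkz : Commute (k : G) D.z := F.K0_comm (Or.inr hk) F.z_K0
          rwa [inv_eq_of_mul_eq_one_right D.zz, hkz.eq]
      have ea := half a ha' hay ha1
      have hc1 : F.π c ≠ 1 := fun h => ha1 (by
        rw [← e', map_mul, map_mul, h, mul_one, map_inv, mul_inv_cancel])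
      have ec := half c hc' hcy' hc1
      rw [BSW.mem_Cz']
      rw [map_mul, map_mul, map_inv, ec, ea] at e'
      exact e'
    · set w := (b : G) * D.z * (b : G)⁻¹ with hw
      have hwc : Commute w ((b : G) * ((c : G) * c) * (b : G)⁻¹) :=
        (F.K0_comm F.z_K0 (F.K0.mul_mem hc' hc')).map (MulAut.conj (b : G)).toMonoidHom
      have hwy : Commute w F.y :=
        ((hcy b).mul_left (F.K0_comm F.z_K0 (Or.inl F.y_mem_E))).mul_left (hcy b).inv_left
      have hwa : Commute w ((a : G) * a) := by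
        obtain ⟨i, hi⟩ := mem_zpowers_iff.1 hsq'
        have : (a : G) * a = (F.y ^ i)⁻¹ * ((b : G) * ((c : G) * c) * (b : G)⁻¹) := by
          rw [hi, mul_inv_rev, inv_inv, inv_mul_cancel_right]
        rw [this]
        exact (hwy.zpow_right i).inv_right.mul_right hwc
      have hwK : w ∈ F.K0 := F.cent_E hW (F.K0_sq ha') hay hwy (by
        rw [hwa.eq, mul_inv_cancel_right, mul_inv_cancel]; exact one_mem _)
      have hw2 : w * w = 1 := by
        rw [hw, show (b : G) * D.z * (b : G)⁻¹ * ((b : G) * D.z * (b : G)⁻¹) = (b : G) * (D.z * D.z) * (b : G)⁻¹ by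
          group, D.zz]
        group
      have hwz := F.K0_invol hwK hw2 fun e1 => D.z_ne (Subtype.ext (conj_eq_one_iff.1 e1))
      rw [BSW.mem_Cz', ← map_inv, ← map_mul, ← map_mul]
      exact congrArg F.π (Subtype.ext hwz)
  · have key : ∀ x : F.Y ⧸ F.N, orderOf x = 2 → IsConj (F.π zY) x := by
      intro x hx
      obtain ⟨a, rfl⟩ := QuotientGroup.mk'_surjective F.N x
      obtain ⟨hx2, hx1⟩ := BSW.order_two_iff.1 hx
      rw [← map_mul, F.π_one] at hx2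
      have hx2' : (a : G) * a ∈ zpowers F.y := hx2
      have h6 : ((a : G) ^ 3) * ((a : G) ^ 3) = 1 := by
        rw [← (Commute.refl (a : G)).mul_pow]
        exact F.E_cube (F.y_le_E hx2')
      have he : F.π a = F.π (a ^ 3) := by
        rw [map_pow, pow_succ, pow_two, ← map_mul F.π a a, (F.π_one (a := a * a)).2 hx2', one_mul]
      have hne : (a : G) ^ 3 ≠ 1 := fun e => hx1 (by
        rw [he, show a ^ 3 = 1 from Subtype.ext (by rw [SubmonoidClass.coe_pow, e, OneMemClass.coe_one]), map_one])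
      obtain ⟨h, hhy, hh⟩ := F.y_conj ((hcy a).pow_left 3) h6 hne
      refine (isConj_iff.2 ⟨F.π ⟨h, mem_centralizer_singleton_iff.2 hhy.eq⟩, ?_⟩ : IsConj (F.π a) (F.π zY)).symm
      rw [he, ← map_inv, ← map_mul, ← map_mul]
      refine congrArg F.π (Subtype.ext ?_)
      show h * ((a ^ 3 : F.Y) : G) * h⁻¹ = D.z
      rw [SubmonoidClass.coe_pow, hh]
    exact fun x x' hx hx' => (key x hx).symm.trans (key x' hx')

/-- **The small core is impossible.** -/
theorem small_false : False := by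
  classical
  have hH := F.bsw hW
  haveI : Fintype (F.Y ⧸ F.N) := Fintype.ofFinite _
  obtain ⟨q, al, hD⟩ := BSW.exists_data hH (by rw [F.card_KH]; norm_num)
  obtain ⟨Q, A, hcard, hQ, hA, hAQ, hint, hnorm, -⟩ := BSW.main hH
  have hq := hD.q_eq
  have hc := hD.card
  rw [F.card_KH] at hq hc
  have hH2 : Nat.card (F.Y ⧸ F.N) = 25308 ∨ Nat.card (F.Y ⧸ F.N) = 21420 := by
    rcases hq with e | e
    · left
      rw [e] at hc
      exact Nat.cast_injective (R := ℤ) (hc.trans (by norm_num))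
    · right
      rw [e] at hc
      exact Nat.cast_injective (R := ℤ) (hc.trans (by norm_num))
  obtain ⟨m, hm⟩ : ∃ m, Nat.card Q = m := ⟨_, rfl⟩
  rw [hm] at hcard hAQ
  have hm' : (Nat.card (F.Y ⧸ F.N) = 25308 ∧ m = 37) ∨ (Nat.card (F.Y ⧸ F.N) = 21420 ∧ m = 35) := by
    have hup : m ≤ 37 := by
      by_contra h
      have : 38 * 39 * 37 ≤ m * (m + 1) * (m - 1) :=
        Nat.mul_le_mul (Nat.mul_le_mul (by omega) (by omega)) (by omega)
      omega
    interval_cases m <;> omega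
  have hQn : ∀ d ∈ A, ∀ x ∈ Q, d * x * d⁻¹ ∈ Q := fun d hd x hx =>
    (mem_normalizer_iff.1 (hnorm.ge (mem_sup_right hd)) x).1 hx
  have hfree : ∀ d ∈ A, ∀ x ∈ Q, x ≠ 1 → Commute d x → d = 1 := fun d hd x hx hx1 hc' => by
    have h1 : d ∈ Q := (hQ x hx hx1).le (mem_centralizer_singleton_iff.2 hc'.eq)
    exact mem_bot.1 (hint ▸ ⟨h1, hd⟩)
  rcases hm' with ⟨hHc, rfl⟩ | ⟨-, rfl⟩
  · -- the quotient of order `25308`
    haveI : Fact (Nat.Prime 37) := ⟨by norm_num⟩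
    haveI : Fact (Nat.Prime 3) := ⟨Nat.prime_three⟩
    obtain ⟨P, hP⟩ := Sylow.exists_subgroup_card_pow_prime (G := A) 3 (n := 2) (by
      have : Nat.card A = 18 := by omega
      rw [this]; norm_num)
    obtain ⟨S, hS⟩ := ((IsPGroup.of_card hP).map A.subtype).exists_le_sylow
    have hsmall : ∀ T : Sylow 3 (F.Y ⧸ F.N), Nat.card (T : Subgroup (F.Y ⧸ F.N)) ≤ 9 := by
      intro T
      obtain ⟨k, hk⟩ := IsPGroup.iff_card.1 T.isPGroup'
      have h1 := card_subgroup_dvd_card (T : Subgroup (F.Y ⧸ F.N))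
      rw [hHc, hk] at h1
      rw [hk]
      by_contra h
      have hk3 : 3 ≤ k := by
        by_contra h2
        exact h (le_trans (Nat.pow_le_pow_right (by norm_num) (by omega : k ≤ 2)) (by norm_num))
      have h27 := (pow_dvd_pow 3 hk3).trans h1
      norm_num at h27
    set EH := (F.E.subgroupOf F.Y).map F.π with hEH
    have hE3 : IsPGroup 3 EH := fun g => ⟨1, by
      obtain ⟨⟨_, e, he, rfl⟩, rfl⟩ : ∃ g' : EH, g' = g := ⟨g, rfl⟩
      refine Subtype.ext ?_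
      rw [SubmonoidClass.coe_pow, OneMemClass.coe_one, ← map_pow, pow_one,
        show e ^ 3 = 1 from Subtype.ext (F.E_cube (mem_subgroupOf.1 he)), map_one]⟩
    obtain ⟨T, hT⟩ := hE3.exists_le_sylow
    have hT9 : 9 ≤ Nat.card EH := by
      have e9 : Nat.card (Fin 3 × Fin 3) = 9 := by simp [Nat.card_eq_fintype_card]
      rw [← e9]
      refine Nat.card_le_card_of_injective (fun p => (⟨F.κ (0, p.1, p.2), ?_⟩ : EH)) fun p p' h => ?_
      · obtain ⟨e, he, ve⟩ := F.κ_val (0, p.1, p.2)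
        refine ⟨e, mem_subgroupOf.2 ?_, he.symm⟩
        rw [ve, show ((0 : Fin 2) : ℕ) = 0 from rfl, pow_zero, one_mul]
        exact F.el_mem _
      · have e := F.κ_injective (congrArg Subtype.val h :)
        exact (Prod.ext_iff.1 e).2
    have hTE : EH = (T : Subgroup (F.Y ⧸ F.N)) := eq_of_le_of_card_ge hT ((hsmall T).trans hT9)
    obtain ⟨g, hg⟩ := MulAction.exists_smul_eq (F.Y ⧸ F.N) T S
    have hcube : ∀ p : P, ((p : A) : F.Y ⧸ F.N) ^ 3 = 1 := fun p => by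
      have hp : ((p : A) : F.Y ⧸ F.N) ∈ (S : Subgroup (F.Y ⧸ F.N)) := hS ⟨p, p.2, rfl⟩
      rw [← hg, Sylow.coe_subgroup_smul, ← hTE] at hp
      obtain ⟨e, ⟨e', he', rfl⟩, hp⟩ := hp
      rw [← hp]
      show (g * F.π e' * g⁻¹) ^ 3 = 1
      rw [conj_pow, ← map_pow, show e' ^ 3 = 1 from Subtype.ext (F.E_cube (mem_subgroupOf.1 he')), map_one, mul_one,
        mul_inv_cancel]
    obtain ⟨x, hx⟩ := exists_prime_orderOf_dvd_card' (G := Q) 37 (by rw [hm])
    have hx1 : (x : F.Y ⧸ F.N) ≠ 1 := fun e => by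
      rw [show x = 1 from Subtype.ext e, orderOf_one] at hx
      norm_num at hx
    have hgen : zpowers (x : F.Y ⧸ F.N) = Q := eq_of_le_of_card_ge (zpowers_le.2 x.2) (by
      rw [Nat.card_zpowers, orderOf_coe, hx, hm])
    have hxo : orderOf (x : F.Y ⧸ F.N) = 37 := by rw [orderOf_coe, hx]
    have hexp : ∀ p : P, ∃ k : Fin 37, ((k : ℕ) ^ 3) % 37 = 1 ∧
        ((p : A) : F.Y ⧸ F.N) * x * ((p : A) : F.Y ⧸ F.N)⁻¹ = (x : F.Y ⧸ F.N) ^ (k : ℕ) := by
      intro p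
      obtain ⟨i, hi⟩ := mem_zpowers_iff.1 (hgen.ge (hQn _ (p : A).2 _ x.2))
      refine ⟨⟨(i % 37).toNat, by omega⟩, ?_, ?_⟩
      swap
      · show _ = (x : F.Y ⧸ F.N) ^ (i % 37).toNat
        rw [← hi, ← zpow_natCast, Int.toNat_of_nonneg (Int.emod_nonneg _ (by norm_num)),
          ← zpow_mod_orderOf _ i, hxo]
        rfl
      · have e : ((p : A) : F.Y ⧸ F.N) * x * ((p : A) : F.Y ⧸ F.N)⁻¹ = (x : F.Y ⧸ F.N) ^ (i % 37).toNat := by
          rw [← hi, ← zpow_natCast, Int.toNat_of_nonneg (Int.emod_nonneg _ (by norm_num)),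
            ← zpow_mod_orderOf _ i, hxo]
          rfl
        have h3 := conj_pow_iter e 3
        rw [hcube p, one_mul, inv_one, mul_one] at h3
        have h4 : (x : F.Y ⧸ F.N) ^ 1 = (x : F.Y ⧸ F.N) ^ ((i % 37).toNat ^ 3) := by rw [pow_one]; exact h3
        have h5 := pow_eq_pow_iff_modEq.1 h4
        rw [hxo] at h5
        exact h5.symm
    choose k hk1 hk2 using hexp
    have hinj : Function.Injective k := fun p p' h => by
      have he := (hk2 p).trans (h ▸ (hk2 p').symm)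
      have hc' : Commute (((p' : A) : F.Y ⧸ F.N)⁻¹ * ((p : A) : F.Y ⧸ F.N)) (x : F.Y ⧸ F.N) := by
        refine mul_inv_eq_iff_eq_mul.1 ?_
        calc ((p' : A) : F.Y ⧸ F.N)⁻¹ * (p : A) * x * (((p' : A) : F.Y ⧸ F.N)⁻¹ * (p : A))⁻¹
            = ((p' : A) : F.Y ⧸ F.N)⁻¹ * (((p : A) : F.Y ⧸ F.N) * x * ((p : A) : F.Y ⧸ F.N)⁻¹) * (p' : A) := by group
          _ = x := by rw [he]; group
      have h1 := hfree _ (A.mul_mem (A.inv_mem (p' : A).2) (p : A).2) _ x.2 hx1 hc'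
      exact Subtype.ext (Subtype.ext (inv_mul_eq_one.1 h1).symm)
    have hle : Nat.card P ≤ (Finset.univ.filter fun k : Fin 37 => ((k : ℕ) ^ 3) % 37 = 1).card := by
      rw [← Nat.card_eq_finsetCard]
      exact Nat.card_le_card_of_injective (fun p => ⟨k p, Finset.mem_filter.2 ⟨Finset.mem_univ _, hk1 p⟩⟩)
        fun p p' h => hinj (congrArg Subtype.val h)
    rw [hP, cube_roots] at hle
    norm_num at hle
  · -- the quotient of order `21420`
    haveI : Fact (Nat.Prime 5) := ⟨by norm_num⟩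
    haveI : Fact (Nat.Prime 17) := ⟨by norm_num⟩
    obtain ⟨x, hx⟩ := exists_prime_orderOf_dvd_card' (G := Q) 5 (by rw [hm]; norm_num)
    have hx1 : (x : F.Y ⧸ F.N) ≠ 1 := fun e => by
      rw [show x = 1 from Subtype.ext e, orderOf_one] at hx
      norm_num at hx
    have hxo : orderOf (x : F.Y ⧸ F.N) = 5 := by rw [orderOf_coe, hx]
    have hQc : ∀ a ∈ Q, ∀ b ∈ Q, a * b = b * a := fun a ha b hb => by
      by_cases ha1 : a = 1
      · simp [ha1]
      · exact (mem_centralizer_singleton_iff.1 ((hQ a ha ha1).ge hb)).symm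
    obtain ⟨d, hd⟩ := exists_prime_orderOf_dvd_card' (G := A) 17 (by
      have : Nat.card A = 17 := by omega
      rw [this])
    let Q5 : Subgroup (F.Y ⧸ F.N) :=
    { carrier := {a | a ∈ Q ∧ a ^ 5 = 1}
      one_mem' := ⟨one_mem _, one_pow _⟩
      mul_mem' := fun {a b} ha hb => ⟨mul_mem ha.1 hb.1, by
        rw [(show Commute a b from hQc a ha.1 b hb.1).mul_pow, ha.2, hb.2, one_mul]⟩
      inv_mem' := fun {a} ha => ⟨inv_mem ha.1, by rw [inv_pow, ha.2, inv_one]⟩ }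
    have h5 : Nat.card Q5 ≤ 5 := by
      have hp : IsPGroup 5 Q5 := fun a => ⟨1, Subtype.ext (by
        rw [pow_one, SubmonoidClass.coe_pow, a.2.2, OneMemClass.coe_one])⟩
      obtain ⟨j, hj⟩ := IsPGroup.iff_card.1 hp
      have h1 := card_dvd_of_le (fun a ha => ha.1 : Q5 ≤ Q)
      rw [hj, hm] at h1
      rw [hj]
      by_contra h
      have hj2 : 2 ≤ j := by
        by_contra h2
        exact h (le_trans (Nat.pow_le_pow_right (by norm_num) (by omega : j ≤ 1)) (by norm_num))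
      have h25 := (pow_dvd_pow 5 hj2).trans h1
      norm_num at h25
    have hxQ5 : (x : F.Y ⧸ F.N) ∈ Q5 := ⟨x.2, by rw [← hxo, pow_orderOf_eq_one]⟩
    have hgen : zpowers (x : F.Y ⧸ F.N) = Q5 :=
      eq_of_le_of_card_ge (zpowers_le.2 hxQ5) (by rw [Nat.card_zpowers, hxo]; exact h5)
    have hdmem : ((d : F.Y ⧸ F.N) * x * (d : F.Y ⧸ F.N)⁻¹) ∈ Q5 :=
      ⟨hQn _ d.2 _ x.2, by rw [conj_pow, hxQ5.2, mul_one, mul_inv_cancel]⟩
    obtain ⟨i, hi⟩ := mem_zpowers_iff.1 (hgen.ge hdmem)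
    obtain ⟨k, hk, e⟩ : ∃ k : ℕ, k < 5 ∧ (d : F.Y ⧸ F.N) * x * (d : F.Y ⧸ F.N)⁻¹ = (x : F.Y ⧸ F.N) ^ k :=
      ⟨(i % 5).toNat, by omega, by
        rw [← hi, ← zpow_natCast, Int.toNat_of_nonneg (Int.emod_nonneg _ (by norm_num)), ← zpow_mod_orderOf _ i, hxo]
        rfl⟩
    have hd17 : (d : F.Y ⧸ F.N) ^ 17 = 1 := by
      rw [← SubmonoidClass.coe_pow, ← hd, pow_orderOf_eq_one, OneMemClass.coe_one]
    have h3 := conj_pow_iter e 17
    rw [hd17, one_mul, inv_one, mul_one] at h3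
    have h4 : (x : F.Y ⧸ F.N) ^ 1 = (x : F.Y ⧸ F.N) ^ (k ^ 17) := by rw [pow_one]; exact h3
    have h6 := pow_eq_pow_iff_modEq.1 h4
    rw [hxo] at h6
    have hk1 : k = 1 :=
      (show ∀ k < 5, (1 : ℕ) % 5 = k ^ 17 % 5 → k = 1 by decide +kernel) k hk h6
    rw [hk1, pow_one] at e
    have hd1 := hfree _ d.2 _ x.2 hx1 (mul_inv_eq_iff_eq_mul.1 e)
    rw [show d = 1 from Subtype.ext hd1, orderOf_one] at hd
    norm_num at hd

end Nine.Frame

end Cfsg.Agent.DoubleCoverDeg
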