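import Cfsg.Agent.Lib.DoubleCoverDeg.NineLarge
import Cfsg.Agent.Lib.DoubleCoverDeg.NineSmall

/-!
S1645: the degree is not nine.
-/

set_option autoImplicit false

namespace Cfsg.Agent.DoubleCoverDeg

open Cfsg Equiv Subgroup

universe u

variable {G : Type u} [Group G] [Finite G] [IsSimpleGroup G]

/-- **The degree is not nine.** -/
theorem no_nine (D : Ctx G 9) : False := by
  obtain ⟨F⟩ := Nine.exists_frame D
  rcases F.W_cases with h | ⟨h, hb, hzb⟩
  · exact F.small_false h
  · exact F.large_false h hb hzb

end Cfsg.Agent.DoubleCoverDeg
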