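import Cfsg.Agent.Lib.DoubleCoverDeg.NineFrame

/-!
S1645, degree nine: the group of the three lifts, and the centraliser of the product of the first two.
-/

set_option autoImplicit false
set_option linter.style.haveILetI false
set_option linter.unusedSectionVars false
set_option linter.constructorNameAsVariable false

namespace Cfsg.Agent.DoubleCoverDeg

open Cfsg Equiv Subgroup
open Ctx (c0)

universe u

variable {G : Type u} [Group G] [Finite G]

namespace Nine.Frame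

variable {D : Ctx G 9} (F : Frame D)

theorem el_mul (v w : Fin 3 × Fin 3 × Fin 3) : F.el v * F.el w = F.el (v + w) := by
  have hp : ∀ (e : D.X), e ^ 3 = 1 → ∀ a a' : Fin 3, e ^ (a : ℕ) * e ^ (a' : ℕ) = e ^ ((a + a' : Fin 3) : ℕ) :=
    fun e he a a' => by rw [← pow_add, pow_eq_pow_mod _ he, Fin.val_add]
  have k1 : Commute (F.e2 ^ (v.2.2 : ℕ)) (F.x ^ (w.1 : ℕ) * F.e1 ^ (w.2.1 : ℕ)) :=
    (F.comm02.symm.pow_pow _ _).mul_right (F.comm12.symm.pow_pow _ _)
  have k2 : Commute (F.e1 ^ (v.2.1 : ℕ)) (F.x ^ (w.1 : ℕ)) := F.comm01.symm.pow_pow _ _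
  simp only [el, Prod.fst_add, Prod.snd_add]
  rw [← hp _ F.x3, ← hp _ F.e13, ← hp _ F.e23]
  calc _ = F.x ^ (v.1 : ℕ) * F.e1 ^ (v.2.1 : ℕ) *
        (F.e2 ^ (v.2.2 : ℕ) * (F.x ^ (w.1 : ℕ) * F.e1 ^ (w.2.1 : ℕ))) * F.e2 ^ (w.2.2 : ℕ) := by group
    _ = F.x ^ (v.1 : ℕ) * (F.e1 ^ (v.2.1 : ℕ) * F.x ^ (w.1 : ℕ)) * F.e1 ^ (w.2.1 : ℕ) *
        (F.e2 ^ (v.2.2 : ℕ) * F.e2 ^ (w.2.2 : ℕ)) := by rw [k1.eq]; group
    _ = _ := by rw [k2.eq]; group

theorem el_zero : F.el 0 = 1 := by simp [el]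

theorem el_x : F.el (1, 0, 0) = F.x := by simp [el]
theorem el_1 : F.el (0, 1, 0) = F.e1 := by simp [el]
theorem el_2 : F.el (0, 0, 1) = F.e2 := by simp [el]

theorem el_inv (v : Fin 3 × Fin 3 × Fin 3) : (F.el v)⁻¹ = F.el (-v) :=
  inv_eq_of_mul_eq_one_right (by rw [el_mul, add_neg_cancel, el_zero])

theorem el_comm (v w : Fin 3 × Fin 3 × Fin 3) : Commute (F.el v) (F.el w) := by
  show _ = _
  rw [el_mul, el_mul, add_comm]

theorem el_cube (v : Fin 3 × Fin 3 × Fin 3) : F.el v ^ 3 = 1 := by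
  rw [pow_succ, pow_two, el_mul, el_mul, show v + v + v = 0 from
    (show ∀ v : Fin 3 × Fin 3 × Fin 3, v + v + v = 0 by decide +kernel) v, el_zero]

theorem el_ne_z (v : Fin 3 × Fin 3 × Fin 3) : F.el v ≠ D.zX := fun e => by
  have := F.el_cube v
  rw [e, D.z_pow_odd (by decide)] at this
  exact D.z_ne this

theorem el_injective : Function.Injective F.el := fun v w e => cpow_injective (by rw [← p_el F, ← p_el F, e])

/-- The group of the three lifts. -/
def E : Subgroup G where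
  carrier := {g | ∃ v, g = (F.el v : G)}
  one_mem' := ⟨0, by rw [el_zero, OneMemClass.coe_one]⟩
  inv_mem' := by rintro _ ⟨v, rfl⟩; exact ⟨-v, by rw [← el_inv, InvMemClass.coe_inv]⟩
  mul_mem' := by rintro _ _ ⟨v, rfl⟩ ⟨w, rfl⟩; exact ⟨v + w, by rw [← el_mul, Subgroup.coe_mul]⟩

theorem mem_E {g : G} : g ∈ F.E ↔ ∃ v, g = (F.el v : G) := Iff.rfl

theorem x_mem_E : (F.x : G) ∈ F.E := ⟨_, (congrArg Subtype.val F.el_x).symm⟩
theorem e1_mem_E : (F.e1 : G) ∈ F.E := ⟨_, (congrArg Subtype.val F.el_1).symm⟩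
theorem e2_mem_E : (F.e2 : G) ∈ F.E := ⟨_, (congrArg Subtype.val F.el_2).symm⟩

theorem E_le : F.E ≤ D.X := by rintro _ ⟨v, rfl⟩; exact (F.el v).2

theorem E_comm {g h : G} (hg : g ∈ F.E) (hh : h ∈ F.E) : Commute g h := by
  obtain ⟨v, rfl⟩ := hg; obtain ⟨w, rfl⟩ := hh
  exact Ctx.val_comm D (F.el_comm v w)

theorem E_cube {g : G} (hg : g ∈ F.E) : g ^ 3 = 1 := by
  obtain ⟨v, rfl⟩ := hg
  exact congrArg Subtype.val (F.el_cube v)

theorem card_E : Nat.card F.E = 27 := by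
  have e : Nat.card (Fin 3 × Fin 3 × Fin 3) = 27 := by simp [Nat.card_eq_fintype_card]
  rw [← e]
  refine (Nat.card_eq_of_bijective (fun v => (⟨_, v, rfl⟩ : F.E)) ⟨fun v w h => ?_, ?_⟩).symm
  · exact F.el_injective (Subtype.ext (congrArg Subtype.val h :))
  · rintro ⟨_, v, rfl⟩; exact ⟨v, rfl⟩

/-- An element mapping the three lifts into their group normalises it. -/
theorem E_conj {k : G} (h0 : k * F.x * k⁻¹ ∈ F.E) (h1 : k * F.e1 * k⁻¹ ∈ F.E) (h2 : k * F.e2 * k⁻¹ ∈ F.E)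
    {g : G} (hg : g ∈ F.E) : k * g * k⁻¹ ∈ F.E := by
  obtain ⟨v, rfl⟩ := hg
  simp only [el, Subgroup.coe_mul, SubmonoidClass.coe_pow]
  rw [show k * ((F.x : G) ^ (v.1 : ℕ) * (F.e1 : G) ^ (v.2.1 : ℕ) * (F.e2 : G) ^ (v.2.2 : ℕ)) * k⁻¹ =
    (k * (F.x : G) ^ (v.1 : ℕ) * k⁻¹) * (k * (F.e1 : G) ^ (v.2.1 : ℕ) * k⁻¹) * (k * (F.e2 : G) ^ (v.2.2 : ℕ) * k⁻¹) by
    group, ← conj_pow, ← conj_pow, ← conj_pow]
  exact mul_mem (mul_mem (pow_mem h0 _) (pow_mem h1 _)) (pow_mem h2 _)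

theorem u_E {g : G} (hg : g ∈ F.E) : (F.u : G) * g * (F.u : G)⁻¹ ∈ F.E :=
  F.E_conj (Ctx.val_conj D F.u_x ▸ F.e1_mem_E) (Ctx.val_conj D F.u_1 ▸ F.x_mem_E)
    (by rw [Ctx.val_conj D F.u_2, InvMemClass.coe_inv]; exact inv_mem F.e2_mem_E) hg

theorem g_E {g : G} (hg : g ∈ F.E) : (F.g : G) * g * (F.g : G)⁻¹ ∈ F.E :=
  F.E_conj (by rw [Ctx.val_conj D F.g_x]; exact F.x_mem_E)
    (by rw [Ctx.val_conj D F.g_1, InvMemClass.coe_inv]; exact inv_mem F.e1_mem_E)
    (by rw [Ctx.val_conj D F.g_2, InvMemClass.coe_inv]; exact inv_mem F.e2_mem_E) hg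

theorem b_E {g : G} (hg : g ∈ F.E) : (F.b : G) * g * (F.b : G)⁻¹ ∈ F.E :=
  F.E_conj (by rw [Ctx.val_conj D F.b_x, InvMemClass.coe_inv]; exact inv_mem F.x_mem_E)
    (Ctx.val_conj D F.b_1 ▸ F.e2_mem_E) (Ctx.val_conj D F.b_2 ▸ F.e1_mem_E) hg

theorem z_not_E : D.z ∉ F.E := fun ⟨v, hv⟩ => F.el_ne_z v (Subtype.ext hv.symm)

/-- The centraliser of the involution and of the first two lifts. -/
theorem cen_two_G {c : G} (hc : c ∈ D.X) (h0 : Commute c (F.x : G)) (h1 : Commute c (F.e1 : G)) :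
    c ∈ F.E ∨ D.z * c ∈ F.E := by
  obtain ⟨v, e | e⟩ := F.cen_X (c := ⟨c, hc⟩) (Subtype.ext h0.eq) (Subtype.ext h1.eq)
  · exact Or.inl ⟨v, congrArg Subtype.val e⟩
  · refine Or.inr ⟨v, ?_⟩
    rw [show c = D.z * (F.el v : G) from congrArg Subtype.val e, ← mul_assoc, D.zz, one_mul]

/-- The product of the first two lifts. -/
def y : G := (F.x : G) * (F.e1 : G)

theorem y_mem_E : F.y ∈ F.E := mul_mem F.x_mem_E F.e1_mem_E

theorem u_y : Commute (F.u : G) F.y := by
  refine mul_inv_eq_iff_eq_mul.1 ?_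
  rw [y, show (F.u : G) * ((F.x : G) * F.e1) * (F.u : G)⁻¹ =
    ((F.u : G) * F.x * (F.u : G)⁻¹) * ((F.u : G) * F.e1 * (F.u : G)⁻¹) by group, Ctx.val_conj D F.u_x,
    Ctx.val_conj D F.u_1]
  exact (Ctx.val_comm D F.comm01).eq.symm

theorem uu : (F.u : G) * F.u = 1 := congrArg Subtype.val F.u2

theorem u_not_E : (F.u : G) ∉ F.E ∧ D.z * (F.u : G) ∉ F.E := by
  have key : ∀ k : D.X, D.p k = u0 → (k : G) ∉ F.E := fun k hk ⟨v, hv⟩ =>
    (show ∀ v, u0 ≠ cpow v by decide +kernel) v (by rw [← hk, ← F.p_el, show k = F.el v from Subtype.ext hv])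
  exact ⟨key F.u F.pu, key (D.zX * F.u) (by rw [map_mul, D.p_z, one_mul, F.pu])⟩

/-- The centraliser of the involution and of the product of the first two lifts. -/
theorem cen_prod_G {c : G} (hc : c ∈ D.X) (hy : Commute c F.y) :
    c ∈ F.E ∨ D.z * c ∈ F.E ∨ (F.u : G) * c ∈ F.E ∨ D.z * ((F.u : G) * c) ∈ F.E := by
  have key : ∀ k : G, k ∈ D.X → Commute k F.y → Commute k (F.x : G) → k ∈ F.E ∨ D.z * k ∈ F.E := by
    intro k hk hky hkx
    refine F.cen_two_G hk hkx ?_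
    have h2 := hkx.inv_right.mul_right hky
    rwa [y, inv_mul_cancel_left] at h2
  have hcy : Commute (D.p ⟨c, hc⟩) (c0 * c1) := by
    have h1 : Commute (⟨c, hc⟩ : D.X) (F.x * F.e1) := Subtype.ext hy.eq
    have h2 := h1.map D.p
    rwa [map_mul, F.px, F.p1] at h2
  rcases cen_prod _ hcy with h | h
  · have hx : Commute (⟨c, hc⟩ : D.X) F.x := D.comm_odd (m := 3) (by decide) F.x3 (by rw [F.px]; exact h)
    rcases key c hc hy (Ctx.val_comm D hx) with e | e
    · exact Or.inl e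
    · exact Or.inr (Or.inl e)
  · have hx : Commute (F.u * ⟨c, hc⟩) F.x :=
      D.comm_odd (m := 3) (by decide) F.x3 (by rw [F.px, map_mul, F.pu]; exact h)
    rcases key ((F.u : G) * c) (mul_mem F.u.2 hc) (F.u_y.mul_left hy) (Ctx.val_comm D hx) with e | e
    · exact Or.inr (Or.inr (Or.inl e))
    · exact Or.inr (Or.inr (Or.inr e))

/-- An element of odd exponent of that centraliser lies in the group of the lifts. -/
theorem odd_prod {c : G} (hc : c ∈ D.X) (hy : Commute c F.y) {m : ℕ} (hm : Odd m) (hcm : c ^ m = 1) : c ∈ F.E := by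
  obtain ⟨r, rfl⟩ := hm
  have hzc : Commute D.z c := D.z_commG ⟨c, hc⟩
  have hpow : ∀ {k : G}, k ∈ F.E → Commute k D.z := fun hk => (mem_centralizer_singleton_iff.1 (F.E_le hk))
  have fin : c * c ∈ F.E → c ∈ F.E := fun h2 => by
    have h3 : (c * c) ^ r * c = 1 := by rw [← pow_two, ← pow_mul, ← pow_succ, hcm]
    rw [eq_inv_of_mul_eq_one_right h3]
    exact inv_mem (pow_mem h2 _)
  have swapped : ∀ k : G, k * k = 1 → (∀ e ∈ F.E, k * e * k⁻¹ ∈ F.E) → k * c ∈ F.E → c * c ∈ F.E := by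
    intro k hk hkE he
    have e1 : c = k * (k * c) := by rw [← mul_assoc, hk, one_mul]
    rw [e1, show k * (k * c) * (k * (k * c)) = (k * (k * c) * k⁻¹) * (k * k) * (k * c) by group, hk, mul_one]
    exact mul_mem (hkE _ he) he
  have hzE : ∀ e ∈ F.E, D.z * e * D.z⁻¹ ∈ F.E := fun e he => by
    rwa [(hpow he).symm.eq, mul_inv_cancel_right]
  refine fin ?_
  rcases F.cen_prod_G hc hy with h | h | h | h
  · exact mul_mem h h
  · exact swapped D.z D.zz hzE h
  · exact swapped F.u F.uu (fun e he => F.u_E he) h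
  · refine swapped (D.z * F.u) ?_ (fun e he => ?_) (by rwa [mul_assoc])
    · rw [show D.z * (F.u : G) * (D.z * F.u) = D.z * ((F.u : G) * D.z) * F.u by group, ← (D.z_commG F.u).eq,
        ← mul_assoc, D.zz, one_mul, F.uu]
    · rw [show D.z * (F.u : G) * e * (D.z * (F.u : G))⁻¹ = D.z * ((F.u : G) * e * (F.u : G)⁻¹) * D.z⁻¹ by group]
      exact hzE _ (F.u_E he)

variable [IsSimpleGroup G]

theorem y_cube : F.y ^ 3 = 1 := F.E_cube F.y_mem_E

/-- **The involutions of the centraliser of the product are conjugate there.** -/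
theorem y_conj {v : G} (hv : Commute v F.y) (hv2 : v * v = 1) (hv1 : v ≠ 1) :
    ∃ h : G, Commute h F.y ∧ h * v * h⁻¹ = D.z := by
  classical
  have hX : ∀ v : G, v ∈ D.X → Commute v F.y → v * v = 1 → v ≠ 1 → ∃ h : G, Commute h F.y ∧ h * v * h⁻¹ = D.z := by
    intro v hvX hv hv2 hv1
    by_cases hvz : v = D.z
    · exact ⟨1, Commute.one_left _, by rw [hvz]; group⟩
    obtain ⟨h, hh⟩ := isConj_iff.1 (D.isConj_invol (by norm_num) (by norm_num)
      (orderOf_eq_prime (by rw [pow_two, hv2]) hv1 : orderOf v = 2)).symm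
    have hyv : Commute (h * F.y * h⁻¹) D.z := by
      have h2 := hv.symm.map (MulAut.conj h).toMonoidHom
      rw [show (MulAut.conj h).toMonoidHom v = D.z from hh] at h2
      exact h2
    let y' : D.X := ⟨h * F.y * h⁻¹, mem_centralizer_singleton_iff.2 hyv.eq⟩
    have htz : Commute (h * D.z * h⁻¹) D.z := by
      have h2 := (show Commute v D.z from mem_centralizer_singleton_iff.1 hvX).symm.map (MulAut.conj h).toMonoidHom
      rw [show (MulAut.conj h).toMonoidHom v = D.z from hh] at h2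
      exact h2
    let t : D.X := ⟨h * D.z * h⁻¹, mem_centralizer_singleton_iff.2 htz.eq⟩
    have hy' : y' ^ 3 = 1 := Subtype.ext (by
      show (h * F.y * h⁻¹) ^ 3 = 1
      rw [conj_pow, F.y_cube, mul_one, mul_inv_cancel])
    have hy1 : y' ≠ 1 := fun e => by
      have h1 : F.y = 1 := conj_eq_one_iff.1 (congrArg Subtype.val e :)
      have h2 : D.p (F.x * F.e1) = 1 := by
        rw [show F.x * F.e1 = 1 from Subtype.ext h1, map_one]
      rw [map_mul, F.px, F.p1] at h2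
      exact (show c0 * c1 ≠ 1 by decide +kernel) h2
    have hct := D.two_type (t := t) hy' hy1 (Subtype.ext (by
        show h * D.z * h⁻¹ * (h * D.z * h⁻¹) = 1
        rw [show h * D.z * h⁻¹ * (h * D.z * h⁻¹) = h * (D.z * D.z) * h⁻¹ by group, D.zz]; group))
      (fun e => D.z_ne (Subtype.ext (conj_eq_one_iff.1 (congrArg Subtype.val e :))))
      (fun e => hvz (by
        have e' : h * D.z * h⁻¹ = h * v * h⁻¹ := by rw [hh]; exact congrArg Subtype.val e
        exact (mul_left_cancel (mul_right_cancel e')).symm))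
      (Subtype.ext ((show Commute D.z F.y from (mem_centralizer_singleton_iff.1 (F.E_le F.y_mem_E)).symm).map
        (MulAut.conj h).toMonoidHom).eq)
    obtain ⟨s, hs⟩ := isConj_iff.1 (Perm.isConj_iff_cycleType_eq.2 (hct.trans
      (show (c0 * c1).cycleType = {3, 3} by decide +kernel).symm))
    obtain ⟨s', hs1, hs'⟩ : ∃ s' : Perm (Fin 9), Perm.sign s' = 1 ∧ s' * D.p y' * s'⁻¹ = c0 * c1 := by
      rcases Int.units_eq_one_or (Perm.sign s) with e | e
      · exact ⟨s, e, hs⟩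
      · refine ⟨swap 6 7 * s, by rw [map_mul, e, Perm.sign_swap (by decide)]; rfl, ?_⟩
        rw [show swap 6 7 * s * D.p y' * (swap 6 7 * s)⁻¹ = swap 6 7 * (s * D.p y' * s⁻¹) * (swap 6 7)⁻¹ by group, hs]
        decide +kernel
    obtain ⟨k, rfl⟩ := D.p_surj hs1
    have hk := D.conj3 hy' (w := F.x * F.e1) (by rw [F.comm01.mul_pow, F.x3, F.e13, one_mul])
      (by rw [hs', map_mul, F.px, F.p1])
    refine ⟨(k : G) * h, ?_, ?_⟩
    · refine mul_inv_eq_iff_eq_mul.1 ?_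
      calc (k : G) * h * F.y * ((k : G) * h)⁻¹ = (k : G) * (h * F.y * h⁻¹) * (k : G)⁻¹ := by group
        _ = F.y := congrArg Subtype.val hk
    · rw [show (k : G) * h * v * ((k : G) * h)⁻¹ = (k : G) * (h * v * h⁻¹) * (k : G)⁻¹ by group, hh,
        ← (D.z_commG k).eq, mul_inv_cancel_right]
  by_contra hcon
  have hzy : Commute D.z F.y := (mem_centralizer_singleton_iff.1 (F.E_le F.y_mem_E)).symm
  set Y := centralizer ({F.y} : Set G) with hY
  obtain ⟨i, hi2, hi1, hiz, hiv⟩ := SuzRecog.dihedral_invol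
    (x := (⟨D.z, mem_centralizer_singleton_iff.2 hzy.eq⟩ : Y)) (y := ⟨v, mem_centralizer_singleton_iff.2 hv.eq⟩)
    (Subtype.ext D.zz) (Subtype.ext hv2) fun h => by
      obtain ⟨k, hk⟩ := isConj_iff.1 h
      refine hcon ⟨(k : G)⁻¹, (show Commute (k : G) F.y from mem_centralizer_singleton_iff.1 k.2).inv_left, ?_⟩
      have e' : (k : G) * D.z * (k : G)⁻¹ = v := congrArg Subtype.val hk
      rw [← e']
      group
  have hiy : Commute (i : G) F.y := mem_centralizer_singleton_iff.1 i.2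
  obtain ⟨h, hhy, hh⟩ := hX i (mem_centralizer_singleton_iff.2 (congrArg Subtype.val hiz)) hiy
    (congrArg Subtype.val hi2) (fun e => hi1 (Subtype.ext e))
  have hvX : h * v * h⁻¹ ∈ D.X := by
    have h2 := (show Commute (i : G) v from congrArg Subtype.val hiv).map (MulAut.conj h).toMonoidHom
    rw [show (MulAut.conj h).toMonoidHom (i : G) = D.z from hh] at h2
    exact mem_centralizer_singleton_iff.2 h2.symm.eq
  obtain ⟨k, hky, hk⟩ := hX _ hvX ((hhy.mul_left hv).mul_left hhy.inv_left)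
    (by rw [show h * v * h⁻¹ * (h * v * h⁻¹) = h * (v * v) * h⁻¹ by group, hv2]; group)
    (fun e => hv1 (conj_eq_one_iff.1 e))
  exact hcon ⟨k * h, hky.mul_left hhy, by rw [← hk]; group⟩

/-- The centraliser of the product moves either of the other involutions to the central one inside the four-group. -/
theorem y_fuse {t : G} (ht : t = (F.u : G) ∨ t = D.z * (F.u : G)) : ∃ h : G, Commute h F.y ∧ h * t * h⁻¹ = D.z ∧
    (h * D.z * h⁻¹ = (F.u : G) ∨ h * D.z * h⁻¹ = D.z * (F.u : G)) := by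
  classical
  have hzu2 : D.z * (F.u : G) * (D.z * F.u) = 1 := by
    rw [(D.z_commG F.u).symm.mul_mul_mul_comm, D.zz, F.uu, one_mul]
  have hzy : Commute D.z F.y := (mem_centralizer_singleton_iff.1 (F.E_le F.y_mem_E)).symm
  have htz : Commute D.z t := by
    rcases ht with rfl | rfl
    · exact D.z_commG F.u
    · exact (Commute.refl D.z).mul_right (D.z_commG F.u)
  have hty : Commute t F.y := by
    rcases ht with rfl | rfl
    · exact F.u_y
    · exact hzy.mul_left F.u_y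
  have htt : t * t = 1 := by
    rcases ht with rfl | rfl
    · exact F.uu
    · exact hzu2
  have htnz : t ≠ D.z := by
    rcases ht with rfl | rfl
    · exact fun e => F.u_not_E.2 (by rw [e, D.zz]; exact one_mem _)
    · exact fun e => F.u_not_E.1 (by rw [mul_eq_left.1 e]; exact one_mem _)
  have ht1 : t ≠ 1 := by
    rcases ht with rfl | rfl
    · exact fun e => F.u_not_E.1 (e ▸ one_mem _)
    · exact fun e => F.u_not_E.2 (e ▸ one_mem _)
  obtain ⟨h, hhy, hh⟩ := F.y_conj hty htt ht1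
  set w := h * D.z * h⁻¹ with hw
  have hwX : w ∈ D.X := by
    have h2 := htz.symm.map (MulAut.conj h).toMonoidHom
    rw [show (MulAut.conj h).toMonoidHom t = D.z from hh] at h2
    exact mem_centralizer_singleton_iff.2 h2.symm.eq
  have hwy : Commute w F.y := (hhy.mul_left hzy).mul_left hhy.inv_left
  have hw2 : w * w = 1 := by rw [hw, show h * D.z * h⁻¹ * (h * D.z * h⁻¹) = h * (D.z * D.z) * h⁻¹ by group, D.zz]; group
  have hwz : w ≠ D.z := fun e => by
    have e' : h * D.z * h⁻¹ = h * t * h⁻¹ := by rw [hh]; exact e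
    exact htnz (mul_left_cancel (mul_right_cancel e')).symm
  have hw1 : w ≠ 1 := fun e => D.z_ne (Subtype.ext (conj_eq_one_iff.1 e))
  have hpow : ∀ {k : G}, k ∈ F.E → Commute k D.z := fun hk => mem_centralizer_singleton_iff.1 (F.E_le hk)
  have adjust : ∀ k : G, k * k = 1 → Commute k D.z → k * w ∈ F.E →
      ∃ f : G, f ∈ F.E ∧ f * w * f⁻¹ = k := by
    intro k hk hkz he
    set e := k * w with he'
    have hwe : w = k * e := by rw [he', ← mul_assoc, hk, one_mul]
    have hke : k * e * k = e⁻¹ := by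
      rw [hwe] at hw2
      exact eq_inv_of_mul_eq_one_left (by rw [← hw2]; group)
    refine ⟨e * e, mul_mem he he, ?_⟩
    rw [hwe]
    calc e * e * (k * e) * (e * e)⁻¹ = (k * k) * e * (k * k) * e * (k * e) * (e * e)⁻¹ := by rw [hk, one_mul, mul_one]
      _ = k * (k * e * k) * (k * e * k) * e * (e * e)⁻¹ := by group
      _ = k * (e ^ 3)⁻¹ := by rw [hke]; group
      _ = k := by rw [F.E_cube he, inv_one, mul_one]
  have hcase : ∀ k : G, k * k = 1 → Commute k D.z → k * w ∈ F.E → ∃ h' : G, Commute h' F.y ∧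
      h' * t * h'⁻¹ = D.z ∧ h' * D.z * h'⁻¹ = k := by
    intro k hk hkz he
    obtain ⟨f, hf, hfw⟩ := adjust k hk hkz he
    refine ⟨f * h, (F.E_comm hf F.y_mem_E).mul_left hhy, ?_, ?_⟩
    · rw [show f * h * t * (f * h)⁻¹ = f * (h * t * h⁻¹) * f⁻¹ by group, hh, (hpow hf).eq,
        mul_inv_cancel_right]
    · rw [show f * h * D.z * (f * h)⁻¹ = f * w * f⁻¹ by rw [hw]; group, hfw]
  rcases F.cen_prod_G hwX hwy with e | e | e | e
  · refine absurd ?_ hw1
    calc w = w ^ 3 := by rw [pow_succ, pow_two, hw2, one_mul]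
      _ = 1 := F.E_cube e
  · refine absurd ?_ hwz
    have hc : Commute D.z w := (mem_centralizer_singleton_iff.1 hwX).symm
    have h1 : D.z * w = 1 := by
      have h2 : D.z * w * (D.z * w) = 1 := by rw [hc.symm.mul_mul_mul_comm, D.zz, hw2, one_mul]
      have h3 := F.E_cube e
      rwa [pow_succ, pow_two, h2, one_mul] at h3
    rw [eq_inv_of_mul_eq_one_right h1, inv_eq_of_mul_eq_one_right D.zz]
  · obtain ⟨h', a, b, c⟩ := hcase _ F.uu (D.z_commG F.u).symm e
    exact ⟨h', a, b, Or.inl c⟩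
  · obtain ⟨h', a, b, c⟩ := hcase (D.z * (F.u : G))
      (by rw [show D.z * (F.u : G) * (D.z * F.u) = D.z * ((F.u : G) * D.z) * F.u by group, ← (D.z_commG F.u).eq,
        ← mul_assoc, D.zz, one_mul, F.uu])
      ((Commute.refl D.z).mul_left (D.z_commG F.u).symm) (by rwa [mul_assoc])
    exact ⟨h', a, b, Or.inr c⟩

end Nine.Frame

end Cfsg.Agent.DoubleCoverDeg
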