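import Cfsg.Agent.Lib.DoubleCoverDeg.NineW
import Cfsg.Agent.Lib.G2Three.Cent.Basic
import Cfsg.Agent.Lib.Solvable.Coprime

/-!
S1645, degree nine, small core: the centralisers of the lifts modulo the product of the first two.
-/

set_option autoImplicit false
set_option linter.style.haveILetI false
set_option linter.unusedSectionVars false
set_option linter.constructorNameAsVariable false

namespace Cfsg.Agent.DoubleCoverDeg

open Cfsg Equiv Subgroup
open Ctx (c0)

universe u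

variable {G : Type u} [Group G] [Finite G]

namespace Nine

theorem three_units : ∀ v : Fin 3 × Fin 3 × Fin 3, (cpow v).support.card = 3 →
    ((v : Fin 3 × Fin 3 × Fin 3) + (2 * v.1, 2 * v.2.1, 2 * v.2.2) = 0 ∧
      (cpow ((1, 1, 0) - v)).support.card = 3 → v = (1, 0, 0) ∨ v = (0, 1, 0)) := by
  decide +kernel

theorem coset_facts :
    (∀ m : Fin 3, (cpow (1 + m, m, 0)).support.card = 3 → (cpow (-m, 1 - m, 0)).support.card = 3 → m = 0) ∧
    (∀ m : Fin 3, (cpow (m, m, 1)).support.card = 3 → m = 0) ∧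
    (∀ c m : Fin 3, c ≠ 0 → m ≠ 0 → (cpow (1 + m, m, c)).support.card = 9 ∨
      (cpow (1 + (m + m), m + m, c)).support.card = 9) := by
  decide +kernel

theorem plane_cases : ∀ v : Fin 3 × Fin 3 × Fin 3, ¬ (v.1 = v.2.1 ∧ v.2.2 = 0) →
    (∃ i j : Fin 3, (i * v.1 + j, i * v.2.1 + j, i * v.2.2) = ((1, 0, 0) : Fin 3 × Fin 3 × Fin 3)) ∨
    (∃ i j : Fin 3, (i * v.1 + j, i * v.2.1 + j, i * v.2.2) = ((0, 0, 1) : Fin 3 × Fin 3 × Fin 3)) ∨
    (∃ i j c : Fin 3, c ≠ 0 ∧ (i * v.1 + j, i * v.2.1 + j, i * v.2.2) = ((1, 0, c) : Fin 3 × Fin 3 × Fin 3)) := by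
  decide +kernel

namespace Frame

variable {D : Ctx G 9} (F : Frame D)

theorem el_y (j : Fin 3) : ((F.el (j, j, 0) : D.X) : G) = F.y ^ (j : ℕ) := by
  simp only [el, y, Fin.val_zero, pow_zero, mul_one, Subgroup.coe_mul, SubmonoidClass.coe_pow]
  rw [(Ctx.val_comm D F.comm01).mul_pow]

theorem y_el : F.y = ((F.el (1, 1, 0) : D.X) : G) := by simp [el, y]

theorem el_mem (v : Fin 3 × Fin 3 × Fin 3) : ((F.el v : D.X) : G) ∈ F.E := ⟨v, rfl⟩

theorem el_val_mul (v w : Fin 3 × Fin 3 × Fin 3) :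
    ((F.el v : D.X) : G) * ((F.el w : D.X) : G) = ((F.el (v + w) : D.X) : G) := by
  rw [← Subgroup.coe_mul, el_mul]

theorem el_scale (v : Fin 3 × Fin 3 × Fin 3) (i j : Fin 3) :
    ((F.el (i * v.1 + j, i * v.2.1 + j, i * v.2.2) : D.X) : G) = ((F.el v : D.X) : G) ^ (i : ℕ) * F.y ^ (j : ℕ) := by
  rw [← el_y, show (i * v.1 + j, i * v.2.1 + j, i * v.2.2) = (i * v.1, i * v.2.1, i * v.2.2) + (j, j, (0 : Fin 3)) by
    simp, ← el_val_mul]
  congr 1
  have key : ∀ n : ℕ, ((F.el v : D.X) : G) ^ n =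
      ((F.el (Fin.ofNat 3 n * v.1, Fin.ofNat 3 n * v.2.1, Fin.ofNat 3 n * v.2.2) : D.X) : G) := by
    intro n
    induction n with
    | zero =>
      have e0 : (Fin.ofNat 3 0 : Fin 3) = 0 := rfl
      simp only [e0, zero_mul, pow_zero, Prod.mk_zero_zero, el_zero, OneMemClass.coe_one]
    | succ n ih =>
      rw [pow_succ, ih, el_val_mul]
      refine congrArg (fun w => ((F.el w : D.X) : G)) ?_
      have e1 : (Fin.ofNat 3 (n + 1) : Fin 3) = Fin.ofNat 3 n + 1 := by
        simp [Fin.ext_iff, Fin.val_add, Fin.ofNat, Nat.add_mod]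
      obtain ⟨p, q, r⟩ := v
      simp only [e1, Prod.mk_add_mk, add_mul, one_mul]
  rw [key, show (Fin.ofNat 3 (i : ℕ) : Fin 3) = i from Fin.ext (Nat.mod_eq_of_lt i.2)]

variable [IsSimpleGroup G]

theorem x_conj_three {v : Fin 3 × Fin 3 × Fin 3} (h : ∃ k : G, k * (F.x : G) * k⁻¹ = (F.el v : G)) :
    (cpow v).support.card = 3 := by
  obtain ⟨k, hk⟩ := h
  have hX : k * (F.x : G) * k⁻¹ ∈ D.X := hk ▸ (F.el v).2
  have h3 := (D.x_class F.px F.x3 hX).card_support
  rw [show (⟨_, hX⟩ : D.X) = F.el v from Subtype.ext hk, F.p_el] at h3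
  exact h3

/-- A lift over a product of three three-cycles is not conjugate to one commuting with two involutions. -/
theorem no_nine {v w : Fin 3 × Fin 3 × Fin 3} (hw : (cpow w).support.card = 9) {k : G}
    (hk : k * (F.el v : G) * k⁻¹ = (F.el w : G)) {s : G} (hs : s * s = 1) (hs1 : s ≠ 1) (hsz : s ≠ D.z)
    (hsX : Commute s D.z) : ¬ Commute s (F.el v : G) := by
  classical
  intro hsv
  set Y := centralizer ({((F.el w : D.X) : G)} : Set G) with hY
  have honly : ∀ r ∈ Y, r * r = 1 → r ≠ 1 → Commute r D.z → r = D.z := by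
    intro r hr hr2 hr1 hrz
    by_contra hrne
    have h1 : F.el w ≠ 1 := fun e => by
      have := congrArg D.p e
      rw [F.p_el, map_one] at this
      rw [this, Perm.support_one, Finset.card_empty] at hw
      exact absurd hw (by norm_num)
    have hct := D.two_type (y := F.el w) (t := ⟨r, mem_centralizer_singleton_iff.2 hrz.eq⟩) (F.el_cube w) h1
      (Subtype.ext hr2) (fun e => hr1 (congrArg Subtype.val e)) (fun e => hrne (congrArg Subtype.val e))
      (Subtype.ext (mem_centralizer_singleton_iff.1 hr))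
    rw [F.p_el] at hct
    have := (cpow w).sum_cycleType
    rw [hct, hw] at this
    exact absurd this (by decide)
  have hzY : ∀ {r : G}, Commute r (F.el v : G) → k * r * k⁻¹ ∈ Y := fun hr => by
    have h2 := hr.map (MulAut.conj k).toMonoidHom
    rw [show (MulAut.conj k).toMonoidHom ((F.el v : D.X) : G) = (F.el w : G) from hk] at h2
    exact mem_centralizer_singleton_iff.2 h2.eq
  have hsq : ∀ {r : G}, r * r = 1 → k * r * k⁻¹ * (k * r * k⁻¹) = 1 := fun hr => by
    rw [show ∀ a b : G, a * b * a⁻¹ * (a * b * a⁻¹) = a * (b * b) * a⁻¹ from fun a b => by group, hr]; group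
  have e := only_comm D.zz (mem_centralizer_singleton_iff.2 (D.z_commG (F.el w)).eq) honly
    (hzY hsv) (hsq hs) (fun e => hs1 (conj_eq_one_iff.1 e))
    (hzY (D.z_commG (F.el v))) (hsq D.zz) (fun e => D.z_ne (Subtype.ext (conj_eq_one_iff.1 e)))
    (hsX.map (MulAut.conj k).toMonoidHom)
  exact hsz (mul_left_cancel (mul_right_cancel e))

variable (hW : F.W = zpowers (F.x : G))
include hW

theorem cen_x : centralizer ({(F.x : G)} : Set G) ≤ D.X :=
  D.cen_le (le_refl 9) F.hpx F.x3 (by norm_num) hW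

theorem cen_e2 : centralizer ({(F.e2 : G)} : Set G) ≤ D.X := by
  intro g hg
  have h1 : Commute g (F.e2 : G) := mem_centralizer_singleton_iff.1 hg
  set h := (F.u : G) * (F.b : G) with hh
  have e : h * (F.e2 : G) * h⁻¹ = F.x := by
    rw [hh, show (F.u : G) * (F.b : G) * (F.e2 : G) * ((F.u : G) * (F.b : G))⁻¹ =
      (F.u : G) * ((F.b : G) * F.e2 * (F.b : G)⁻¹) * (F.u : G)⁻¹ by group, Ctx.val_conj D F.b_2,
      Ctx.val_conj D F.u_1]
  have h2 := h1.map (MulAut.conj h).toMonoidHom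
  rw [show (MulAut.conj h).toMonoidHom (F.e2 : G) = F.x from e] at h2
  have h3 : h * g * h⁻¹ ∈ D.X := F.cen_x hW (mem_centralizer_singleton_iff.2 h2.eq)
  have hX : h ∈ D.X := mul_mem F.u.2 F.b.2
  have := mul_mem (mul_mem (inv_mem hX) h3) hX
  rwa [show h⁻¹ * (h * g * h⁻¹) * h = g by group] at this

/-- A three-element of the centraliser of the product normalising the group of the lifts lies in it. -/
theorem normal_three {g : G} (hy : Commute g F.y) (hE : ∀ e ∈ F.E, g * e * g⁻¹ ∈ F.E) {k : ℕ}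
    (hg : g ^ 3 ^ k = 1) : g ∈ F.E := by
  classical
  obtain ⟨v, hv⟩ := hE _ F.x_mem_E
  have hgy : g * F.y * g⁻¹ = F.y := by rw [hy.eq, mul_inv_cancel_right]
  have h1 : g * (F.e1 : G) * g⁻¹ = (F.el ((1, 1, 0) - v) : G) := by
    rw [sub_eq_add_neg, add_comm, ← el_val_mul, ← el_inv, InvMemClass.coe_inv, ← hv, ← y_el]
    nth_rw 1 [← hgy]
    rw [y]
    group
  have h1' : ∃ h : G, h * (F.x : G) * h⁻¹ = (F.el ((1, 1, 0) - v) : G) := by
    refine ⟨g * (F.u : G), ?_⟩
    rw [show g * (F.u : G) * (F.x : G) * (g * (F.u : G))⁻¹ = g * ((F.u : G) * F.x * (F.u : G)⁻¹) * g⁻¹ by group,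
      Ctx.val_conj D F.u_x, h1]
  have hcases := (three_units v (F.x_conj_three ⟨g, hv⟩))
    ⟨(show ∀ v : Fin 3 × Fin 3 × Fin 3, v + (2 * v.1, 2 * v.2.1, 2 * v.2.2) = 0 by decide +kernel) v,
      F.x_conj_three h1'⟩
  have hsq : Commute (g * g) (F.x : G) := by
    refine mul_inv_eq_iff_eq_mul.1 ?_
    rcases hcases with rfl | rfl
    · rw [F.el_x] at hv
      rw [show g * g * (F.x : G) * (g * g)⁻¹ = g * (g * F.x * g⁻¹) * g⁻¹ by group, hv, hv]
    · rw [F.el_1] at hv
      rw [show g * g * (F.x : G) * (g * g)⁻¹ = g * (g * F.x * g⁻¹) * g⁻¹ by group, hv, h1,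
        show ((1, 1, 0) - (0, 1, 0) : Fin 3 × Fin 3 × Fin 3) = (1, 0, 0) by decide, F.el_x]
  obtain ⟨r, hr⟩ : Odd (3 ^ k) := Odd.pow (by decide)
  have hgx : Commute g (F.x : G) := by
    have e : g = (g * g) ^ (r + 1) := by
      rw [← pow_two, ← pow_mul, show 2 * (r + 1) = 3 ^ k + 1 by omega, pow_succ, hg, one_mul]
    rw [e]
    exact hsq.pow_left _
  exact F.odd_prod (F.cen_x hW (mem_centralizer_singleton_iff.2 hgx.eq)) hy (m := 3 ^ k) (Odd.pow (by decide)) hg

/-- **An odd subgroup normalised by the four-group and the lifts, centralising the product, lies among the lifts.** -/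
theorem odd_le (U : Subgroup G) (hodd : Odd (Nat.card U)) (hUy : ∀ a ∈ U, Commute a F.y)
    (hUz : ∀ a ∈ U, D.z * a * D.z⁻¹ ∈ U) (hUu : ∀ a ∈ U, (F.u : G) * a * (F.u : G)⁻¹ ∈ U)
    (hUE : ∀ e ∈ F.E, ∀ a ∈ U, e * a * e⁻¹ ∈ U) : U ≤ F.E := by
  classical
  haveI : Fact (Nat.Prime 3) := ⟨Nat.prime_three⟩
  have hzu : Commute D.z (F.u : G) := D.z_commG F.u
  let A : Subgroup G :=
  { carrier := {1, D.z, (F.u : G), D.z * F.u}
    one_mem' := Or.inl rfl
    mul_mem' := fun {a b} ha hb => by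
      have h1 := D.zz
      have h2 := F.uu
      have h3 : D.z * (D.z * (F.u : G)) = F.u := by rw [← mul_assoc, D.zz, one_mul]
      have h4 : (F.u : G) * (D.z * F.u) = D.z := by rw [← mul_assoc, ← hzu.eq, mul_assoc, F.uu, mul_one]
      have h5 : D.z * (F.u : G) * D.z = F.u := by rw [hzu.eq, mul_assoc, D.zz, mul_one]
      have h6 : D.z * (F.u : G) * F.u = D.z := by rw [mul_assoc, F.uu, mul_one]
      have h7 : D.z * (F.u : G) * (D.z * F.u) = 1 := by rw [← mul_assoc, h5, F.uu]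
      simp only [Set.mem_insert_iff, Set.mem_singleton_iff] at ha hb ⊢
      rcases ha with rfl | rfl | rfl | rfl <;> rcases hb with rfl | rfl | rfl | rfl <;>
        simp [h1, h2, h3, h4, h5, h6, h7, hzu.symm.eq]
    inv_mem' := fun {a} ha => by
      simp only [Set.mem_insert_iff, Set.mem_singleton_iff] at ha ⊢
      rcases ha with rfl | rfl | rfl | rfl
      · simp
      · simp [inv_eq_of_mul_eq_one_right D.zz]
      · simp [inv_eq_of_mul_eq_one_right F.uu]
      · rw [mul_inv_rev, inv_eq_of_mul_eq_one_right D.zz, inv_eq_of_mul_eq_one_right F.uu, ← hzu.eq]; simp }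
  have hA2 : IsPGroup 2 A := fun a => ⟨1, Subtype.ext (by
    rw [pow_one, pow_two, Subgroup.coe_mul, OneMemClass.coe_one]
    rcases a.2 with e | e | e | e <;> rw [e]
    · rw [one_mul]
    · exact D.zz
    · exact F.uu
    · rw [hzu.symm.mul_mul_mul_comm, D.zz, F.uu, one_mul])⟩
  have hAn : A ≤ normalizer (U : Set G) := fun a ha => mem_normalizer_fintype fun k hk => by
    rcases ha with rfl | rfl | rfl | rfl
    · simpa using hk
    · exact hUz k hk
    · exact hUu k hk
    · rw [show D.z * (F.u : G) * k * (D.z * (F.u : G))⁻¹ = D.z * ((F.u : G) * k * (F.u : G)⁻¹) * D.z⁻¹ by group]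
      exact hUz _ (hUu k hk)
  haveI : Group.IsNilpotent A := hA2.isNilpotent
  have hcop : (Nat.card A).Coprime (Nat.card U) := by
    haveI : Fact (Nat.Prime 2) := ⟨Nat.prime_two⟩
    obtain ⟨j, hj⟩ := IsPGroup.iff_card.1 hA2
    rw [hj]
    exact Nat.Coprime.pow_left _ (Nat.coprime_two_left.2 hodd)
  have hU3 : IsPGroup 3 U := by
    refine IsPGroup.of_card (n := (Nat.card U).primeFactorsList.length)
      (Nat.eq_prime_pow_of_unique_prime_dvd Nat.card_pos.ne' fun {q} hq hd => ?_)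
    by_contra hq3
    haveI : Fact q.Prime := ⟨hq⟩
    obtain ⟨P, hP⟩ := CoprimeAct.exists_invariant_sylow hAn hcop
      (Or.inl inferInstance) q
    set P' := (P : Subgroup U).map U.subtype with hP'
    have hP'U : P' ≤ U := map_subtype_le _
    have hP'p : IsPGroup q P' := P.isPGroup'.map _
    have hP'odd : Odd (Nat.card P') := hodd.of_dvd_nat (card_dvd_of_le hP'U)
    have hPz : ∀ a ∈ P', D.z * a * D.z⁻¹ ∈ P' := fun a ha =>
      (mem_normalizer_iff.1 (hP (show D.z ∈ A from Or.inr (Or.inl rfl))) a).1 ha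
    have hPu : ∀ a ∈ P', (F.u : G) * a * (F.u : G)⁻¹ ∈ P' := fun a ha =>
      (mem_normalizer_iff.1 (hP (show (F.u : G) ∈ A from Or.inr (Or.inr (Or.inl rfl)))) a).1 ha
    have hpart : ∀ t : G, (t = D.z ∨ t = (F.u : G) ∨ t = D.z * (F.u : G)) →
        P' ⊓ centralizer ({t} : Set G) = ⊥ := by
      intro t ht
      refine eq_bot_iff.2 fun a ha => mem_bot.2 ?_
      obtain ⟨h, hhy, hh⟩ : ∃ h : G, Commute h F.y ∧ h * t * h⁻¹ = D.z := by
        rcases ht with rfl | rfl | rfl
        · exact ⟨1, Commute.one_left _, by group⟩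
        · obtain ⟨h, a, b, -⟩ := F.y_fuse (Or.inl rfl); exact ⟨h, a, b⟩
        · obtain ⟨h, a, b, -⟩ := F.y_fuse (Or.inr rfl); exact ⟨h, a, b⟩
      have h2 := (show Commute a t from mem_centralizer_singleton_iff.1 ha.2).map (MulAut.conj h).toMonoidHom
      rw [show (MulAut.conj h).toMonoidHom t = D.z from hh] at h2
      obtain ⟨j, hj⟩ := hP'p ⟨a, ha.1⟩
      have hq2 : q ≠ 2 := by
        rintro rfl
        exact (Nat.not_even_iff_odd.2 hodd) (even_iff_two_dvd.2 hd)
      have haj : a ^ q ^ j = 1 := congrArg Subtype.val hj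
      have he := F.odd_prod (mem_centralizer_singleton_iff.2 h2.eq)
        ((hhy.mul_left (hUy a (hP'U ha.1))).mul_left hhy.inv_left) (m := q ^ j) ((hq.odd_of_ne_two hq2).pow)
        (by show (h * a * h⁻¹) ^ q ^ j = 1; rw [conj_pow, haj, mul_one, mul_inv_cancel])
      have h3 : (h * a * h⁻¹) ^ 3 = 1 := F.E_cube he
      rw [conj_pow, conj_eq_one_iff] at h3
      exact orderOf_eq_one_iff.1 (Nat.eq_one_of_dvd_coprimes
        (Nat.Coprime.pow_left j ((Nat.coprime_primes hq Nat.prime_three).2 hq3)) (orderOf_dvd_of_pow_eq_one haj)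
        (orderOf_dvd_of_pow_eq_one h3))
    have hbot : P' = ⊥ := by
      have := le_four_sup P' hP'odd D.zz F.uu hzu.eq hPz hPu
      rw [hpart _ (Or.inl rfl), hpart _ (Or.inr (Or.inl rfl)), hpart _ (Or.inr (Or.inr rfl)), sup_bot_eq,
        sup_bot_eq] at this
      exact le_bot_iff.1 this
    have hd' : q ∣ Nat.card P' := by
      rw [hP', card_map_of_injective U.subtype_injective, P.card_eq_multiplicity]
      exact dvd_pow_self q (hq.factorization_pos_of_dvd Nat.card_pos.ne' hd).ne'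
    rw [hbot, card_bot] at hd'
    exact hq.ne_one (Nat.dvd_one.1 hd')
  have hEn : F.E ≤ normalizer (U : Set G) := fun e he => mem_normalizer_fintype (hUE e he)
  have hE3 : IsPGroup 3 F.E := IsPGroup.of_card (n := 3) (by rw [F.card_E]; norm_num)
  have hM : IsPGroup 3 (U ⊔ F.E : Subgroup G) := hU3.to_sup_of_normal_left' hE3 hEn
  have hEC : F.E ≤ centralizer ({F.y} : Set G) := fun e he =>
    mem_centralizer_singleton_iff.2 (F.E_comm he F.y_mem_E).eq
  have hMC : U ⊔ F.E ≤ centralizer ({F.y} : Set G) :=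
    sup_le (fun a ha => mem_centralizer_singleton_iff.2 (hUy a ha).eq) hEC
  obtain ⟨P, hP⟩ := G2Three.sylow_of_normalizer hEC hE3 fun g hg hgn j hj =>
    F.normal_three hW (mem_centralizer_singleton_iff.1 hg) (fun e he => (mem_normalizer_iff.1 hgn e).1 he) hj
  intro a ha
  have hle : (P : Subgroup (centralizer ({F.y} : Set G))) ≤ (U ⊔ F.E).subgroupOf (centralizer ({F.y} : Set G)) := by
    rw [hP]
    exact fun e he => mem_sup_right (show (e : G) ∈ F.E from he)
  have heq := P.is_maximal' hM.comap_subtype hle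
  have hmem : (⟨a, mem_centralizer_singleton_iff.2 (hUy a ha).eq⟩ : centralizer ({F.y} : Set G)) ∈
      (P : Subgroup (centralizer ({F.y} : Set G))) := heq ▸ (mem_subgroupOf.2 (mem_sup_left ha))
  rw [hP] at hmem
  exact hmem

/-- The centraliser of the product and of a third lift of the mixed plane. -/
theorem cen_mixed {c : Fin 3} (hc : c ≠ 0) {g : G} (hy : Commute g F.y)
    (hg : Commute g (F.el (1, 0, c) : G)) : g ∈ F.E ∨ D.z * g ∈ F.E := by
  classical
  set y' := ((F.el (1, 0, c) : D.X) : G) with hy'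
  set D0 := centralizer ({F.y} : Set G) ⊓ centralizer ({y'} : Set G) with hD0
  have hzy : Commute D.z F.y := (mem_centralizer_singleton_iff.1 (F.E_le F.y_mem_E)).symm
  have hzy' : Commute D.z y' := D.z_commG _
  have hzD : D.z ∈ D0 := ⟨mem_centralizer_singleton_iff.2 hzy.eq, mem_centralizer_singleton_iff.2 hzy'.eq⟩
  have hu : ¬ Commute (F.u : G) y' := fun hc' => by
    have h1 : Commute F.u (F.el (1, 0, c)) := Subtype.ext hc'.eq
    have h2 := (h1.map D.p).eq
    rw [F.pu, F.p_el] at h2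
    exact (show ∀ c : Fin 3, u0 * cpow (1, 0, c) ≠ cpow (1, 0, c) * u0 by decide +kernel) c h2
  have hEy' : ∀ e ∈ F.E, Commute e y' := fun e he => F.E_comm he (F.el_mem _)
  have hX : ∀ k ∈ D.X, Commute k F.y → Commute k y' → k ∈ F.E ∨ D.z * k ∈ F.E := by
    intro k hk hky hky'
    rcases F.cen_prod_G hk hky with e | e | e | e
    · exact Or.inl e
    · exact Or.inr e
    · exact absurd (by simpa using (hEy' _ e).mul_left hky'.inv_left) hu
    · refine absurd ?_ hu
      have h2 := (hzy'.mul_left (hEy' _ e)).mul_left hky'.inv_left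
      rwa [← mul_assoc D.z D.z, D.zz, one_mul, mul_inv_cancel_right] at h2
  have honly : ∀ r ∈ D0, r * r = 1 → r ≠ 1 → Commute r D.z → r = D.z := by
    intro r hr hr2 hr1 hrz
    rcases hX r (mem_centralizer_singleton_iff.2 hrz.eq) (mem_centralizer_singleton_iff.1 hr.1)
      (mem_centralizer_singleton_iff.1 hr.2) with e | e
    · refine absurd ?_ hr1
      have h3 := F.E_cube e
      rwa [pow_succ, pow_two, hr2, one_mul] at h3
    · have h3 := F.E_cube e
      have h2 : D.z * r * (D.z * r) = 1 := by rw [hrz.mul_mul_mul_comm, D.zz, hr2, one_mul]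
      rw [pow_succ, pow_two, h2, one_mul] at h3
      rw [eq_inv_of_mul_eq_one_right h3, inv_eq_of_mul_eq_one_right D.zz]
  have hzo : orderOf (⟨D.z, hzD⟩ : D0) = 2 := by rw [Subgroup.orderOf_mk, D.ord]
  have hiso : Cfsg.IsIsolated (⟨D.z, hzD⟩ : D0) := by
    intro k hk
    refine Subtype.ext ?_
    refine (only_comm D.zz hzD honly hzD D.zz (fun e => D.z_ne (Subtype.ext e))
      (show (k : G) * D.z * (k : G)⁻¹ ∈ D0 from (k * ⟨D.z, hzD⟩ * k⁻¹).2) ?_ ?_
      (show Commute D.z ((k : G) * D.z * (k : G)⁻¹) from congrArg Subtype.val hk.eq)).symm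
    · show (k : G) * D.z * (k : G)⁻¹ * ((k : G) * D.z * (k : G)⁻¹) = 1
      rw [show (k : G) * D.z * (k : G)⁻¹ * ((k : G) * D.z * (k : G)⁻¹) = (k : G) * (D.z * D.z) * (k : G)⁻¹ by group,
        D.zz]
      group
    · intro e
      exact D.z_ne (Subtype.ext (conj_eq_one_iff.1 (e : (k : G) * D.z * (k : G)⁻¹ = 1)))
  set U := (Cfsg.pPrimeCore 2 D0).map D0.subtype with hU
  have hUD : U ≤ D0 := map_subtype_le _
  have hUodd : Odd (Nat.card U) := Nat.coprime_two_right.1 (AxB.coprime_card_pPrimeCoreOf 2 D0)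
  have hnorm : ∀ k ∈ normalizer (D0 : Set G), ∀ a ∈ U, k * a * k⁻¹ ∈ U := by
    intro k hk a ha
    refine AxB.le_pPrimeCoreOf (p := 2) (H := D0) (N := U.map (MulAut.conj k).toMonoidHom) ?_ ?_ ?_ ⟨a, ha, rfl⟩
    · rintro _ ⟨b, hb, rfl⟩
      exact (mem_normalizer_iff.1 hk b).1 (hUD hb)
    · intro h hh
      refine mem_normalizer_fintype ?_
      rintro _ ⟨b, hb, rfl⟩
      have hh' : k⁻¹ * h * k ∈ D0 := by
        have := (mem_normalizer_iff.1 (inv_mem hk) h).1 hh
        simpa using this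
      refine ⟨_, (mem_normalizer_iff.1 (AxB.le_normalizer_map_subtype (Cfsg.pPrimeCore_normal 2 _) hh') b).1 hb, ?_⟩
      show k * (k⁻¹ * h * k * b * (k⁻¹ * h * k)⁻¹) * k⁻¹ = h * (k * b * k⁻¹) * h⁻¹
      group
    · rw [card_map_of_injective (MulAut.conj k).injective]
      exact AxB.coprime_card_pPrimeCoreOf 2 _
  have hun : (F.u : G) ∈ normalizer (D0 : Set G) := mem_normalizer_fintype fun a ha => by
    have hay : Commute ((F.u : G) * a * (F.u : G)⁻¹) F.y :=
      (F.u_y.mul_left (mem_centralizer_singleton_iff.1 ha.1 : Commute a F.y)).mul_left F.u_y.inv_left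
    refine ⟨mem_centralizer_singleton_iff.2 hay.eq, mem_centralizer_singleton_iff.2 (Commute.eq ?_)⟩
    have h2 := (show Commute a y' from mem_centralizer_singleton_iff.1 ha.2).map
      (MulAut.conj (F.u : G)).toMonoidHom
    have e : F.u * F.el (1, 0, c) * F.u⁻¹ = F.el (0, 1, -c) := by
      refine D.conj3 (F.el_cube _) (F.el_cube _) ?_
      rw [F.pu, F.p_el, F.p_el]
      exact (show ∀ c : Fin 3, u0 * cpow (1, 0, c) * u0⁻¹ = cpow (0, 1, -c) by decide +kernel) c
    rw [show (MulAut.conj (F.u : G)).toMonoidHom y' = ((F.el (0, 1, -c) : D.X) : G) from congrArg Subtype.val e] at h2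
    have e2 : y' = F.y * ((F.el (0, 1, -c) : D.X) : G)⁻¹ := by
      rw [hy', y_el, ← InvMemClass.coe_inv, el_inv, el_val_mul]
      simp
    rw [e2]
    exact hay.mul_right h2.inv_right
  have hEn : F.E ≤ normalizer (D0 : Set G) := fun e he =>
    le_normalizer ⟨mem_centralizer_singleton_iff.2 (F.E_comm he F.y_mem_E).eq,
      mem_centralizer_singleton_iff.2 (hEy' e he).eq⟩
  have hUE := F.odd_le hW U hUodd (fun a ha => mem_centralizer_singleton_iff.1 (hUD ha).1)
    (hnorm D.z (le_normalizer hzD)) (hnorm _ hun) (fun e he => hnorm e (hEn he))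
  have hgD : g ∈ D0 := ⟨mem_centralizer_singleton_iff.2 hy.eq, mem_centralizer_singleton_iff.2 hg.eq⟩
  have hzs := BrauerSuzuki.zStar D0 ⟨D.z, hzD⟩ hzo hiso ⟨g, hgD⟩
  set r := g * D.z * g⁻¹ * D.z⁻¹ with hr
  have hrE : r ∈ F.E := hUE ⟨_, hzs, rfl⟩
  have hrz : Commute r D.z := mem_centralizer_singleton_iff.1 (F.E_le hrE)
  have hr1 : r = 1 := by
    have h1 : D.z * r * D.z⁻¹ = r⁻¹ := by
      rw [hr, inv_eq_of_mul_eq_one_right D.zz,
        show D.z * (g * D.z * g⁻¹ * D.z) * D.z = D.z * g * D.z * g⁻¹ * (D.z * D.z) by group, D.zz, mul_one,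
        mul_inv_rev, mul_inv_rev, mul_inv_rev, inv_inv, inv_eq_of_mul_eq_one_right D.zz]
      group
    rw [← hrz.eq, mul_inv_cancel_right] at h1
    have h2 : r * r = 1 := by nth_rw 2 [h1]; rw [mul_inv_cancel]
    have h3 := F.E_cube hrE
    rwa [pow_succ, pow_two, h2, one_mul] at h3
  have hgz : Commute g D.z := mul_inv_eq_iff_eq_mul.1 (mul_inv_eq_one.1 hr1)
  exact hX g (mem_centralizer_singleton_iff.2 hgz.eq) hy hg

/-- **An element fixing a lift modulo the product fixes it.** -/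
theorem coset_cen {v : Fin 3 × Fin 3 × Fin 3} (hv : ¬ (v.1 = v.2.1 ∧ v.2.2 = 0)) {g : G} (hy : Commute g F.y)
    (h : g * (F.el v : G) * g⁻¹ * (F.el v : G)⁻¹ ∈ zpowers F.y) : g ∈ F.E ∨ D.z * g ∈ F.E := by
  classical
  obtain ⟨m, hm⟩ : ∃ m : Fin 3, g * (F.el v : G) * g⁻¹ = (F.el v : G) * F.y ^ (m : ℕ) := by
    obtain ⟨i, hi⟩ := mem_zpowers_iff.1 h
    refine ⟨⟨(i % 3).toNat, by omega⟩, ?_⟩
    have h3 : F.y ^ (3 : ℤ) = 1 := by rw [zpow_ofNat]; exact F.y_cube
    have e : F.y ^ i = F.y ^ (i % 3).toNat := by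
      conv_lhs => rw [← Int.mul_ediv_add_emod i 3, zpow_add, zpow_mul, h3, one_zpow, one_mul]
      rw [← zpow_natCast, Int.toNat_of_nonneg (Int.emod_nonneg _ (by norm_num))]
    rw [((F.E_comm (F.el_mem v) (pow_mem F.y_mem_E _)).eq : (F.el v : G) * F.y ^ (i % 3).toNat = _), ← e, hi]
    group
  have htrans : ∀ i j : Fin 3, ∃ m' : Fin 3, g * (F.el (i * v.1 + j, i * v.2.1 + j, i * v.2.2) : G) * g⁻¹ =
      (F.el ((i * v.1 + j, i * v.2.1 + j, i * v.2.2) + (m', m', 0)) : G) := by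
    intro i j
    refine ⟨i * m, ?_⟩
    rw [← el_val_mul, el_y, el_scale]
    calc g * ((F.el v : G) ^ (i : ℕ) * F.y ^ (j : ℕ)) * g⁻¹
        = (g * (F.el v : G) ^ (i : ℕ) * g⁻¹) * (g * F.y ^ (j : ℕ) * g⁻¹) := by group
      _ = ((F.el v : G) * F.y ^ (m : ℕ)) ^ (i : ℕ) * F.y ^ (j : ℕ) := by
          rw [← conj_pow, hm, (hy.pow_right (j : ℕ)).eq, mul_inv_cancel_right]
      _ = (F.el v : G) ^ (i : ℕ) * (F.y ^ ((m : ℕ) * (i : ℕ)) * F.y ^ (j : ℕ)) := by
          rw [(F.E_comm (F.el_mem v) (pow_mem F.y_mem_E _)).mul_pow, pow_mul, mul_assoc]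
      _ = _ := by
          rw [Fin.val_mul, mul_comm (m : ℕ), mul_assoc ((F.el v : G) ^ (i : ℕ))]
          congr 1
          rw [← pow_eq_pow_mod _ F.y_cube, ← pow_add, ← pow_add, add_comm]
  rcases plane_cases v hv with ⟨i, j, e⟩ | ⟨i, j, e⟩ | ⟨i, j, c, hc, e⟩
  · obtain ⟨m', hm'⟩ := htrans i j
    rw [e, F.el_x] at hm'
    have hy1 : (F.e1 : G) = (F.x : G)⁻¹ * F.y := by rw [y, inv_mul_cancel_left]
    have h1 : g * (F.e1 : G) * g⁻¹ = (F.el (-m', 1 - m', 0) : G) := by
      rw [hy1, show g * ((F.x : G)⁻¹ * F.y) * g⁻¹ = (g * (F.x : G) * g⁻¹)⁻¹ * (g * F.y * g⁻¹) by group, hm', hy.eq,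
        mul_inv_cancel_right, ← InvMemClass.coe_inv, el_inv, y_el, el_val_mul]
      refine congrArg (fun w => ((F.el w : D.X) : G)) ?_
      exact (show ∀ m : Fin 3, -((((1, 0, 0) : Fin 3 × Fin 3 × Fin 3)) + (m, m, 0)) + (1, 1, 0) = (-m, 1 - m, 0) by
        decide +kernel) m'
    have hm0 : m' = 0 := coset_facts.1 m'
      (by simpa using F.x_conj_three ⟨g, hm'⟩)
      (F.x_conj_three ⟨g * (F.u : G), by
        rw [show g * (F.u : G) * (F.x : G) * (g * (F.u : G))⁻¹ = g * ((F.u : G) * F.x * (F.u : G)⁻¹) * g⁻¹ by group,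
          Ctx.val_conj D F.u_x, h1]⟩)
    rw [hm0] at hm'
    rw [show ((0 : Fin 3), (0 : Fin 3), (0 : Fin 3)) = 0 from rfl, add_zero, F.el_x] at hm'
    have hgx : Commute g (F.x : G) := mul_inv_eq_iff_eq_mul.1 hm'
    refine F.cen_two_G (F.cen_x hW (mem_centralizer_singleton_iff.2 hgx.eq)) hgx ?_
    rw [hy1]
    exact hgx.inv_right.mul_right hy
  · obtain ⟨m', hm'⟩ := htrans i j
    rw [e, F.el_2] at hm'
    have hm0 : m' = 0 := coset_facts.2.1 m' (by
      have := F.x_conj_three (v := ((0, 0, 1) : Fin 3 × Fin 3 × Fin 3) + (m', m', 0))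
        ⟨g * ((F.b : G) * (F.u : G)), by
          rw [show g * ((F.b : G) * (F.u : G)) * (F.x : G) * (g * ((F.b : G) * (F.u : G)))⁻¹ =
            g * ((F.b : G) * ((F.u : G) * F.x * (F.u : G)⁻¹) * (F.b : G)⁻¹) * g⁻¹ by group, Ctx.val_conj D F.u_x,
            Ctx.val_conj D F.b_1, hm']⟩
      simpa using this)
    rw [hm0] at hm'
    rw [show ((0 : Fin 3), (0 : Fin 3), (0 : Fin 3)) = 0 from rfl, add_zero, F.el_2] at hm'
    have hge : Commute g (F.e2 : G) := mul_inv_eq_iff_eq_mul.1 hm'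
    have hgX := F.cen_e2 hW (mem_centralizer_singleton_iff.2 hge.eq)
    rcases F.cen_prod_G hgX hy with e' | e' | e' | e'
    · exact Or.inl e'
    · exact Or.inr e'
    · exfalso
      have h2 := (F.E_comm e' F.e2_mem_E).mul_left hge.inv_left
      rw [mul_inv_cancel_right] at h2
      have h3 := ((show Commute F.u F.e2 from Subtype.ext h2.eq).map D.p).eq
      rw [F.pu, F.p2] at h3
      exact (show u0 * c2 ≠ c2 * u0 by decide +kernel) h3
    · exfalso
      have h2 := ((D.z_commG F.e2).mul_left (F.E_comm e' F.e2_mem_E)).mul_left hge.inv_left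
      rw [← mul_assoc D.z D.z, D.zz, one_mul, mul_inv_cancel_right] at h2
      have h3 := ((show Commute F.u F.e2 from Subtype.ext h2.eq).map D.p).eq
      rw [F.pu, F.p2] at h3
      exact (show u0 * c2 ≠ c2 * u0 by decide +kernel) h3
  · obtain ⟨m', hm'⟩ := htrans i j
    rw [e] at hm'
    have hgy' : Commute g (F.el (1, 0, c) : G) := by
      by_cases hm0 : m' = 0
      · rw [hm0] at hm'
        rw [show ((0 : Fin 3), (0 : Fin 3), (0 : Fin 3)) = 0 from rfl, add_zero] at hm'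
        exact mul_inv_eq_iff_eq_mul.1 hm'
      exfalso
      -- a second involution commuting with the mixed lift
      obtain ⟨d, hd2, hd1, hdz, hdc, hdy⟩ : ∃ d : G, d * d = 1 ∧ d ≠ 1 ∧ d ≠ D.z ∧ Commute d D.z ∧
          Commute d (F.el (1, 0, c) : G) := by
        obtain ⟨s, hs, hs'⟩ : ∃ s : Perm (Fin 9), Perm.sign s = 1 ∧ s * (c0 * c1) * s⁻¹ = cpow (1, 0, c) :=
          (show ∀ c : Fin 3, c ≠ 0 → ∃ s : Perm (Fin 9), Perm.sign s = 1 ∧ s * (c0 * c1) * s⁻¹ = cpow (1, 0, c) from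
            fun c hc => by
              have : c = 1 ∨ c = 2 := by omega
              rcases this with rfl | rfl
              · exact ⟨swap 3 4 * (swap 3 6 * swap 4 7 * swap 5 8), by decide +kernel, by decide +kernel⟩
              · exact ⟨swap 7 8 * (swap 3 6 * swap 4 7 * swap 5 8), by decide +kernel, by decide +kernel⟩) c hc
        obtain ⟨k, rfl⟩ := D.p_surj hs
        have hk := D.conj3 (k := k) (y := F.x * F.e1) (w := F.el (1, 0, c))
          (by rw [F.comm01.mul_pow, F.x3, F.e13, one_mul]) (F.el_cube _)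
          (by rw [map_mul, F.px, F.p1, hs', F.p_el])
        refine ⟨(k : G) * F.u * (k : G)⁻¹, ?_, ?_, ?_, ?_, ?_⟩
        · rw [show (k : G) * F.u * (k : G)⁻¹ * ((k : G) * F.u * (k : G)⁻¹) = (k : G) * ((F.u : G) * F.u) * (k : G)⁻¹ by
            group, F.uu]
          group
        · exact fun e => F.u_not_E.1 (conj_eq_one_iff.1 e ▸ one_mem _)
        · intro e
          refine F.u_not_E.2 ?_
          have : (F.u : G) = D.z := by
            rw [show (F.u : G) = (k : G)⁻¹ * ((k : G) * F.u * (k : G)⁻¹) * k by group, e, mul_assoc,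
              (D.z_commG k).eq, inv_mul_cancel_left]
          rw [this, D.zz]; exact one_mem _
        · exact (D.z_commG (k * F.u * k⁻¹ : D.X)).symm
        · rw [← Ctx.val_conj D hk]
          exact F.u_y.map (MulAut.conj (k : G)).toMonoidHom
      rcases coset_facts.2.2 c m' hc hm0 with h9 | h9
      · refine F.no_nine (v := (1, 0, c)) h9 (k := g) ?_ hd2 hd1 hdz hdc hdy
        rw [hm']
        simp
      · refine F.no_nine (v := (1, 0, c)) h9 (k := g * g) ?_ hd2 hd1 hdz hdc hdy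
        rw [show g * g * (F.el (1, 0, c) : G) * (g * g)⁻¹ = g * (g * (F.el (1, 0, c) : G) * g⁻¹) * g⁻¹ by group, hm',
          ← el_val_mul, el_y, show g * ((F.el (1, 0, c) : G) * F.y ^ (m' : ℕ)) * g⁻¹ =
            (g * (F.el (1, 0, c) : G) * g⁻¹) * (g * F.y ^ (m' : ℕ) * g⁻¹) by group, hm',
          (hy.pow_right (m' : ℕ)).eq, mul_inv_cancel_right, ← el_y, el_val_mul]
        refine congrArg (fun w => ((F.el w : D.X) : G)) ?_
        simp [add_assoc]
    exact F.cen_mixed hW hc hy hgy'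

end Frame

end Nine

end Cfsg.Agent.DoubleCoverDeg
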