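import Cfsg.Agent.Lib.DoubleCoverDeg.Cen

/-!
S1645, degree nine: the permutations used, and the few centralisers needed.
-/

set_option autoImplicit false
set_option linter.unusedSectionVars false

namespace Cfsg.Agent.DoubleCoverDeg

open Equiv
open Ctx (c0)

namespace Nine

/-- The second three-cycle. -/
def c1 : Perm (Fin 9) := swap 3 4 * swap 4 5
/-- The third three-cycle. -/
def c2 : Perm (Fin 9) := swap 6 7 * swap 7 8
/-- The involution swapping the first two three-cycles. -/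
def u0 : Perm (Fin 9) := swap 0 3 * swap 1 4 * (swap 2 5 * swap 6 7)
/-- An element inverting the second and third three-cycles. -/
def g00 : Perm (Fin 9) := swap 3 4 * swap 6 7
/-- The involution inverting the first three-cycle and swapping the others. -/
def b0 : Perm (Fin 9) := swap 1 2 * swap 3 6 * (swap 4 7 * swap 5 8)
/-- An element commuting with the latter and the first three-cycle. -/
def g0' : Perm (Fin 9) := swap 4 7 * swap 5 8

/-- A product of powers of the three. -/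
def cpow (v : Fin 3 × Fin 3 × Fin 3) : Perm (Fin 9) :=
  c0 ^ (v.1 : ℕ) * c1 ^ (v.2.1 : ℕ) * c2 ^ (v.2.2 : ℕ)

theorem conj_facts :
    (c0 * c1 = c1 * c0 ∧ c0 * c2 = c2 * c0 ∧ c1 * c2 = c2 * c1) ∧
    (u0 * c0 * u0⁻¹ = c1 ∧ u0 * c1 * u0⁻¹ = c0 ∧ u0 * c2 * u0⁻¹ = c2⁻¹) ∧
    (g00 * c0 * g00⁻¹ = c0 ∧ g00 * c1 * g00⁻¹ = c1⁻¹ ∧ g00 * c2 * g00⁻¹ = c2⁻¹) ∧
    (b0 * c0 * b0⁻¹ = c0⁻¹ ∧ b0 * c1 * b0⁻¹ = c2 ∧ b0 * c2 * b0⁻¹ = c1) ∧
    (g0' * c0 * g0'⁻¹ = c0 ∧ Perm.sign c1 = 1 ∧ Perm.sign c2 = 1 ∧ c1 ^ 3 = 1 ∧ c2 ^ 3 = 1) := by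
  decide +kernel

theorem cpow_injective : Function.Injective cpow := by
  decide +kernel

/-- A permutation fixing six points and even is a power of the third three-cycle. -/
theorem fix_six (σ : Perm (Fin 9)) (hs : Perm.sign σ = 1) (h : ∀ i : Fin 9, (i : ℕ) < 6 → σ i = i) :
    σ = c2 ^ 0 ∨ σ = c2 ^ 1 ∨ σ = c2 ^ 2 := by
  have hout : ∀ i : Fin 9, 6 ≤ (i : ℕ) → 6 ≤ (σ i : ℕ) := fun i hi => by
    by_contra hlt
    have := σ.injective (h (σ i) (by omega))
    rw [this] at hlt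
    omega
  have key : ∀ τ : Perm (Fin 9), Perm.sign τ = 1 → (∀ i : Fin 9, (i : ℕ) ≤ 6 → τ i = i) → τ = 1 := by
    intro τ hτ hfix
    by_contra hne
    have hsub : τ.support ⊆ {7, 8} := fun i hi => by
      have h6 : 6 < (i : ℕ) := not_le.1 fun hle => Perm.mem_support.1 hi (hfix i hle)
      simp only [Finset.mem_insert, Finset.mem_singleton, Fin.ext_iff]
      omega
    have hc : τ.support.card = 2 := le_antisymm ((Finset.card_le_card hsub).trans (by decide))
      (Perm.two_le_card_support_of_ne_one hne)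
    rw [(Perm.card_support_eq_two.1 hc).sign_eq] at hτ
    exact absurd hτ (by decide)
  have hk : ∀ k : ℕ, (∀ i : Fin 9, (i : ℕ) < 6 → (c2 ^ k) i = i) → (c2 ^ k) 6 = σ 6 → σ = c2 ^ k := by
    intro k hck h6
    refine eq_of_inv_mul_eq_one (a := σ) ?_
    refine key _ ?_ fun i hi => ?_
    · rw [map_mul, map_inv, map_pow, hs, conj_facts.2.2.2.2.2.2.1]; simp
    · rw [Perm.mul_apply, Perm.inv_eq_iff_eq]
      rcases Nat.lt_or_ge (i : ℕ) 6 with hlt | hge
      · rw [hck i hlt, h i hlt]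
      · rw [show i = 6 from Fin.ext (show (i : ℕ) = 6 by omega), h6]
  have hc : ∀ k : ℕ, k < 3 → ∀ i : Fin 9, (i : ℕ) < 6 → (c2 ^ k) i = i := by decide +kernel
  have h6 : σ 6 = (c2 ^ 0) 6 ∨ σ 6 = (c2 ^ 1) 6 ∨ σ 6 = (c2 ^ 2) 6 :=
    (show ∀ j : Fin 9, 6 ≤ (j : ℕ) → j = (c2 ^ 0) 6 ∨ j = (c2 ^ 1) 6 ∨ j = (c2 ^ 2) 6 by decide +kernel) _
      (hout 6 (le_refl _))
  rcases h6 with e | e | e
  · exact Or.inl (hk 0 (hc 0 (by norm_num)) e.symm)
  · exact Or.inr (Or.inl (hk 1 (hc 1 (by norm_num)) e.symm))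
  · exact Or.inr (Or.inr (hk 2 (hc 2 (by norm_num)) e.symm))

/-- Commuting with a three-cycle. -/
theorem orbit_agree {σ τ c : Perm (Fin 9)} (hσ : Commute σ c) (hτ : Commute τ c) {i : Fin 9} (h : σ i = τ i) :
    σ (c i) = τ (c i) ∧ σ (c (c i)) = τ (c (c i)) := by
  have e : ∀ j, σ (c j) = c (σ j) := fun j => DFunLike.congr_fun hσ.eq j
  have e' : ∀ j, τ (c j) = c (τ j) := fun j => DFunLike.congr_fun hτ.eq j
  exact ⟨by rw [e, e', h], by rw [e, e, e', e', h]⟩

/-- The even centraliser of the first two three-cycles. -/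
theorem cen_two (σ : Perm (Fin 9)) (hs : Perm.sign σ = 1) (h0 : Commute σ c0) (h1 : Commute σ c1) :
    ∃ v, σ = cpow v := by
  have m0 : ∃ a : Fin 3, σ 0 = (c0 ^ (a : ℕ)) 0 := by
    have := (show ∀ j : Fin 9, c0 j ≠ j → ∃ a : Fin 3, j = (c0 ^ (a : ℕ)) 0 by decide +kernel) (σ 0) fun e => by
      have e' : c0 (σ 0) = σ (c0 0) := (DFunLike.congr_fun h0.eq 0).symm
      rw [e] at e'
      exact absurd (σ.injective e') (by decide +kernel)
    exact this
  have m1 : ∃ b : Fin 3, σ 3 = (c1 ^ (b : ℕ)) 3 := by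
    have := (show ∀ j : Fin 9, c1 j ≠ j → ∃ a : Fin 3, j = (c1 ^ (a : ℕ)) 3 by decide +kernel) (σ 3) fun e => by
      have e' : c1 (σ 3) = σ (c1 3) := (DFunLike.congr_fun h1.eq 3).symm
      rw [e] at e'
      exact absurd (σ.injective e') (by decide +kernel)
    exact this
  obtain ⟨a, ha⟩ := m0
  obtain ⟨b, hb⟩ := m1
  set π := c0 ^ (a : ℕ) * c1 ^ (b : ℕ) with hπ
  have hcomm : Commute c0 c1 := conj_facts.1.1
  have p0 : Commute π c0 := ((Commute.refl c0).pow_left _).mul_left (hcomm.symm.pow_left _)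
  have p1 : Commute π c1 := (hcomm.pow_left _).mul_left ((Commute.refl c1).pow_left _)
  have e0 : σ 0 = π 0 := by
    rw [hπ, Perm.mul_apply, ha, show ∀ b : Fin 3, (c1 ^ (b : ℕ)) 0 = 0 by decide +kernel]
  have e1 : σ 3 = π 3 := by
    rw [hπ, Perm.mul_apply, hb]
    exact ((show ∀ a b : Fin 3, (c0 ^ (a : ℕ)) ((c1 ^ (b : ℕ)) 3) = (c1 ^ (b : ℕ)) 3 by decide +kernel) a b).symm
  obtain ⟨f1, f2⟩ := orbit_agree h0 p0 e0
  obtain ⟨f4, f5⟩ := orbit_agree h1 p1 e1
  have hsix : ∀ i : Fin 9, (i : ℕ) < 6 → (π⁻¹ * σ) i = i := by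
    intro i hi
    rw [Perm.mul_apply, Perm.inv_eq_iff_eq]
    rcases (show ∀ i : Fin 9, (i : ℕ) < 6 → i = 0 ∨ i = c0 0 ∨ i = c0 (c0 0) ∨ i = 3 ∨ i = c1 3 ∨ i = c1 (c1 3) by
      decide +kernel) i hi with rfl | rfl | rfl | rfl | rfl | rfl
    exacts [e0, f1, f2, e1, f4, f5]
  have hsign : Perm.sign (π⁻¹ * σ) = 1 := by
    rw [map_mul, map_inv, hs, hπ, map_mul, map_pow, map_pow, conj_facts.2.2.2.2.2.1,
      show Perm.sign c0 = 1 by decide +kernel]
    simp
  rcases fix_six _ hsign hsix with e | e | e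
  · exact ⟨(a, b, 0), (inv_mul_eq_iff_eq_mul.1 e).trans rfl⟩
  · exact ⟨(a, b, 1), (inv_mul_eq_iff_eq_mul.1 e).trans rfl⟩
  · exact ⟨(a, b, 2), (inv_mul_eq_iff_eq_mul.1 e).trans rfl⟩

/-- A permutation commuting with the product of the first two commutes with the first or its composite with the
swap does. -/
theorem cen_prod (σ : Perm (Fin 9)) (h : Commute σ (c0 * c1)) : Commute σ c0 ∨ Commute (u0 * σ) c0 := by
  have hu : Commute u0 (c0 * c1) := by
    show _ = _
    decide +kernel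
  have key : ∀ τ : Perm (Fin 9), Commute τ (c0 * c1) → (τ 0 : ℕ) < 3 → Commute τ c0 := by
    intro τ hτ h0
    have e : ∀ j, τ ((c0 * c1) j) = (c0 * c1) (τ j) := fun j => DFunLike.congr_fun hτ.eq j
    obtain ⟨f0, f1⟩ := (show ∀ j : Fin 9, (j : ℕ) < 3 → ((c0 * c1) j : ℕ) < 3 ∧ (c0 * c1) j = c0 j by decide +kernel)
      (τ 0) h0
    have hin : ∀ i : Fin 9, (i : ℕ) < 3 → (τ i : ℕ) < 3 := by
      intro i hi
      rcases (show ∀ i : Fin 9, (i : ℕ) < 3 → i = 0 ∨ i = (c0 * c1) 0 ∨ i = (c0 * c1) ((c0 * c1) 0) by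
        decide +kernel) i hi with rfl | rfl | rfl
      · exact h0
      · rw [e]; exact f0
      · rw [e, e]
        exact ((show ∀ j : Fin 9, (j : ℕ) < 3 → ((c0 * c1) j : ℕ) < 3 by decide +kernel) _ f0)
    have hsurj : ∀ j : Fin 9, (j : ℕ) < 3 → ∃ i : Fin 9, (i : ℕ) < 3 ∧ τ i = j := by
      intro j hj
      have himg : (Finset.univ.filter fun i : Fin 9 => (i : ℕ) < 3).image τ =
          Finset.univ.filter fun i : Fin 9 => (i : ℕ) < 3 := by
        refine Finset.eq_of_subset_of_card_le (fun t ht => ?_) (le_of_eq (Finset.card_image_of_injective _ τ.injective).symm)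
        obtain ⟨i, hi, rfl⟩ := Finset.mem_image.1 ht
        exact Finset.mem_filter.2 ⟨Finset.mem_univ _, hin i (Finset.mem_filter.1 hi).2⟩
      obtain ⟨i, hi, e'⟩ := Finset.mem_image.1 (himg.ge (Finset.mem_filter.2 ⟨Finset.mem_univ _, hj⟩))
      exact ⟨i, (Finset.mem_filter.1 hi).2, e'⟩
    refine Equiv.ext fun i => ?_
    simp only [Perm.mul_apply]
    by_cases hi : (i : ℕ) < 3
    · rw [← ((show ∀ j : Fin 9, (j : ℕ) < 3 → (c0 * c1) j = c0 j by decide +kernel) i hi), e,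
        ((show ∀ j : Fin 9, (j : ℕ) < 3 → (c0 * c1) j = c0 j by decide +kernel) _ (hin i hi))]
    · have hτi : ¬ (τ i : ℕ) < 3 := fun hlt => by
        obtain ⟨k, hk, ek⟩ := hsurj _ hlt
        exact hi (τ.injective ek ▸ hk)
      rw [(show ∀ j : Fin 9, ¬ (j : ℕ) < 3 → c0 j = j by decide +kernel) i hi,
        (show ∀ j : Fin 9, ¬ (j : ℕ) < 3 → c0 j = j by decide +kernel) _ hτi]
  have e : ∀ j, σ ((c0 * c1) j) = (c0 * c1) (σ j) := fun j => DFunLike.congr_fun h.eq j
  have hmove : (c0 * c1) (σ 0) ≠ σ 0 := fun e' => by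
    rw [← e] at e'
    exact absurd (σ.injective e') (by decide +kernel)
  by_cases h3 : (σ 0 : ℕ) < 3
  · exact Or.inl (key σ h h3)
  · refine Or.inr (key _ (hu.mul_left h) ?_)
    exact (show ∀ j : Fin 9, (c0 * c1) j ≠ j → ¬ (j : ℕ) < 3 → (u0 j : ℕ) < 3 by decide +kernel) _ hmove h3

/-- Two commuting three-cycles inverted by an involution with at most one fixed point share their cyclic group. -/
theorem three_pair {σ τ t : Perm (Fin 9)} (hσ : σ.IsThreeCycle) (hτ : τ.IsThreeCycle) (hc : Commute σ τ)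
    (ht : t * t = 1) (h1 : ∀ i j, t i = i → t j = j → i = j) (hts : t * σ * t⁻¹ = σ⁻¹) (htt : t * τ * t⁻¹ = τ⁻¹) :
    τ = σ ∨ τ = σ⁻¹ := by
  classical
  have hfix : ∀ {ρ : Perm (Fin 9)}, ρ.IsThreeCycle → t * ρ * t⁻¹ = ρ⁻¹ → ∃ p, t p = p ∧ ρ p ≠ p := by
    intro ρ hρ he
    obtain ⟨p, hp⟩ := Finset.card_pos.1 (by rw [hρ.card_support]; norm_num : 0 < ρ.support.card)
    have hsupp : ρ.support = {p, ρ p, ρ (ρ p)} := by
      symm
      refine Finset.eq_of_subset_of_card_le (fun i hi => ?_) ?_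
      · simp only [Finset.mem_insert, Finset.mem_singleton] at hi
        rcases hi with rfl | rfl | rfl
        exacts [hp, Perm.apply_mem_support.2 hp, Perm.apply_mem_support.2 (Perm.apply_mem_support.2 hp)]
      · rw [hρ.card_support]
        have n1 : p ≠ ρ p := fun e => Perm.mem_support.1 hp e.symm
        have n2 : ρ p ≠ ρ (ρ p) := fun e => Perm.mem_support.1 (Perm.apply_mem_support.2 hp) e.symm
        have n3 : p ≠ ρ (ρ p) := fun e => by
          have h3 : (ρ ^ 3) p = p := by rw [← hρ.orderOf, pow_orderOf_eq_one]; rfl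
          simp only [pow_succ, pow_zero, one_mul, Perm.mul_apply] at h3
          rw [← e] at h3
          exact Perm.mem_support.1 hp h3
        rw [Finset.card_insert_of_notMem (by simp [n1, n3]), Finset.card_insert_of_notMem (by simp [n2]),
          Finset.card_singleton]
    have hmem : ∀ i ∈ ρ.support, t i ∈ ρ.support := fun i hi => by
      rw [Perm.mem_support] at hi ⊢
      intro e
      have hρ' : ρ⁻¹ (t i) = t i := by rw [Perm.inv_eq_iff_eq, e]
      rw [← he] at hρ'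
      simp only [Perm.mul_apply] at hρ'
      rw [show t⁻¹ (t i) = i from t.symm_apply_apply i] at hρ'
      exact hi (t.injective hρ')
    by_contra hcon
    push Not at hcon
    have hne : ∀ i ∈ ρ.support, t i ≠ i := fun i hi e => Perm.mem_support.1 hi (hcon i e)
    have a1 := hne p hp
    have a2 := hne (ρ p) (Perm.apply_mem_support.2 hp)
    have a3 := hne (ρ (ρ p)) (Perm.apply_mem_support.2 (Perm.apply_mem_support.2 hp))
    have b1 := hmem p hp
    have b2 := hmem (ρ p) (Perm.apply_mem_support.2 hp)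
    have b3 := hmem (ρ (ρ p)) (Perm.apply_mem_support.2 (Perm.apply_mem_support.2 hp))
    rw [hsupp] at b1 b2 b3
    simp only [Finset.mem_insert, Finset.mem_singleton] at b1 b2 b3
    have tt : ∀ i, t (t i) = i := fun i => DFunLike.congr_fun ht i
    have n1 : ρ p ≠ p := Perm.mem_support.1 hp
    have n2 : ρ (ρ p) ≠ ρ p := fun e => n1 (ρ.injective e)
    have n3 : ρ (ρ p) ≠ p := fun e => by
      have h3 : (ρ ^ 3) p = p := by rw [← hρ.orderOf, pow_orderOf_eq_one]; rfl
      simp only [pow_succ, pow_zero, one_mul, Perm.mul_apply] at h3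
      rw [e] at h3
      exact n1 h3
    grind
  obtain ⟨p, hp, hps⟩ := hfix hσ hts
  obtain ⟨q, hq, hqt⟩ := hfix hτ htt
  obtain rfl := h1 q p hq hp
  have key : ∀ ρ : Perm (Fin 9), ρ.IsThreeCycle → Commute σ ρ → ρ q = σ q → ρ = σ := by
    intro ρ hρ hc' e
    have ec : ∀ j, σ (ρ j) = ρ (σ j) := fun j => DFunLike.congr_fun hc'.eq j
    have e2 : ρ (σ q) = σ (σ q) := by rw [← ec, e]
    have e3 : ρ (σ (σ q)) = σ (σ (σ q)) := by rw [← ec, e2]
    have h3 : σ (σ (σ q)) = q := by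
      have := DFunLike.congr_fun (hσ.orderOf ▸ pow_orderOf_eq_one σ : σ ^ 3 = 1) q
      simpa [pow_succ, Perm.mul_apply] using this
    have n1 : σ (σ q) ≠ σ q := fun e' => hps (σ.injective e')
    have n2 : σ (σ q) ≠ q := fun e' => by
      rw [e'] at h3
      exact hps h3
    have hsub : ({q, σ q, σ (σ q)} : Finset (Fin 9)) = σ.support ∧ ({q, σ q, σ (σ q)} : Finset (Fin 9)) = ρ.support := by
      have hc3 : ({q, σ q, σ (σ q)} : Finset (Fin 9)).card = 3 := by
        rw [Finset.card_insert_of_notMem (by simp [Ne.symm hps, Ne.symm n2]),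
          Finset.card_insert_of_notMem (by simp [Ne.symm n1]), Finset.card_singleton]
      constructor <;> refine Finset.eq_of_subset_of_card_le (fun i hi => ?_) ?_
      · simp only [Finset.mem_insert, Finset.mem_singleton] at hi
        rw [Perm.mem_support]
        rcases hi with rfl | rfl | rfl
        exacts [hps, n1, by rw [h3]; exact Ne.symm n2]
      · rw [hσ.card_support, hc3]
      · simp only [Finset.mem_insert, Finset.mem_singleton] at hi
        rw [Perm.mem_support]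
        rcases hi with rfl | rfl | rfl
        exacts [by rw [e]; exact hps, by rw [e2]; exact n1, by rw [e3, h3]; exact Ne.symm n2]
      · rw [hρ.card_support, hc3]
    refine Equiv.ext fun i => ?_
    by_cases hi : i ∈ σ.support
    · have hi' := hsub.1.ge hi
      simp only [Finset.mem_insert, Finset.mem_singleton] at hi'
      rcases hi' with rfl | rfl | rfl
      exacts [e, e2, e3]
    · rw [Perm.notMem_support.1 hi, Perm.notMem_support.1 (hsub.2 ▸ hsub.1 ▸ hi : i ∉ ρ.support)]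
  have ec : ∀ j, σ (τ j) = τ (σ j) := fun j => DFunLike.congr_fun hc.eq j
  by_cases e : τ q = σ q
  · exact Or.inl (key τ hτ hc e)
  · refine Or.inr ?_
    have hmem : τ q ∈ σ.support := by
      rw [Perm.mem_support, ec]
      exact fun e' => hps (τ.injective e')
    obtain ⟨k, hk⟩ : ∃ k : ℕ, τ q = (σ ^ k) q := by
      obtain ⟨c, hc'⟩ := hσ.isCycle.exists_pow_eq hps (Perm.mem_support.1 hmem)
      exact ⟨c, hc'.symm⟩
    have h3 : σ ^ 3 = 1 := hσ.orderOf ▸ pow_orderOf_eq_one σ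
    rw [← Nat.mod_add_div k 3, pow_add, pow_mul, h3, one_pow, mul_one] at hk
    have hk2 : k % 3 = 2 := by
      have : k % 3 < 3 := Nat.mod_lt _ (by norm_num)
      interval_cases hkk : k % 3
      · simp at hk; exact absurd hk hqt
      · simp at hk; exact absurd hk e
      · rfl
    rw [hk2] at hk
    have := key τ⁻¹ hτ.inv hc.inv_right ?_
    · rw [← this, inv_inv]
    · rw [Perm.inv_eq_iff_eq, ← ec, hk]
      simpa [pow_succ, Perm.mul_apply] using (DFunLike.congr_fun h3 q).symm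

end Nine

end Cfsg.Agent.DoubleCoverDeg
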