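import Cfsg.Agent.Lib.DoubleCoverDeg.NineTools
import Cfsg.Agent.Lib.DoubleCoverDeg.NinePerm

/-!
S1645, degree nine: standard lifts, fusion of the lifts of three-cycles inside the centraliser of the involution,
and the centralisers of lifts of products of three-cycles.
-/

set_option autoImplicit false
set_option linter.style.haveILetI false
set_option linter.unusedSectionVars false
set_option linter.constructorNameAsVariable false

namespace Cfsg.Agent.DoubleCoverDeg

open Cfsg Equiv Subgroup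
open Ctx (c0)

universe u

variable {G : Type u} [Group G] [Finite G]

namespace Ctx

variable (D : Ctx G 9)

theorem emb_nine (h : 9 ≤ 9) (σ : Perm (Fin 9)) : emb h σ = σ := Equiv.ext fun i => by
  have := emb_apply h σ i
  simpa using this

theorem hX {x : D.X} (hx : D.p x = c0) : D.p x = emb (le_refl 9) c0 := by rw [emb_nine, hx]

end Ctx

namespace Nine

/-- The standard lifts. -/
structure Frame (D : Ctx G 9) where
  /-- lift of the first three-cycle -/
  x : D.X
  /-- lift of the second -/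
  e1 : D.X
  /-- lift of the third -/
  e2 : D.X
  /-- the swap -/
  u : D.X
  /-- inverts the second and third -/
  g : D.X
  /-- the involution inverting the first -/
  b : D.X
  /-- squares to the central involution and commutes with `b` -/
  g' : D.X
  px : D.p x = c0
  p1 : D.p e1 = c1
  p2 : D.p e2 = c2
  pu : D.p u = u0
  pg : D.p g = g00
  pb : D.p b = b0
  pg' : D.p g' = g0'
  x3 : x ^ 3 = 1
  e13 : e1 ^ 3 = 1
  e23 : e2 ^ 3 = 1
  u2 : u * u = 1
  g2 : g * g = D.zX
  b2 : b * b = 1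
  g'2 : g' * g' = D.zX
  g'b : Commute g' b

theorem exists_two (D : Ctx G 9) {i j k l i' j' k' l' : Fin 9} (hd : [i, j, k, l].Nodup) (hd' : [i', j', k', l'].Nodup)
    (hfix : ∀ t ∈ [i, j, k, l], (swap i' j' * swap k' l') t = t) :
    ∃ d d' : D.X, D.p d = swap i j * swap k l ∧ D.p d' = swap i' j' * swap k' l' ∧ d * d = D.zX ∧ d' * d' = D.zX ∧
      Commute d d' ∧ (d * d') * (d * d') = 1 := by
  obtain ⟨d, s1, p1, q1⟩ := D.exists_lift_dbl (le_refl 9) hd
  obtain ⟨d', s2, p2, q2⟩ := D.exists_lift_dbl (le_refl 9) hd'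
  rw [Ctx.emb_nine] at q1 q2
  have hc : Commute d d' := D.comm_dbl hd q1 fun t ht => by rw [q2]; exact hfix t ht
  refine ⟨d, d', q1, q2, s1, s2, hc, ?_⟩
  rw [show d * d' * (d * d') = d * (d' * d) * d' by group, ← hc.eq,
    show d * (d * d') * d' = (d * d) * (d' * d') by group, s1, s2, D.z_sq]

theorem exists_frame (D : Ctx G 9) : Nonempty (Frame D) := by
  obtain ⟨x, px, x3⟩ := D.exists_lift_odd (le_refl 9) (σ := c0) (m := 3) (by decide +kernel) (by decide)
    (by decide +kernel)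
  obtain ⟨e1, p1, e13⟩ := D.exists_lift_odd (le_refl 9) (σ := c1) (m := 3) (by decide +kernel) (by decide)
    (by decide +kernel)
  obtain ⟨e2, p2, e23⟩ := D.exists_lift_odd (le_refl 9) (σ := c2) (m := 3) (by decide +kernel) (by decide)
    (by decide +kernel)
  rw [Ctx.emb_nine] at px p1 p2
  obtain ⟨d, d', q, q', -, -, -, hu⟩ := exists_two D (i := 0) (j := 3) (k := 1) (l := 4) (i' := 2) (j' := 5) (k' := 6)
    (l' := 7) (by decide) (by decide) (by decide +kernel)
  obtain ⟨g, s, -, pg⟩ := D.exists_lift_dbl (le_refl 9) (i := 3) (j := 4) (k := 6) (l := 7) (by decide)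
  rw [Ctx.emb_nine] at pg
  obtain ⟨a, g', qa, qg, -, sg, hc, hb⟩ := exists_two D (i := 1) (j := 2) (k := 3) (l := 6) (i' := 4) (j' := 7)
    (k' := 5) (l' := 8) (by decide) (by decide) (by decide +kernel)
  exact ⟨⟨x, e1, e2, d * d', g, a * g', g', px, p1, p2, by rw [map_mul, q, q']; rfl, pg,
    by rw [map_mul, qa, qg]; rfl, qg, x3, e13, e23, hu, s, hb, sg, hc.symm.mul_right (Commute.refl g')⟩⟩

end Nine

namespace Ctx

variable (D : Ctx G 9)

/-- Lifts of exponent three follow their permutations under conjugation. -/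
theorem conj3 {k y w : D.X} (hy : y ^ 3 = 1) (hw : w ^ 3 = 1) (h : D.p k * D.p y * (D.p k)⁻¹ = D.p w) :
    k * y * k⁻¹ = w :=
  D.lift_uniq (m := 3) (by decide) (by rw [conj_pow, hy, mul_one, mul_inv_cancel]) hw
    (by rw [map_mul, map_mul, map_inv, h])

theorem val_conj {k y w : D.X} (h : k * y * k⁻¹ = w) : (k : G) * y * (k : G)⁻¹ = w := congrArg Subtype.val h

theorem val_comm {k y : D.X} (h : Commute k y) : Commute (k : G) (y : G) := congrArg Subtype.val h.eq

theorem z_commG (y : D.X) : Commute D.z (y : G) := congrArg Subtype.val (D.z_comm y)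

theorem zz : D.z * D.z = 1 := congrArg Subtype.val D.z_sq

variable [IsSimpleGroup G]

/-- **A conjugate of a lift of a three-cycle inside the centraliser of the involution is such a lift.** -/
theorem x_class {x : D.X} (hx : D.p x = c0) (hx3 : x ^ 3 = 1) {h : G} (hh : h * (x : G) * h⁻¹ ∈ D.X) :
    (D.p ⟨_, hh⟩).IsThreeCycle := by
  classical
  have hzx : Commute D.z (x : G) := D.z_commG x
  have honly : ∀ v ∈ centralizer ({(x : G)} : Set G), v * v = 1 → v ≠ 1 → Commute v D.z → v = D.z := by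
    intro v hv hv2 hv1 hvz
    rcases D.only_invol (le_refl 9) (D.hX hx) hx3 (by norm_num)
      (v := ⟨v, mem_centralizer_singleton_iff.2 hvz.eq⟩) (Subtype.ext hv2)
      (Subtype.ext (mem_centralizer_singleton_iff.1 hv)) with e | e
    · exact absurd (congrArg Subtype.val e) hv1
    · exact congrArg Subtype.val e
  have hc : Commute (h⁻¹ * D.z * h) (x : G) := by
    have h1 : Commute (h * (x : G) * h⁻¹) D.z := mem_centralizer_singleton_iff.1 hh
    have h2 := h1.map (MulAut.conj h⁻¹).toMonoidHom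
    simpa [mul_assoc] using h2.symm
  obtain ⟨k, hk, hkz⟩ := only_conj D.zz (mem_centralizer_singleton_iff.2 hzx.eq) honly
    (mem_centralizer_singleton_iff.2 hc.eq)
    (show h⁻¹ * D.z * h * (h⁻¹ * D.z * h) = 1 by
      rw [show h⁻¹ * D.z * h * (h⁻¹ * D.z * h) = h⁻¹ * (D.z * D.z) * h by group, D.zz]; group)
    (fun e => D.z_ne (Subtype.ext (by
      show D.z = 1
      rw [show D.z = h * (h⁻¹ * D.z * h) * h⁻¹ by group, e]; group)))
  have hm : h * k ∈ D.X := by
    refine mem_centralizer_singleton_iff.2 ?_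
    calc h * k * D.z = h * (k * D.z * k⁻¹) * k := by group
      _ = _ := by rw [hkz]; group
  have e : (⟨_, hh⟩ : D.X) = ⟨h * k, hm⟩ * x * (⟨h * k, hm⟩ : D.X)⁻¹ := Subtype.ext (by
    show h * (x : G) * h⁻¹ = h * k * x * (h * k)⁻¹
    have hkx : k * (x : G) = x * k := mem_centralizer_singleton_iff.1 hk
    rw [show h * k * (x : G) * (h * k)⁻¹ = h * (k * x) * k⁻¹ * h⁻¹ by group, hkx]
    group)
  rw [Perm.IsThreeCycle, e, map_mul, map_mul, map_inv, Perm.cycleType_conj, hx]
  decide +kernel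

/-- The type of an element of order three commuting with a non-central involution. -/
theorem two_type {y t : D.X} (hy : y ^ 3 = 1) (hy1 : y ≠ 1) (ht : t * t = 1) (ht1 : t ≠ 1) (htz : t ≠ D.zX)
    (hc : Commute t y) : (D.p y).cycleType = {3, 3} := by
  classical
  haveI : Fact (Nat.Prime 3) := ⟨Nat.prime_three⟩
  have hp1 : D.p y ≠ 1 := fun e => by
    rcases D.p_eq_one.1 e with e | e
    · exact hy1 e
    · rw [e, D.z_pow_odd (by decide)] at hy; exact D.z_ne hy
  have ho : orderOf (D.p y) = 3 := orderOf_eq_prime (by rw [← map_pow, hy, map_one]) hp1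
  obtain ⟨k, hk⟩ := Perm.cycleType_prime_order (σ := D.p y) (by rw [ho]; exact Nat.prime_three)
  rw [ho] at hk
  have hsum : (D.p y).support.card = 3 * (k + 1) := by
    rw [← Perm.sum_cycleType, hk, Multiset.sum_replicate, smul_eq_mul, Nat.mul_comm]
  have hle := support_le (D.p y)
  have hne0 : k ≠ 0 := fun e => by
    subst e
    obtain ⟨w, hw, hw3⟩ := D.exists_std_lift (le_refl 9) y (by rw [Perm.IsThreeCycle, hk]; rfl) hy
    have hcw : Commute (w * t * w⁻¹) (w * y * w⁻¹) := hc.map (MulAut.conj w).toMonoidHom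
    rcases D.only_invol (le_refl 9) hw hw3 (by norm_num) (v := w * t * w⁻¹)
      (by rw [show w * t * w⁻¹ * (w * t * w⁻¹) = w * (t * t) * w⁻¹ by group, ht]; group) hcw with e | e
    · exact ht1 (conj_eq_one_iff.1 e)
    · exact htz (by rw [show t = w⁻¹ * (w * t * w⁻¹) * w by group, e, mul_assoc, D.z_comm, inv_mul_cancel_left])
  have hne2 : k ≠ 2 := fun e => by
    subst e
    have h8 := D.invol_eight (by norm_num) (by norm_num) ht ht1 htz
    have huniv : (D.p y).support = Finset.univ := Finset.eq_univ_of_card _ (by rw [hsum]; rfl)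
    have hone : ((D.p t).supportᶜ : Finset (Fin 9)).card = 1 := by rw [Finset.card_compl, h8]; rfl
    obtain ⟨q, hq⟩ := Finset.card_eq_one.1 hone
    have hqf : D.p t q = q := Perm.notMem_support.1 (Finset.mem_compl.1 (hq ▸ Finset.mem_singleton_self q))
    have hcq : D.p t (D.p y q) = D.p y q := by
      have := DFunLike.congr_fun (hc.map D.p).eq q
      simp only [Perm.mul_apply] at this
      rw [this, hqf]
    have hmem : D.p y q ∈ ((D.p t).supportᶜ : Finset (Fin 9)) := Finset.mem_compl.2 (Perm.notMem_support.2 hcq)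
    rw [hq, Finset.mem_singleton] at hmem
    exact Perm.mem_support.1 (huniv ▸ Finset.mem_univ q : q ∈ (D.p y).support) hmem
  rw [show k = 1 by omega] at hk
  rw [hk]; rfl

end Ctx

namespace Nine.Frame

variable {D : Ctx G 9} (F : Frame D)

/-- A product of powers of the three lifts. -/
def el (v : Fin 3 × Fin 3 × Fin 3) : D.X := F.x ^ (v.1 : ℕ) * F.e1 ^ (v.2.1 : ℕ) * F.e2 ^ (v.2.2 : ℕ)

theorem p_el (v : Fin 3 × Fin 3 × Fin 3) : D.p (F.el v) = cpow v := by
  simp only [el, cpow, map_mul, map_pow, F.px, F.p1, F.p2]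

theorem comm01 : Commute F.x F.e1 :=
  D.comm_odd (m := 3) (by decide) F.e13 (by rw [F.px, F.p1]; exact conj_facts.1.1)

theorem comm02 : Commute F.x F.e2 :=
  D.comm_odd (m := 3) (by decide) F.e23 (by rw [F.px, F.p2]; exact conj_facts.1.2.1)

theorem comm12 : Commute F.e1 F.e2 :=
  D.comm_odd (m := 3) (by decide) F.e23 (by rw [F.p1, F.p2]; exact conj_facts.1.2.2)

theorem u_x : F.u * F.x * F.u⁻¹ = F.e1 := D.conj3 F.x3 F.e13 (by rw [F.pu, F.px, F.p1]; exact conj_facts.2.1.1)
theorem u_1 : F.u * F.e1 * F.u⁻¹ = F.x := D.conj3 F.e13 F.x3 (by rw [F.pu, F.px, F.p1]; exact conj_facts.2.1.2.1)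
theorem u_2 : F.u * F.e2 * F.u⁻¹ = F.e2⁻¹ :=
  D.conj3 F.e23 (by rw [inv_pow, F.e23, inv_one]) (by rw [map_inv, F.pu, F.p2]; exact conj_facts.2.1.2.2)
theorem g_x : F.g * F.x * F.g⁻¹ = F.x := D.conj3 F.x3 F.x3 (by rw [F.pg, F.px]; exact conj_facts.2.2.1.1)
theorem g_1 : F.g * F.e1 * F.g⁻¹ = F.e1⁻¹ :=
  D.conj3 F.e13 (by rw [inv_pow, F.e13, inv_one]) (by rw [map_inv, F.pg, F.p1]; exact conj_facts.2.2.1.2.1)
theorem g_2 : F.g * F.e2 * F.g⁻¹ = F.e2⁻¹ :=
  D.conj3 F.e23 (by rw [inv_pow, F.e23, inv_one]) (by rw [map_inv, F.pg, F.p2]; exact conj_facts.2.2.1.2.2)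
theorem b_x : F.b * F.x * F.b⁻¹ = F.x⁻¹ :=
  D.conj3 F.x3 (by rw [inv_pow, F.x3, inv_one]) (by rw [map_inv, F.pb, F.px]; exact conj_facts.2.2.2.1.1)
theorem b_1 : F.b * F.e1 * F.b⁻¹ = F.e2 := D.conj3 F.e13 F.e23 (by rw [F.pb, F.p1, F.p2]; exact conj_facts.2.2.2.1.2.1)
theorem b_2 : F.b * F.e2 * F.b⁻¹ = F.e1 := D.conj3 F.e23 F.e13 (by rw [F.pb, F.p1, F.p2]; exact conj_facts.2.2.2.1.2.2)
theorem g'_x : F.g' * F.x * F.g'⁻¹ = F.x := D.conj3 F.x3 F.x3 (by rw [F.pg', F.px]; exact conj_facts.2.2.2.2.1)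

/-- The lifts commuting with the first two lifts. -/
theorem cen_X {c : D.X} (h0 : Commute c F.x) (h1 : Commute c F.e1) :
    ∃ v, c = F.el v ∨ c = D.zX * F.el v := by
  obtain ⟨v, hv⟩ := cen_two (D.p c) (D.sign_p c) (F.px ▸ h0.map D.p) (F.p1 ▸ h1.map D.p)
  exact ⟨v, D.eq_or (hv.trans (F.p_el v).symm)⟩

end Nine.Frame

end Cfsg.Agent.DoubleCoverDeg
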