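import Cfsg.Agent.Lib.DoubleCoverDeg.NineShift

/-!
S1645, degree nine: the odd core of the centraliser of a lift of a three-cycle is not of order `243`.
-/

set_option autoImplicit false
set_option linter.style.haveILetI false
set_option linter.unusedSectionVars false
set_option linter.constructorNameAsVariable false

namespace Cfsg.Agent.DoubleCoverDeg

open Cfsg Equiv Subgroup
open Ctx (c0)

universe u

variable {G : Type u} [Group G] [Finite G] [IsSimpleGroup G]

/-- A three-group centralising an involution has order at most `81`. -/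
theorem Ctx.three_le (D : Ctx G 9) {t : G} (ht : IsConj D.z t) (A : Subgroup G) (hA : IsPGroup 3 A)
    (hAt : A ≤ centralizer ({t} : Set G)) : Nat.card A ≤ 81 := by
  classical
  haveI : Fact (Nat.Prime 3) := ⟨Nat.prime_three⟩
  obtain ⟨h, hh⟩ := isConj_iff.1 ht.symm
  obtain ⟨k, hk⟩ := IsPGroup.iff_card.1 hA
  have hle : A.map (MulAut.conj h).toMonoidHom ≤ D.X := by
    rintro _ ⟨a, ha, rfl⟩
    have h2 := (show Commute a t from mem_centralizer_singleton_iff.1 (hAt ha)).map (MulAut.conj h).toMonoidHom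
    rw [show (MulAut.conj h).toMonoidHom t = D.z from hh] at h2
    exact mem_centralizer_singleton_iff.2 h2.eq
  have hd : 3 ^ k ∣ (9).factorial := by
    rw [← hk, ← D.card_X (by norm_num), ← card_map_of_injective (f := (MulAut.conj h).toMonoidHom) (MulAut.conj h).injective]
    exact card_dvd_of_le hle
  rcases dvd_fact_small (Or.inl rfl) Nat.prime_three hd with rfl | e | ⟨-, e⟩ | ⟨e, -⟩ | ⟨e, -⟩
  · rw [hk]; norm_num
  · norm_num at e
  · rw [hk]; exact (Nat.pow_le_pow_right (by norm_num) e).trans (by norm_num)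
  · norm_num at e
  · norm_num at e

namespace Nine.Frame

variable {D : Ctx G 9} (F : Frame D)
variable (hW : Nat.card F.W = 243) (hb : Nat.card (F.Cw (F.b : G)) = 9)
  (hzb : Nat.card (F.Cw ((D.zX * F.b : D.X) : G)) = 9)
include hW

/-- The group fixing the inverted part and moving the lifts inside it. -/
def R : Subgroup G where
  carrier := {g | (∀ l ∈ F.L hW, Commute g l) ∧ ∀ e ∈ F.E, g * e * g⁻¹ * e⁻¹ ∈ F.L hW}
  one_mem' := ⟨fun l _ => Commute.one_left l, fun e _ => by simp⟩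
  mul_mem' := fun {g h} hg hh => ⟨fun l hl => (hg.1 l hl).mul_left (hh.1 l hl), fun e he => by
    rw [show g * h * e * (g * h)⁻¹ * e⁻¹ = (g * (h * e * h⁻¹ * e⁻¹) * g⁻¹) * (g * e * g⁻¹ * e⁻¹) by group,
      (hg.1 _ (hh.2 e he)).eq, mul_inv_cancel_right]
    exact (F.L hW).mul_mem (hh.2 e he) (hg.2 e he)⟩
  inv_mem' := fun {g} hg => ⟨fun l hl => (hg.1 l hl).inv_left, fun e he => by
    rw [show g⁻¹ * e * g⁻¹⁻¹ * e⁻¹ = g⁻¹ * ((g * e * g⁻¹ * e⁻¹)⁻¹ * g) by group,
      ← (hg.1 _ (hg.2 e he)).inv_right.eq, inv_mul_cancel_left]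
    exact (F.L hW).inv_mem (hg.2 e he)⟩

theorem E_le_R : F.E ≤ F.R hW := fun g hg => ⟨fun l hl => (F.L_commE hW hl hg).symm, fun e he => by
  rw [(F.E_comm hg he).eq, mul_inv_cancel_right, mul_inv_cancel]; exact one_mem _⟩

theorem L_le_R : F.L hW ≤ F.R hW := fun g hg => ⟨fun l hl => F.L_comm hW hg hl, fun e he => by
  rw [(F.L_commE hW hg he).eq, mul_inv_cancel_right, mul_inv_cancel]; exact one_mem _⟩

theorem R_conj {k : G} (hE : ∀ e ∈ F.E, k * e * k⁻¹ ∈ F.E) (hL : ∀ l ∈ F.L hW, k * l * k⁻¹ ∈ F.L hW) {g : G}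
    (hg : g ∈ F.R hW) : k * g * k⁻¹ ∈ F.R hW := by
  have hE' : ∀ e ∈ F.E, k⁻¹ * e * k ∈ F.E := fun e he => by
    have := (mem_normalizer_iff.1 (inv_mem (mem_normalizer_fintype hE : k ∈ normalizer (F.E : Set G))) e).1 he
    simpa using this
  have hL' : ∀ l ∈ F.L hW, k⁻¹ * l * k ∈ F.L hW := fun l hl => by
    have := (mem_normalizer_iff.1 (inv_mem (mem_normalizer_fintype hL : k ∈ normalizer (F.L hW : Set G))) l).1 hl
    simpa using this
  refine ⟨fun l hl => ?_, fun e he => ?_⟩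
  · have h2 := (hg.1 _ (hL' l hl)).map (MulAut.conj k).toMonoidHom
    rwa [show (MulAut.conj k).toMonoidHom (k⁻¹ * l * k) = l by
      show k * (k⁻¹ * l * k) * k⁻¹ = l
      group] at h2
  · rw [show k * g * k⁻¹ * e * (k * g * k⁻¹)⁻¹ * e⁻¹ = k * (g * (k⁻¹ * e * k) * g⁻¹ * (k⁻¹ * e * k)⁻¹) * k⁻¹ by group]
    exact hL _ (hg.2 _ (hE' e he))

theorem R_u {g : G} (hg : g ∈ F.R hW) : (F.u : G) * g * (F.u : G)⁻¹ ∈ F.R hW :=
  F.R_conj hW (fun _ => F.u_E) (fun _ => F.u_L hW) hg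

theorem R_g {g : G} (hg : g ∈ F.R hW) : (F.g : G) * g * (F.g : G)⁻¹ ∈ F.R hW :=
  F.R_conj hW (fun _ => F.g_E) (fun _ => F.g_L hW) hg

theorem R_b {g : G} (hg : g ∈ F.R hW) : (F.b : G) * g * (F.b : G)⁻¹ ∈ F.R hW :=
  F.R_conj hW (fun _ => F.b_E) (fun _ => F.b_L hW) hg

theorem z_E {e : G} (he : e ∈ F.E) : D.z * e * D.z⁻¹ ∈ F.E := by
  rwa [(show Commute e D.z from mem_centralizer_singleton_iff.1 (F.E_le he)).symm.eq, mul_inv_cancel_right]

theorem R_z {g : G} (hg : g ∈ F.R hW) : D.z * g * D.z⁻¹ ∈ F.R hW :=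
  F.R_conj hW (fun _ => F.z_E hW) (fun l hl => by rw [hl.2]; exact (F.L hW).inv_mem hl) hg

/-- The group meets the centraliser of the involution in the group of the lifts. -/
theorem R_meet {g : G} (hg : g ∈ F.R hW) (hX : g ∈ D.X) : g ∈ F.E := by
  have key : ∀ e ∈ F.E, Commute g e := fun e he => by
    have h1 : g * e * g⁻¹ * e⁻¹ ∈ D.X :=
      mul_mem (mul_mem (mul_mem hX (F.E_le he)) (inv_mem hX)) (inv_mem (F.E_le he))
    have h2 := F.L_meet hW (hg.2 e he) (mem_centralizer_singleton_iff.1 h1)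
    exact mul_inv_eq_iff_eq_mul.1 (mul_inv_eq_one.1 h2)
  refine (F.cen_two_G hX (key _ F.x_mem_E) (key _ F.e1_mem_E)).resolve_right fun he => ?_
  have hbot : F.L hW = ⊥ := eq_bot_iff.2 fun l hl => mem_bot.2 (F.L_meet hW hl (by
    have h1 : Commute l (D.z * g) := F.L_commE hW hl he
    have h2 := h1.mul_right (hg.1 l hl).symm.inv_right
    rwa [mul_inv_cancel_right] at h2))
  have h9 := F.card_L hW
  rw [hbot, card_bot] at h9
  norm_num at h9

include hb hzb

theorem W_le_R : F.W ≤ F.R hW := fun g hg =>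
  ⟨fun l hl => F.L_central hW hb hzb hg hl, fun e he => F.W_shift hW hg he⟩

theorem R_pow {g : G} (hg : g ∈ F.R hW) : g ^ 243 = 1 := by
  have hL9 : ∀ l ∈ F.L hW, l ^ 9 = 1 := fun l hl =>
    F.card_L hW ▸ orderOf_dvd_iff_pow_eq_one.1 (orderOf_dvd_natCard _ hl)
  have hfix : ∀ e ∈ F.E, Commute (g ^ 9) e := fun e he => by
    set l := g * e * g⁻¹ * e⁻¹ with hl
    have hlL : l ∈ F.L hW := hg.2 e he
    have key : ∀ j : ℕ, g ^ j * e * (g ^ j)⁻¹ = l ^ j * e := by
      intro j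
      induction j with
      | zero => simp
      | succ j ih =>
        calc g ^ (j + 1) * e * (g ^ (j + 1))⁻¹ = g * (g ^ j * e * (g ^ j)⁻¹) * g⁻¹ := by rw [pow_succ']; group
          _ = (g * l ^ j * g⁻¹) * (g * e * g⁻¹) := by rw [ih]; group
          _ = l ^ j * (l * e) := by
            rw [((hg.1 l hlL).pow_right j).eq, mul_inv_cancel_right, hl]
            group
          _ = _ := by rw [← mul_assoc, ← pow_succ]
    have h9 := key 9
    rw [hL9 l hlL, one_mul] at h9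
    exact mul_inv_eq_iff_eq_mul.1 h9
  set a := g ^ 9 with ha
  have haR : a ∈ F.R hW := pow_mem hg 9
  obtain ⟨w, hw, c, -, e⟩ := D.cen_split (le_refl 9) F.hpx F.x3 (by norm_num) (hfix _ F.x_mem_E)
  change w ∈ F.W at hw
  have hcE : (c : G) ∈ F.E := by
    refine F.R_meet hW ?_ c.2
    rw [show (c : G) = w⁻¹ * a by rw [e]; group]
    exact (F.R hW).mul_mem ((F.R hW).inv_mem (F.W_le_R hW hb hzb hw)) haR
  have hwC : w ∈ F.Cw (F.e1 : G) := by
    refine (F.mem_Cw).2 ⟨hw, ?_⟩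
    rw [show w = a * (c : G)⁻¹ by rw [e]; group]
    exact (hfix _ F.e1_mem_E).mul_left (F.E_comm (inv_mem hcE) F.e1_mem_E)
  obtain ⟨f, hf, l, hl, rfl⟩ := F.Cw_split hW hwC
  have hfc : f * (c : G) ∈ F.E := mul_mem (zpowers_le.2 F.x_mem_E hf) hcE
  have e' : a = l * (f * (c : G)) := by
    rw [e, ← mul_assoc, (F.L_commE hW hl (zpowers_le.2 F.x_mem_E hf)).eq]
  have h27 : a ^ 27 = 1 := by
    rw [e', (F.L_commE hW hl hfc).mul_pow, show 27 = 9 * 3 from rfl, pow_mul l, hL9 l hl, one_pow, one_mul,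
      show 9 * 3 = 3 * 9 from rfl, pow_mul, F.E_cube hfc, one_pow]
  rw [show 243 = 9 * 27 from rfl, pow_mul, ← ha, h27]

theorem R_three : IsPGroup 3 (F.R hW) := fun g => ⟨5, Subtype.ext (by
  rw [SubmonoidClass.coe_pow, OneMemClass.coe_one]; exact F.R_pow hW hb hzb g.2)⟩

theorem R_odd : Odd (Nat.card (F.R hW)) := by
  haveI : Fact (Nat.Prime 3) := ⟨Nat.prime_three⟩
  obtain ⟨k, hk⟩ := IsPGroup.iff_card.1 (F.R_three hW hb hzb)
  rw [hk]
  exact Odd.pow (by decide)

theorem card_le : Nat.card (F.R hW) ≤ 19683 := by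
  classical
  have hR3 := F.R_three hW hb hzb
  have hgx := mul_inv_eq_iff_eq_mul.1 F.g'_x
  have h4 := card_mul_four_le (F.R hW) (F.R_odd hW hb hzb) D.zz (congrArg Subtype.val F.b2 : (F.b : G) * F.b = 1)
    (congrArg Subtype.val (D.z_comm F.b)) (fun k => F.R_z hW) (fun k => F.R_b hW)
  have hA : Nat.card ↥(F.R hW ⊓ centralizer ({D.z} : Set G)) ≤ 27 :=
    le_trans (card_le_of_le (K := F.E) fun g hg => F.R_meet hW hg.1 hg.2) F.card_E.le
  have hB : ∀ t : D.X, (t = F.b ∨ t = D.zX * F.b) →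
      Nat.card ↥(F.R hW ⊓ centralizer ({(t : G)} : Set G)) ≤ 81 := fun t ht =>
    D.three_le (D.four_data (le_refl 9) (by norm_num) F.hpx F.x3 F.b2 F.b_x F.g'2 F.g'b hgx ht).2.2.2.1 _
      (hR3.to_le inf_le_left) inf_le_right
  have h3 : 3 ≤ Nat.card ↥(F.R hW ⊓ centralizer ({D.z} : Set G) ⊓ centralizer ({(F.b : G)} : Set G)) := by
    have hm : ((F.e1 * F.e2 : D.X) : G) ∈ F.R hW ⊓ centralizer ({D.z} : Set G) ⊓ centralizer ({(F.b : G)} : Set G) := by
      refine ⟨⟨F.E_le_R hW (mul_mem F.e1_mem_E F.e2_mem_E), mem_centralizer_singleton_iff.2 (D.z_commG _).eq.symm⟩,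
        mem_centralizer_singleton_iff.2 (Commute.eq (Commute.symm ?_))⟩
      refine mul_inv_eq_iff_eq_mul.1 ?_
      rw [show (F.b : G) * ((F.e1 * F.e2 : D.X) : G) * (F.b : G)⁻¹ =
        ((F.b : G) * F.e1 * (F.b : G)⁻¹) * ((F.b : G) * F.e2 * (F.b : G)⁻¹) by rw [Subgroup.coe_mul]; group,
        Ctx.val_conj D F.b_1, Ctx.val_conj D F.b_2, Subgroup.coe_mul]
      exact (Ctx.val_comm D F.comm12).eq.symm
    have ho : orderOf ((F.e1 * F.e2 : D.X) : G) = 3 := orderOf_eq_prime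
      (F.E_cube (mul_mem F.e1_mem_E F.e2_mem_E)) fun e => by
        have : cpow (0, 1, 1) = 1 := by
          have e' : F.el (0, 1, 1) = 1 := by
            simp only [el, Fin.val_zero, pow_zero, one_mul, Fin.val_one, pow_one]; exact Subtype.ext e
          rw [← F.p_el, e', map_one]
        exact (show cpow (0, 1, 1) ≠ 1 by decide +kernel) this
    rw [← ho, ← Nat.card_zpowers]
    exact card_le_of_le (zpowers_le.2 hm)
  have hmul : Nat.card (F.R hW) * 3 ^ 2 ≤ 27 * (81 * 81) := by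
    refine le_trans (Nat.mul_le_mul_left _ (Nat.pow_le_pow_left h3 2)) (le_trans h4 ?_)
    exact Nat.mul_le_mul hA (Nat.mul_le_mul (hB F.b (Or.inl rfl)) (hB (D.zX * F.b) (Or.inr rfl)))
  omega

omit hb hzb in
theorem W_meet_E : Nat.card ↥(F.W ⊓ F.E) ≤ 3 := by
  refine le_trans (card_le_of_le (K := zpowers (F.x : G)) fun g hg => ?_) (by rw [Nat.card_zpowers, F.x_ord])
  exact F.W_meet hg.1 (mem_centralizer_singleton_iff.1 (F.E_le hg.2))

/-- The exact orders. -/
theorem cards : Nat.card (F.R hW) = 19683 ∧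
    Nat.card ↥(F.R hW ⊓ centralizer ({(F.x : G)} : Set G)) = 2187 := by
  classical
  set T := F.R hW ⊓ centralizer ({(F.x : G)} : Set G) with hT
  have hWT : F.W ≤ T := fun g hg => ⟨F.W_le_R hW hb hzb hg, mem_centralizer_singleton_iff.2 (F.W_comm_x hg).eq⟩
  have hET : F.E ≤ T := fun g hg =>
    ⟨F.E_le_R hW hg, mem_centralizer_singleton_iff.2 (F.E_comm hg F.x_mem_E).eq⟩
  have h1 : 243 * 27 ≤ Nat.card T * 3 := by
    have := card_mul_le hWT hET
    rw [hW, F.card_E] at this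
    exact this.trans (Nat.mul_le_mul_left _ (F.W_meet_E hW))
  set W' := F.W.map (MulAut.conj (F.u : G)).toMonoidHom with hW'
  have hW'R : W' ≤ F.R hW := by
    rintro _ ⟨w, hw, rfl⟩
    exact F.R_u hW (F.W_le_R hW hb hzb hw)
  have h2 : Nat.card ↥(T ⊓ W') ≤ 27 := by
    refine le_trans (card_le_of_le (K := (F.Cw (F.e1 : G)).map (MulAut.conj (F.u : G)).toMonoidHom) ?_)
      (by rw [card_map_of_injective (MulAut.conj (F.u : G)).injective, F.card_Cw hW F.mov1])
    rintro g ⟨hgT, w, hw, rfl⟩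
    refine ⟨w, (F.mem_Cw).2 ⟨hw, ?_⟩, rfl⟩
    have h2 := (show Commute ((F.u : G) * w * (F.u : G)⁻¹) (F.x : G) from
      mem_centralizer_singleton_iff.1 hgT.2).map (MulAut.conj (F.u : G)).toMonoidHom
    rw [show (MulAut.conj (F.u : G)).toMonoidHom ((F.u : G) * w * (F.u : G)⁻¹) = w from F.u_conj_u,
      show (MulAut.conj (F.u : G)).toMonoidHom (F.x : G) = F.e1 from Ctx.val_conj D F.u_x] at h2
    exact h2
  have h3 := (card_mul_le (inf_le_left : T ≤ F.R hW) hW'R).trans (Nat.mul_le_mul_left _ h2)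
  rw [hW', card_map_of_injective (MulAut.conj (F.u : G)).injective, hW] at h3
  have h4 := F.card_le hW hb hzb
  constructor <;> (simp only [hT] at *; omega)

/-- The orbit of a lift has at most nine elements. -/
theorem card_orbit {e : G} (he : e ∈ F.E) :
    2187 ≤ Nat.card ↥(F.R hW ⊓ centralizer ({e} : Set G)) := by
  classical
  let f : F.R hW → F.L hW := fun g => ⟨(g : G) * e * (g : G)⁻¹ * e⁻¹, g.2.2 e he⟩
  choose! s hs using fun (l : F.L hW) (h : ∃ g, f g = l) => h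
  have hmem : ∀ g : F.R hW, ((s (f g) : F.R hW) : G)⁻¹ * g ∈ F.R hW ⊓ centralizer ({e} : Set G) := by
    intro g
    refine ⟨(F.R hW).mul_mem ((F.R hW).inv_mem (s (f g)).2) g.2, mem_centralizer_singleton_iff.2 ?_⟩
    have h : ((s (f g) : F.R hW) : G) * e * ((s (f g) : F.R hW) : G)⁻¹ = (g : G) * e * (g : G)⁻¹ :=
      mul_right_cancel (congrArg Subtype.val (hs (f g) ⟨g, rfl⟩) :)
    calc ((s (f g) : F.R hW) : G)⁻¹ * g * e
        = ((s (f g) : F.R hW) : G)⁻¹ * ((g : G) * e * (g : G)⁻¹) * g := by group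
      _ = e * (((s (f g) : F.R hW) : G)⁻¹ * g) := by rw [← h]; group
  have hle : Nat.card (F.R hW) ≤ Nat.card (F.L hW) * Nat.card ↥(F.R hW ⊓ centralizer ({e} : Set G)) := by
    rw [← Nat.card_prod]
    refine Nat.card_le_card_of_injective (fun g => (f g, (⟨_, hmem g⟩ : ↥(F.R hW ⊓ centralizer ({e} : Set G)))))
      fun g g' h => ?_
    obtain ⟨h1, h2⟩ := Prod.mk.inj h
    have h2' := congrArg Subtype.val h2
    simp only [h1] at h2'
    exact Subtype.ext (mul_left_cancel h2')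
  rw [(F.cards hW hb hzb).1, F.card_L hW] at hle
  omega

/-- **The centraliser of the product of two lifts has a further central element in its part of the group.** -/
theorem central_element :
    ∃ e ∈ F.E, e ∉ zpowers F.y ∧ ∀ q ∈ F.R hW ⊓ centralizer ({F.y} : Set G), Commute e q := by
  classical
  set Q := F.R hW ⊓ centralizer ({F.y} : Set G) with hQ
  have hQR : Q ≤ F.R hW := inf_le_left
  have hzy : Commute D.z F.y := (mem_centralizer_singleton_iff.1 (F.E_le F.y_mem_E)).symm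
  have hzL : ∀ k ∈ F.L hW, D.z * k * D.z⁻¹ ∈ F.L hW := fun k hk => by rw [hk.2]; exact (F.L hW).inv_mem hk
  have hbot : F.L hW ⊓ centralizer ({D.z} : Set G) = ⊥ := eq_bot_iff.2 fun a ha =>
    mem_bot.2 (F.L_meet hW ha.1 (mem_centralizer_singleton_iff.1 ha.2))
  have h4 := card_mul_four_le (F.L hW) (by rw [F.card_L hW]; decide) D.zz F.uu (D.z_commG F.u).eq hzL
    (fun k => F.u_L hW)
  rw [hbot, bot_inf_eq, card_bot, F.card_L hW, one_pow, mul_one, one_mul] at h4
  obtain ⟨t, ht, hne⟩ : ∃ t : G, (t = (F.u : G) ∨ t = D.z * (F.u : G)) ∧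
      F.L hW ⊓ centralizer ({t} : Set G) ≠ ⊥ := by
    by_contra hcon
    push Not at hcon
    rw [hcon _ (Or.inl rfl), hcon _ (Or.inr rfl), card_bot] at h4
    omega
  have hoth : D.z * t = (F.u : G) ∨ D.z * t = D.z * (F.u : G) := by
    rcases ht with rfl | rfl
    · exact Or.inr rfl
    · exact Or.inl (by rw [← mul_assoc, D.zz, one_mul])
  have htz : Commute D.z t := by
    rcases ht with rfl | rfl
    · exact D.z_commG F.u
    · exact (Commute.refl D.z).mul_right (D.z_commG F.u)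
  have hzQ : ∀ k ∈ Q, D.z * k * D.z⁻¹ ∈ Q := fun k hk => ⟨F.R_z hW hk.1, mem_centralizer_singleton_iff.2 (Commute.eq
    ((hzy.mul_left (mem_centralizer_singleton_iff.1 hk.2 : Commute k F.y)).mul_left hzy.inv_left))⟩
  have huQ : ∀ k ∈ Q, (F.u : G) * k * (F.u : G)⁻¹ ∈ Q := fun k hk =>
    ⟨F.R_u hW hk.1, mem_centralizer_singleton_iff.2 (Commute.eq
      ((F.u_y.mul_left (mem_centralizer_singleton_iff.1 hk.2 : Commute k F.y)).mul_left F.u_y.inv_left))⟩
  have htQ : ∀ k ∈ Q, t * k * t⁻¹ ∈ Q := by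
    rcases ht with rfl | rfl
    · exact huQ
    · intro k hk
      rw [show D.z * (F.u : G) * k * (D.z * (F.u : G))⁻¹ = D.z * ((F.u : G) * k * (F.u : G)⁻¹) * D.z⁻¹ by group]
      exact hzQ _ (huQ k hk)
  have htt : t * t = 1 := by
    rcases ht with rfl | rfl
    · exact F.uu
    · rw [(D.z_commG F.u).symm.mul_mul_mul_comm, D.zz, F.uu, one_mul]
  have hty : Commute t F.y := by
    rcases ht with rfl | rfl
    · exact F.u_y
    · exact hzy.mul_left F.u_y
  have hR3 := F.R_three hW hb hzb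
  have hodd : Odd (Nat.card Q) := (F.R_odd hW hb hzb).of_dvd_nat (card_dvd_of_le hQR)
  -- the parts fixed by the involutions
  have hz27 : Nat.card ↥(Q ⊓ centralizer ({D.z} : Set G)) ≤ 27 :=
    le_trans (card_le_of_le (K := F.E) fun g hg => F.R_meet hW hg.1.1 hg.2) F.card_E.le
  have hpart : ∀ w : G, (w = (F.u : G) ∨ w = D.z * (F.u : G)) → ∃ h : G, Commute h F.y ∧ h * w * h⁻¹ = D.z ∧
      (Q ⊓ centralizer ({w} : Set G)).map (MulAut.conj h).toMonoidHom ≤ F.E := by
    intro w hw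
    obtain ⟨h, hhy, hh, -⟩ := F.y_fuse hw
    refine ⟨h, hhy, hh, ?_⟩
    rintro _ ⟨q, hq, rfl⟩
    have h2 := (show Commute q w from mem_centralizer_singleton_iff.1 hq.2).map (MulAut.conj h).toMonoidHom
    rw [show (MulAut.conj h).toMonoidHom w = D.z from hh] at h2
    refine F.odd_prod (mem_centralizer_singleton_iff.2 h2.eq)
      ((hhy.mul_left (mem_centralizer_singleton_iff.1 hq.1.2 : Commute q F.y)).mul_left hhy.inv_left)
      (m := 243) (by decide) ?_
    show (h * q * h⁻¹) ^ 243 = 1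
    rw [conj_pow, F.R_pow hW hb hzb hq.1.1, mul_one, mul_inv_cancel]
  have hle27 : ∀ w : G, (w = (F.u : G) ∨ w = D.z * (F.u : G)) →
      Nat.card ↥(Q ⊓ centralizer ({w} : Set G)) ≤ 27 := by
    intro w hw
    obtain ⟨h, -, -, hle⟩ := hpart w hw
    rw [← card_map_of_injective (f := (MulAut.conj h).toMonoidHom) (MulAut.conj h).injective]
    exact (card_le_of_le hle).trans F.card_E.le
  have hy3 : 3 ≤ Nat.card ↥(Q ⊓ centralizer ({D.z} : Set G) ⊓ centralizer ({t} : Set G)) := by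
    have hyo : orderOf F.y = 3 := orderOf_eq_prime F.y_cube fun e => by
      have h2 : D.p (F.x * F.e1) = 1 := by rw [show F.x * F.e1 = 1 from Subtype.ext e, map_one]
      rw [map_mul, F.px, F.p1] at h2
      exact (show c0 * c1 ≠ 1 by decide +kernel) h2
    rw [← hyo, ← Nat.card_zpowers]
    exact card_le_of_le (zpowers_le.2 ⟨⟨⟨F.E_le_R hW F.y_mem_E, mem_centralizer_singleton_iff.2 rfl⟩,
      mem_centralizer_singleton_iff.2 hzy.eq.symm⟩, mem_centralizer_singleton_iff.2 hty.eq.symm⟩)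
  have h9 := card_mul_four_le Q hodd D.zz htt htz.eq hzQ htQ
  have hprod : 729 ≤ Nat.card ↥(Q ⊓ centralizer ({t} : Set G)) *
      Nat.card ↥(Q ⊓ centralizer ({D.z * t} : Set G)) := by
    have h1 : 2187 * 3 ^ 2 ≤ 27 * (Nat.card ↥(Q ⊓ centralizer ({t} : Set G)) *
        Nat.card ↥(Q ⊓ centralizer ({D.z * t} : Set G))) :=
      (Nat.mul_le_mul (F.card_orbit hW hb hzb F.y_mem_E) (Nat.pow_le_pow_left hy3 2)).trans
        (h9.trans (Nat.mul_le_mul_right _ hz27))
    omega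
  have hA := hle27 t ht
  have hB := hle27 (D.z * t) hoth
  have hA27 : Nat.card ↥(Q ⊓ centralizer ({t} : Set G)) = 27 := by nlinarith
  have hB27 : Nat.card ↥(Q ⊓ centralizer ({D.z * t} : Set G)) = 27 := by nlinarith
  have hmemQ : ∀ w : G, (w = D.z ∨ w = t ∨ w = D.z * t) → ∀ k : G, Commute k F.y → Commute k w → k ^ 243 = 1 →
      k ∈ Q := by
    intro w hw k hky hkw hk
    have hE : ∀ v : G, (v = (F.u : G) ∨ v = D.z * (F.u : G)) →
        Nat.card ↥(Q ⊓ centralizer ({v} : Set G)) = 27 → Commute k v → k ∈ Q := by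
      intro v hv hc hkv
      obtain ⟨h, hhy, hh, hle⟩ := hpart v hv
      have heq := eq_of_le_of_card_ge hle
        (le_of_eq (by rw [card_map_of_injective (MulAut.conj h).injective, hc, F.card_E]))
      have hmem : h * k * h⁻¹ ∈ F.E := by
        have h2 := hkv.map (MulAut.conj h).toMonoidHom
        rw [show (MulAut.conj h).toMonoidHom v = D.z from hh] at h2
        exact F.odd_prod (mem_centralizer_singleton_iff.2 h2.eq) ((hhy.mul_left hky).mul_left hhy.inv_left)
          (m := 243) (by decide) (by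
            show (h * k * h⁻¹) ^ 243 = 1
            rw [conj_pow, hk, mul_one, mul_inv_cancel])
      obtain ⟨q, hq, eq⟩ := heq.ge hmem
      have : q = k := mul_left_cancel (mul_right_cancel (eq : h * q * h⁻¹ = h * k * h⁻¹))
      exact this ▸ hq.1
    rcases hw with rfl | rfl | rfl
    · exact ⟨F.E_le_R hW (F.odd_prod (mem_centralizer_singleton_iff.2 hkw.eq) hky (m := 243) (by decide) hk),
        mem_centralizer_singleton_iff.2 hky.eq⟩
    · exact hE _ ht hA27 hkw
    · exact hE _ hoth hB27 hkw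
  obtain ⟨h, hhy, hh, hhz⟩ := F.y_fuse ht
  have hhz' : h * D.z * h⁻¹ = t ∨ h * D.z * h⁻¹ = D.z * t := by
    rcases ht with e | e <;> rcases hhz with e' | e' <;> rw [e, e']
    · exact Or.inl rfl
    · exact Or.inr rfl
    · exact Or.inr (by rw [← mul_assoc, D.zz, one_mul])
    · exact Or.inl rfl
  have hhzt : h * (D.z * t) * h⁻¹ = t ∨ h * (D.z * t) * h⁻¹ = D.z * t := by
    rw [show h * (D.z * t) * h⁻¹ = (h * D.z * h⁻¹) * (h * t * h⁻¹) by group, hh]
    rcases hhz' with e | e <;> rw [e]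
    · exact Or.inr htz.eq.symm
    · exact Or.inl (by rw [htz.eq, mul_assoc, D.zz, mul_one])
  have hinv : ∀ q ∈ Q, h * q * h⁻¹ ∈ Q := by
    intro q hq
    have hkey : ∀ (w w' : G), h * w * h⁻¹ = w' → (w' = D.z ∨ w' = t ∨ w' = D.z * t) →
        ∀ q ∈ Q ⊓ centralizer ({w} : Set G), h * q * h⁻¹ ∈ Q := by
      intro w w' hww hw' q hq
      refine hmemQ w' hw' _ ((hhy.mul_left (mem_centralizer_singleton_iff.1 hq.1.2 : Commute q F.y)).mul_left
        hhy.inv_left) ?_ (by rw [conj_pow, F.R_pow hW hb hzb hq.1.1, mul_one, mul_inv_cancel])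
      rw [← hww]
      exact (show Commute q w from mem_centralizer_singleton_iff.1 hq.2).map (MulAut.conj h).toMonoidHom
    have hsup := le_four_sup Q hodd D.zz htt htz.eq hzQ htQ
    have hle : Q ≤ Q.comap (MulAut.conj h).toMonoidHom := by
      refine hsup.trans (sup_le (fun a ha => ?_) (sup_le (fun a ha => ?_) (fun a ha => ?_)))
      · exact hkey D.z _ rfl (Or.inr hhz') a ha
      · exact hkey t D.z hh (Or.inl rfl) a ha
      · exact hkey (D.z * t) _ rfl (Or.inr hhzt) a ha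
    exact hle hq
  haveI := (nontrivial_iff_ne_bot _).2 hne
  obtain ⟨⟨l, hlm⟩, hl1⟩ := exists_ne (1 : ↥(F.L hW ⊓ centralizer ({t} : Set G)))
  have hlQ : l ∈ Q := ⟨F.L_le_R hW hlm.1, mem_centralizer_singleton_iff.2 (F.L_commE hW hlm.1 F.y_mem_E).eq⟩
  have heE : h * l * h⁻¹ ∈ F.E := by
    have h2 := (show Commute l t from mem_centralizer_singleton_iff.1 hlm.2).map (MulAut.conj h).toMonoidHom
    rw [show (MulAut.conj h).toMonoidHom t = D.z from hh] at h2
    exact F.R_meet hW (hinv l hlQ).1 (mem_centralizer_singleton_iff.2 h2.eq)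
  refine ⟨_, heE, fun hy => hl1 (Subtype.ext (F.L_meet hW hlm.1 ?_)), fun q hq => ?_⟩
  · obtain ⟨i, hi⟩ := mem_zpowers_iff.1 hy
    have hl : l = F.y ^ i := by
      calc l = h⁻¹ * (h * l * h⁻¹) * h := by group
        _ = h⁻¹ * (F.y ^ i * h) := by rw [← hi, mul_assoc]
        _ = F.y ^ i := by rw [← (hhy.zpow_right i).eq, inv_mul_cancel_left]
    show Commute l D.z
    rw [hl]
    exact hzy.symm.zpow_left i
  · have hn : h⁻¹ * q * h ∈ Q := by
      have := (mem_normalizer_iff.1 (inv_mem (mem_normalizer_fintype hinv : h ∈ normalizer (Q : Set G))) q).1 hq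
      simpa using this
    have h2 := (hn.1.1 l hlm.1).symm.map (MulAut.conj h).toMonoidHom
    rw [show (MulAut.conj h).toMonoidHom (h⁻¹ * q * h) = q by
      show h * (h⁻¹ * q * h) * h⁻¹ = q
      group] at h2
    exact h2

/-- **The odd core does not have order `243`.** -/
theorem large_false : False := by
  classical
  haveI : Fact (Nat.Prime 3) := ⟨Nat.prime_three⟩
  obtain ⟨e, heE, hey, hcent⟩ := F.central_element hW hb hzb
  set Q := F.R hW ⊓ centralizer ({F.y} : Set G) with hQ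
  set Q' := Q.map (MulAut.conj (F.g : G)).toMonoidHom with hQ'
  set A := F.E ⊓ centralizer (Q : Set G) with hA
  set A' := A.map (MulAut.conj (F.g : G)).toMonoidHom with hA'
  have heA : e ∈ A := ⟨heE, mem_centralizer_iff.2 fun q hq => (hcent q hq).eq.symm⟩
  have hyA : F.y ∈ A :=
    ⟨F.y_mem_E, mem_centralizer_iff.2 fun q hq => mem_centralizer_singleton_iff.1 hq.2⟩
  have hA9 : 9 ≤ Nat.card A := by
    have hd : Nat.card A ∣ 3 ^ 3 := by
      rw [show (3 : ℕ) ^ 3 = Nat.card F.E by rw [F.card_E]; norm_num]; exact card_dvd_of_le inf_le_left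
    obtain ⟨k, hk3, hk⟩ := (Nat.dvd_prime_pow Nat.prime_three).1 hd
    rw [hk]
    by_contra hlt
    have hk1 : k ≤ 1 := by
      by_contra h2
      exact hlt (le_trans (by norm_num) (Nat.pow_le_pow_right (by norm_num) (by omega : 2 ≤ k)))
    have hyne : F.y ≠ 1 := fun e => by
      have h2 : D.p (F.x * F.e1) = 1 := by rw [show F.x * F.e1 = 1 from Subtype.ext e, map_one]
      rw [map_mul, F.px, F.p1] at h2
      exact (show c0 * c1 ≠ 1 by decide +kernel) h2
    have heq : zpowers F.y = A := eq_of_le_of_card_ge (zpowers_le.2 hyA) (by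
      rw [hk, Nat.card_zpowers, orderOf_eq_prime F.y_cube hyne]
      exact (Nat.pow_le_pow_right (by norm_num) hk1).trans (by norm_num))
    exact hey (heq.ge heA)
  have hA'E : A' ≤ F.E := by
    rintro _ ⟨a, ha, rfl⟩
    exact F.g_E ha.1
  have hA'c : Nat.card A' = Nat.card A := card_map_of_injective (MulAut.conj (F.g : G)).injective
  have hint : 3 ≤ Nat.card ↥(A ⊓ A') := by
    have h1 := card_mul_le (inf_le_left : A ≤ F.E) hA'E
    rw [hA'c, F.card_E] at h1
    have h2 : 9 * 9 ≤ 27 * Nat.card ↥(A ⊓ A') := (Nat.mul_le_mul hA9 hA9).trans h1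
    omega
  have hne : A ⊓ A' ≠ ⊥ := fun e => by
    rw [e, card_bot] at hint
    norm_num at hint
  haveI := (nontrivial_iff_ne_bot _).2 hne
  obtain ⟨⟨f, hfA, hfA'⟩, hf1⟩ := exists_ne (1 : ↥(A ⊓ A'))
  set T := F.R hW ⊓ centralizer ({(F.x : G)} : Set G) with hT
  set S := F.R hW ⊓ centralizer ({f} : Set G) with hS
  have hQS : Q ≤ S := fun q hq =>
    ⟨hq.1, mem_centralizer_singleton_iff.2 (mem_centralizer_iff.1 hfA.2 q hq)⟩
  have hQ'S : Q' ≤ S := by
    rintro _ ⟨q, hq, rfl⟩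
    obtain ⟨a, ha, rfl⟩ := hfA'
    refine ⟨F.R_g hW hq.1, mem_centralizer_singleton_iff.2 ?_⟩
    exact ((show Commute q a from mem_centralizer_iff.1 ha.2 q hq).map (MulAut.conj (F.g : G)).toMonoidHom).eq
  have hgy : (F.g : G) * F.y * (F.g : G)⁻¹ = (F.x : G) * (F.e1 : G)⁻¹ := by
    rw [y, show (F.g : G) * ((F.x : G) * (F.e1 : G)) * (F.g : G)⁻¹ =
      ((F.g : G) * F.x * (F.g : G)⁻¹) * ((F.g : G) * F.e1 * (F.g : G)⁻¹) by group, Ctx.val_conj D F.g_x,
      Ctx.val_conj D F.g_1, InvMemClass.coe_inv]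
  set B := T ⊓ centralizer ({(F.e1 : G)} : Set G) with hB
  have hQQ : Q ⊓ Q' ≤ B := by
    rintro k ⟨hk, q, hq, rfl⟩
    have h1 : Commute ((MulAut.conj (F.g : G)).toMonoidHom q) F.y := mem_centralizer_singleton_iff.1 hk.2
    have h2 := (show Commute q F.y from mem_centralizer_singleton_iff.1 hq.2).map (MulAut.conj (F.g : G)).toMonoidHom
    rw [show (MulAut.conj (F.g : G)).toMonoidHom F.y = (F.x : G) * (F.e1 : G)⁻¹ from hgy] at h2
    set k := (MulAut.conj (F.g : G)).toMonoidHom q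
    have hc := Ctx.val_comm D F.comm01
    have h3 : Commute k (F.x : G) := by
      have h4 := h1.mul_right h2
      have e : F.y * ((F.x : G) * (F.e1 : G)⁻¹) = (F.x : G) * F.x := by
        rw [y, mul_assoc, ← mul_assoc (F.e1 : G), ← hc.eq, mul_inv_cancel_right]
      rw [e] at h4
      have h5 := h4.mul_right h4
      rwa [show (F.x : G) * F.x * ((F.x : G) * F.x) = (F.x : G) by
        rw [show (F.x : G) * F.x * ((F.x : G) * F.x) = (F.x : G) ^ 3 * F.x by
            rw [pow_succ, pow_two]; group,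
          show (F.x : G) ^ 3 = 1 from congrArg Subtype.val F.x3, one_mul]] at h5
    refine ⟨⟨hk.1, mem_centralizer_singleton_iff.2 h3.eq⟩, mem_centralizer_singleton_iff.2 (Commute.eq ?_)⟩
    have h6 := h3.inv_right.mul_right h1
    rwa [y, inv_mul_cancel_left] at h6
  have hBc : Nat.card B ≤ 243 := by
    have h1 := card_mul_le (R := T) (A := F.W) (B := B)
      (fun g hg => ⟨F.W_le_R hW hb hzb hg, mem_centralizer_singleton_iff.2 (F.W_comm_x hg).eq⟩) inf_le_left
    have h2 : Nat.card ↥(F.W ⊓ B) ≤ 27 := by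
      rw [← F.card_Cw hW F.mov1]
      exact card_le_of_le fun g hg => ⟨hg.1, hg.2.2⟩
    rw [hW, (F.cards hW hb hzb).2] at h1
    have h3 : 243 * Nat.card B ≤ 2187 * 27 := h1.trans (Nat.mul_le_mul_left _ h2)
    omega
  have hQc : 2187 ≤ Nat.card Q := F.card_orbit hW hb hzb F.y_mem_E
  have hQ'c : Nat.card Q' = Nat.card Q := card_map_of_injective (MulAut.conj (F.g : G)).injective
  have hSR : S = F.R hW := by
    refine eq_of_le_of_card_ge inf_le_left ?_
    have h1 := (card_mul_le hQS hQ'S).trans (Nat.mul_le_mul_left _ ((card_le_of_le hQQ).trans hBc))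
    rw [hQ'c] at h1
    have h2 := (Nat.mul_le_mul hQc hQc).trans h1
    rw [(F.cards hW hb hzb).1]
    omega
  have hfR : ∀ r ∈ F.R hW, Commute r f := fun r hr => mem_centralizer_singleton_iff.1 (hSR.ge hr).2
  have toZ : ∀ a : G, a ∈ F.E → (∀ w ∈ F.W, Commute a w) → a ∈ zpowers (F.x : G) := by
    intro a ha hc
    obtain ⟨v, rfl⟩ := ha
    rcases moves_or v with ⟨h1, h2⟩ | ⟨i, hi, hmv⟩
    · refine mem_zpowers_iff.2 ⟨((v.1 : ℕ) : ℤ), ?_⟩
      simp [el, h1, h2]
    · exfalso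
      have hz := D.faithful (le_refl 9) F.hpx F.x3 F.W (fun k hk u hu => F.W_conj hk hu) (c := F.el v) (m := 3)
        (by decide) (F.el_cube v) (F.el_x ▸ F.el_comm _ _) ⟨i, hi, by rw [F.p_el]; exact hmv⟩ hc
      exact F.Z_ne hW (le_antisymm F.Z_le_W fun u hu => F.W_meet hu (hz u hu).symm)
  have hf := toZ f hfA.1 fun w hw => (hfR w (F.W_le_R hW hb hzb hw)).symm
  have hf' := toZ _ (F.u_E hfA.1) fun w hw => by
    have h2 := (hfR _ (F.R_u hW (F.W_le_R hW hb hzb hw))).symm.map (MulAut.conj (F.u : G)).toMonoidHom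
    rw [show (MulAut.conj (F.u : G)).toMonoidHom ((F.u : G) * w * (F.u : G)⁻¹) = w from F.u_conj_u] at h2
    exact h2
  exact hf1 (Subtype.ext (F.Z_meet_conj hf hf'))

end Nine.Frame

end Cfsg.Agent.DoubleCoverDeg
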