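import Cfsg.Agent.Lib.DoubleCoverDeg.NineW

/-!
S1645, degree nine, large core: the core moves the lifts inside the inverted fixed part, which is central in it.
-/

set_option autoImplicit false
set_option linter.style.haveILetI false
set_option linter.unusedSectionVars false
set_option linter.constructorNameAsVariable false

namespace Cfsg.Agent.DoubleCoverDeg

open Cfsg Equiv Subgroup
open Ctx (c0)

universe u

variable {G : Type u} [Group G] [Finite G]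

namespace Nine

theorem cycle_not_three : ∀ a b : Fin 3, b ≠ 0 → (cpow (a, b, 2)).support.card ≠ 3 := by
  decide +kernel

theorem moves_or : ∀ v : Fin 3 × Fin 3 × Fin 3, (v.2.1 = 0 ∧ v.2.2 = 0) ∨ ∃ i : Fin 9, 3 ≤ (i : ℕ) ∧ cpow v i ≠ i := by
  decide +kernel

namespace Frame

variable {D : Ctx G 9} (F : Frame D)

theorem mem_Z {f : G} (hf : f ∈ zpowers (F.x : G)) : ∃ a : Fin 3, f = (F.el (a, 0, 0) : G) := by
  obtain ⟨i, rfl⟩ := mem_zpowers_iff.1 hf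
  obtain ⟨j, hj⟩ : ∃ j : ℕ, (i % 3).toNat = j := ⟨_, rfl⟩
  refine ⟨⟨(i % 3).toNat, by omega⟩, ?_⟩
  have h3 : (F.x : G) ^ (3 : ℤ) = 1 := by rw [zpow_ofNat]; exact congrArg Subtype.val F.x3
  simp only [el, Fin.val_zero, pow_zero, mul_one, SubmonoidClass.coe_pow]
  conv_lhs => rw [← Int.mul_ediv_add_emod i 3, zpow_add, zpow_mul, h3, one_zpow, one_mul]
  rw [← zpow_natCast, Int.toNat_of_nonneg (Int.emod_nonneg _ (by norm_num))]

theorem u_Z {f : G} (hf : f ∈ zpowers (F.x : G)) :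
    ∃ j : Fin 3, (F.u : G) * f * (F.u : G)⁻¹ = (F.el (0, j, 0) : G) := by
  obtain ⟨j, rfl⟩ := F.mem_Z hf
  refine ⟨j, ?_⟩
  have : F.u * F.el (j, 0, 0) * F.u⁻¹ = F.el (0, j, 0) := by simp [el, ← conj_pow, F.u_x]
  exact congrArg Subtype.val this

theorem conj_eq {k a b : G} (h : k * a * k⁻¹ = b) {g : G} : k * (g * a * g⁻¹) * k⁻¹ =
    (k * g * k⁻¹) * b * (k * g * k⁻¹)⁻¹ := by
  rw [← h]; group

variable [IsSimpleGroup G] (hW : Nat.card F.W = 243)
include hW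

omit hW in
/-- A conjugate of the first lift inside the centraliser of the involution is over a three-cycle. -/
theorem x_class' {k : G} (hk : ∃ h : G, h * (F.x : G) * h⁻¹ = k) (hX : k ∈ D.X) :
    (D.p ⟨k, hX⟩).IsThreeCycle := by
  obtain ⟨h, rfl⟩ := hk
  exact D.x_class F.px F.x3 hX

/-- **The core moves the second lift inside the inverted fixed part.** -/
theorem e1_shift {v : G} (hv : v ∈ F.W) : ∃ l ∈ F.L hW, v * (F.e1 : G) * v⁻¹ = l * F.e1 := by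
  classical
  obtain ⟨f, hf, l, hl, hvl⟩ := F.conj_split hW F.mov1 hv
  refine ⟨l, hl, ?_⟩
  suffices hf1 : f = 1 by rwa [hf1, one_mul] at hvl
  by_contra hne
  set v' := (F.b : G) * v * (F.b : G)⁻¹ with hv'
  set l' := (F.b : G) * l * (F.b : G)⁻¹ with hl'
  have hv2 : v' * (F.e2 : G) * v'⁻¹ = f⁻¹ * l' * F.e2 := by
    have hb1 := Ctx.val_conj D F.b_1
    have hbf : (F.b : G) * f * (F.b : G)⁻¹ = f⁻¹ := by
      obtain ⟨i, rfl⟩ := mem_zpowers_iff.1 hf
      rw [← conj_zpow, Ctx.val_conj D F.b_x, InvMemClass.coe_inv, inv_zpow]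
    rw [← conj_eq (g := v) hb1, hvl, hl',
      show (F.b : G) * (f * l * (F.e1 : G)) * (F.b : G)⁻¹ = ((F.b : G) * f * (F.b : G)⁻¹) *
        ((F.b : G) * l * (F.b : G)⁻¹) * ((F.b : G) * F.e1 * (F.b : G)⁻¹) by group, hbf, hb1]
  set v'' := (F.u : G) * v' * (F.u : G)⁻¹ with hv''
  set l'' := (F.u : G) * l' * (F.u : G)⁻¹ with hl''
  have hl''L : l'' ∈ F.L hW := F.u_L hW (F.b_L hW hl)
  obtain ⟨j, hj⟩ := F.u_Z (inv_mem hf)
  have hj0 : j ≠ 0 := fun e => hne (inv_eq_one.1 (conj_eq_one_iff.1 (hj.trans (by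
    rw [e]; exact congrArg Subtype.val F.el_zero))))
  have hu2 := Ctx.val_conj D F.u_2
  have hv3 : v'' * ((F.e2⁻¹ : D.X) : G) * v''⁻¹ = (F.el (0, j, 0) : G) * l'' * ((F.e2⁻¹ : D.X) : G) := by
    rw [← conj_eq (g := v') hu2, hv2, hl'',
      show (F.u : G) * (f⁻¹ * l' * (F.e2 : G)) * (F.u : G)⁻¹ = ((F.u : G) * f⁻¹ * (F.u : G)⁻¹) *
        ((F.u : G) * l' * (F.u : G)⁻¹) * ((F.u : G) * F.e2 * (F.u : G)⁻¹) by group, hj, hu2]
  set e := F.el (0, j, 2) with he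
  have hee : F.el (0, j, 0) * F.e2⁻¹ = e := by
    rw [he, ← F.el_2, F.el_inv, F.el_mul]
    congr 1
    simp only [Prod.mk_add_mk, Prod.neg_mk, neg_zero, zero_add, add_zero]
    rfl
  set y := l'' * (e : G) with hy
  have hyv : v'' * ((F.e2⁻¹ : D.X) : G) * v''⁻¹ = y := by
    rw [hv3, hy, ← hee, ((F.L_commE hW hl''L (⟨_, rfl⟩ : (F.el (0, j, 0) : G) ∈ F.E))).symm.eq, mul_assoc]
    rfl
  have hmv : F.Mov e := F.mov_el (fun h => hj0 (Prod.ext_iff.1 h).1)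
  obtain ⟨w, hw, f', hf', hwe⟩ := F.conj_surj hW hmv ((F.L hW).inv_mem hl''L)
  set c := w * l'' * w⁻¹ * l''⁻¹ with hc
  have hcZ : c ∈ zpowers (F.x : G) := F.W_commutator hw (F.L_le_W hW hl''L)
  have hcl : w * l'' * w⁻¹ = c * l'' := by rw [hc]; group
  have hwy : w * y * w⁻¹ = c * f' * (e : G) := by
    rw [hy, show w * (l'' * (e : G)) * w⁻¹ = (w * l'' * w⁻¹) * (w * e * w⁻¹) by group, hcl, hwe,
      show c * l'' * (f' * l''⁻¹ * (e : G)) = c * (l'' * f') * (l''⁻¹ * e) by group,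
      (F.Z_central (F.L_le_W hW hl''L) hf').eq]
    group
  obtain ⟨i, hi⟩ := F.mem_Z (mul_mem hcZ hf')
  have hwy' : w * y * w⁻¹ = (F.el (i, j, 2) : G) := by
    rw [hwy, hi, he, ← Subgroup.coe_mul, F.el_mul]
    simp
  have hh : ∃ h : G, h * (F.x : G) * h⁻¹ = (F.el (i, j, 2) : G) := by
    refine ⟨w * v'' * ((F.u : G) * ((F.b : G) * (F.u : G))), ?_⟩
    rw [show ((F.u : G) * ((F.b : G) * (F.u : G))) = (F.u : G) * (F.b : G) * (F.u : G) from (mul_assoc _ _ _).symm]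
    rw [show w * v'' * ((F.u : G) * (F.b : G) * (F.u : G)) * (F.x : G) *
      (w * v'' * ((F.u : G) * (F.b : G) * (F.u : G)))⁻¹ =
      w * (v'' * ((F.u : G) * ((F.b : G) * ((F.u : G) * F.x * (F.u : G)⁻¹) * (F.b : G)⁻¹) * (F.u : G)⁻¹) * v''⁻¹) * w⁻¹
      by group, Ctx.val_conj D F.u_x, Ctx.val_conj D F.b_1, hu2, hyv, hwy']
  have h3 := (F.x_class' hh (F.el (i, j, 2)).2).card_support
  rw [show (⟨(F.el (i, j, 2) : G), (F.el (i, j, 2)).2⟩ : D.X) = F.el (i, j, 2) from rfl, F.p_el] at h3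
  exact cycle_not_three i j hj0 h3

/-- The core moves the third lift inside the inverted fixed part. -/
theorem e2_shift {v : G} (hv : v ∈ F.W) : ∃ l ∈ F.L hW, v * (F.e2 : G) * v⁻¹ = l * F.e2 := by
  have hbb : (F.b : G) * F.b = 1 := congrArg Subtype.val F.b2
  obtain ⟨l, hl, e⟩ := F.e1_shift hW (F.b_W hv)
  refine ⟨_, F.b_L hW hl, ?_⟩
  have h := conj_eq (g := (F.b : G) * v * (F.b : G)⁻¹) (Ctx.val_conj D F.b_1)
  rw [e, show (F.b : G) * ((F.b : G) * v * (F.b : G)⁻¹) * (F.b : G)⁻¹ = ((F.b : G) * F.b) * v * ((F.b : G) * F.b)⁻¹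
    by group, hbb, one_mul, inv_one, mul_one] at h
  rw [← h, ← Ctx.val_conj D F.b_1]
  group

/-- An element mapping the three lifts into the inverted part times themselves does so with their whole group. -/
theorem shift_E {g : G} (h0 : g * F.x * g⁻¹ * (F.x : G)⁻¹ ∈ F.L hW) (h1 : g * F.e1 * g⁻¹ * (F.e1 : G)⁻¹ ∈ F.L hW)
    (h2 : g * F.e2 * g⁻¹ * (F.e2 : G)⁻¹ ∈ F.L hW) {e : G} (he : e ∈ F.E) : g * e * g⁻¹ * e⁻¹ ∈ F.L hW := by
  let S : Subgroup G :=
  { carrier := {e | e ∈ F.E ∧ g * e * g⁻¹ * e⁻¹ ∈ F.L hW}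
    one_mem' := ⟨one_mem _, by simp⟩
    mul_mem' := fun {a b} ha hb => ⟨mul_mem ha.1 hb.1, by
      have hcb : Commute (g * b * g⁻¹ * b⁻¹) a := F.L_commE hW hb.2 ha.1
      rw [show g * (a * b) * g⁻¹ * (a * b)⁻¹ = (g * a * g⁻¹ * a⁻¹) * (a * (g * b * g⁻¹ * b⁻¹) * a⁻¹) by group,
        ← hcb.eq, mul_inv_cancel_right]
      exact (F.L hW).mul_mem ha.2 hb.2⟩
    inv_mem' := fun {a} ha => ⟨inv_mem ha.1, by
      have hca : Commute (g * a * g⁻¹ * a⁻¹)⁻¹ a := (F.L_commE hW ha.2 ha.1).inv_left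
      rw [show g * a⁻¹ * g⁻¹ * a⁻¹⁻¹ = a⁻¹ * ((g * a * g⁻¹ * a⁻¹)⁻¹ * a) by group, hca.eq, inv_mul_cancel_left]
      exact (F.L hW).inv_mem ha.2⟩ }
  obtain ⟨v, rfl⟩ := he
  have hv : ((F.el v : D.X) : G) ∈ S := by
    simp only [el, Subgroup.coe_mul, SubmonoidClass.coe_pow]
    exact S.mul_mem (S.mul_mem (pow_mem (show (F.x : G) ∈ S from ⟨F.x_mem_E, h0⟩) _)
      (pow_mem (show (F.e1 : G) ∈ S from ⟨F.e1_mem_E, h1⟩) _))
      (pow_mem (show (F.e2 : G) ∈ S from ⟨F.e2_mem_E, h2⟩) _)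
  exact hv.2

/-- **The core moves the group of the lifts inside the inverted fixed part.** -/
theorem W_shift {v e : G} (hv : v ∈ F.W) (he : e ∈ F.E) : v * e * v⁻¹ * e⁻¹ ∈ F.L hW := by
  obtain ⟨l1, hl1, e1⟩ := F.e1_shift hW hv
  obtain ⟨l2, hl2, e2⟩ := F.e2_shift hW hv
  refine F.shift_E hW ?_ ?_ ?_ he
  · rw [(F.W_comm_x hv).eq, mul_inv_cancel_right, mul_inv_cancel]; exact one_mem _
  · rw [e1, mul_inv_cancel_right]; exact hl1
  · rw [e2, mul_inv_cancel_right]; exact hl2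

/-- Every inverted fixed element times the first lift is a conjugate of it. -/
theorem x_orbit {l : G} (hl : l ∈ F.L hW) : ∃ h : G, h * (F.x : G) * h⁻¹ = l * F.x := by
  obtain ⟨v, hv, f, hf, e⟩ := F.conj_surj hW F.mov1 (F.u_L hW hl)
  obtain ⟨l', hl', e'⟩ := F.e1_shift hW hv
  have hll : f = l' * ((F.u : G) * l * (F.u : G)⁻¹)⁻¹ := by
    rw [e'] at e
    rw [mul_right_cancel e]
    group
  have hf1 : f = 1 := F.L_meet hW (hll ▸ (F.L hW).mul_mem hl' ((F.L hW).inv_mem (F.u_L hW hl))) (F.Z_comm_z hf)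
  rw [hf1, one_mul] at e
  refine ⟨(F.u : G) * v * (F.u : G)⁻¹, ?_⟩
  rw [← conj_eq (g := v) (Ctx.val_conj D F.u_1), e,
    show (F.u : G) * ((F.u : G) * l * (F.u : G)⁻¹ * (F.e1 : G)) * (F.u : G)⁻¹ =
      ((F.u : G) * ((F.u : G) * l * (F.u : G)⁻¹) * (F.u : G)⁻¹) * ((F.u : G) * F.e1 * (F.u : G)⁻¹) by group,
    Ctx.val_conj D F.u_1, F.u_conj_u]

omit hW in
theorem zero_or_nine {k : ℕ} (h : k ∣ 9) (h4 : k % 4 = 1) : k = 1 ∨ k = 9 := by
  have := Nat.le_of_dvd (by norm_num) h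
  interval_cases k <;> simp_all

/-- Subgroups of the inverted part invariant under the standard element have order one or nine. -/
theorem L_cases (A : Subgroup G) (hA : A ≤ F.L hW) (hg : ∀ a ∈ A, (F.g : G) * a * (F.g : G)⁻¹ ∈ A) :
    A = ⊥ ∨ A = F.L hW := by
  have hsq : (F.g : G) * F.g = D.z := congrArg Subtype.val F.g2
  have hbot : A ⊓ centralizer ({(F.g : G) * F.g} : Set G) = ⊥ := eq_bot_iff.2 fun a ha =>
    mem_bot.2 (F.L_meet hW (hA ha.1) (hsq ▸ mem_centralizer_singleton_iff.1 ha.2))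
  have h4 := fix_mod_four A hg (fun a _ => by rw [hsq, D.zz]; exact Commute.one_left a) fun a ha hc => by
    rw [hsq] at hc
    rw [F.L_meet hW (hA ha) hc.symm]
    exact Commute.one_right _
  rw [hbot, card_bot] at h4
  rcases zero_or_nine (F.card_L hW ▸ card_dvd_of_le hA) h4 with h | h
  · exact Or.inl (card_eq_one.1 h)
  · exact Or.inr (eq_of_le_of_card_ge hA (le_of_eq ((F.card_L hW).trans h.symm)))

/-- **The inverted fixed part is central in the core.** -/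
theorem L_central (hb : Nat.card (F.Cw (F.b : G)) = 9) (hzb : Nat.card (F.Cw ((D.zX * F.b : D.X) : G)) = 9)
    {v l : G} (hv : v ∈ F.W) (hl : l ∈ F.L hW) : Commute v l := by
  classical
  by_contra hne
  have h0 : F.L hW ⊓ centralizer (F.W : Set G) = ⊥ := by
    refine (F.L_cases hW _ inf_le_left fun a ha => ⟨F.g_L hW ha.1, mem_centralizer_iff.2 fun w hw => ?_⟩).resolve_right
      fun e => hne (mem_centralizer_iff.1 (e.ge hl).2 v hv)
    have hgw : (F.g : G)⁻¹ * w * (F.g : G) ∈ F.W := by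
      simpa using F.W_conj (k := F.g⁻¹) F.g_comm_x.inv_left hw
    have h2 : Commute ((F.g : G)⁻¹ * w * (F.g : G)) a := mem_centralizer_iff.1 ha.2 _ hgw
    have h3 := h2.map (MulAut.conj (F.g : G)).toMonoidHom
    simpa [mul_assoc] using h3.eq
  have hclass : ∀ m ∈ F.L hW, m ≠ 1 → ∃ h : G, h * (F.x : G) * h⁻¹ = m := by
    intro m hm hm1
    obtain ⟨w, hw, hwm⟩ : ∃ w ∈ F.W, w * m ≠ m * w := by
      by_contra hcon
      push Not at hcon
      exact hm1 (mem_bot.1 (h0 ▸ ⟨hm, mem_centralizer_iff.2 hcon⟩))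
    set c := w * m * w⁻¹ * m⁻¹ with hc
    have hcZ : c ∈ zpowers (F.x : G) := F.W_commutator hw (F.L_le_W hW hm)
    have hc1 : c ≠ 1 := fun e => hwm (by
      calc w * m = c * m * w := by rw [hc]; group
        _ = m * w := by rw [e, one_mul])
    have hcm : Commute m c := F.Z_central (F.L_le_W hW hm) hcZ
    have hx : ∃ h : G, h * (F.x : G) * h⁻¹ = m * c := by
      obtain ⟨j, hj⟩ := F.mem_Z hcZ
      fin_cases j
      · exact absurd (hj.trans (congrArg Subtype.val F.el_zero)) hc1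
      · have hj' : c = (F.x : G) := by rw [hj]; simp [el]
        rw [hj']; exact F.x_orbit hW hm
      · obtain ⟨h, hh⟩ := F.x_orbit hW ((F.L hW).inv_mem hm)
        refine ⟨h * (F.b : G), ?_⟩
        have hj' : c = (F.x : G)⁻¹ := by
          rw [hj]
          refine eq_inv_of_mul_eq_one_left ?_
          simp only [el, SubmonoidClass.coe_pow, Fin.val_zero, pow_zero, mul_one]
          rw [← pow_succ]
          exact congrArg Subtype.val F.x3
        rw [show h * (F.b : G) * (F.x : G) * (h * (F.b : G))⁻¹ = h * ((F.b : G) * F.x * (F.b : G)⁻¹) * h⁻¹ by group,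
          Ctx.val_conj D F.b_x, InvMemClass.coe_inv,
          show h * (F.x : G)⁻¹ * h⁻¹ = (h * (F.x : G) * h⁻¹)⁻¹ by group, hh, mul_inv_rev, inv_inv, hj']
        exact ((F.W_comm_x (F.L_le_W hW hm)).inv_right).eq.symm
    obtain ⟨h, hh⟩ := hx
    refine ⟨w⁻¹ * h, ?_⟩
    calc w⁻¹ * h * (F.x : G) * (w⁻¹ * h)⁻¹ = w⁻¹ * (h * (F.x : G) * h⁻¹) * w := by group
      _ = w⁻¹ * (c * m) * w := by rw [hh, hcm.eq]
      _ = m := by rw [hc]; group
  have hbot : F.L hW ⊓ centralizer ({D.z} : Set G) = ⊥ := eq_bot_iff.2 fun a ha =>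
    mem_bot.2 (F.L_meet hW ha.1 (mem_centralizer_singleton_iff.1 ha.2))
  have h4 := card_mul_four_le (F.L hW) (by rw [F.card_L hW]; decide) D.zz (congrArg Subtype.val F.b2)
    (congrArg Subtype.val (D.z_comm F.b)) (fun k hk => by rw [hk.2]; exact (F.L hW).inv_mem hk) (fun k => F.b_L hW)
  rw [hbot, bot_inf_eq, card_bot, F.card_L hW, one_pow, mul_one, one_mul] at h4
  obtain ⟨t, ht, hne'⟩ : ∃ t : D.X, (t = F.b ∨ t = D.zX * F.b) ∧
      F.L hW ⊓ centralizer ({(t : G)} : Set G) ≠ ⊥ := by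
    by_contra hcon
    push Not at hcon
    have e2 : ((D.zX * F.b : D.X) : G) = D.z * (F.b : G) := rfl
    have c2 := hcon (D.zX * F.b) (Or.inr rfl)
    rw [e2] at c2
    rw [hcon F.b (Or.inl rfl), c2, card_bot] at h4
    omega
  haveI := (nontrivial_iff_ne_bot _).2 hne'
  obtain ⟨⟨m, hm⟩, hm1⟩ := exists_ne (1 : ↥(F.L hW ⊓ centralizer ({(t : G)} : Set G)))
  have hm1' : m ≠ 1 := fun e => hm1 (Subtype.ext e)
  obtain ⟨htt, htx, hgt, htc, htz⟩ := D.four_data (le_refl 9) (by norm_num) F.hpx F.x3 F.b2 F.b_x F.g'2 F.g'b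
    (mul_inv_eq_iff_eq_mul.1 F.g'_x) ht
  have hcard : Nat.card (F.Cw (t : G)) = 9 := by rcases ht with rfl | rfl <;> assumption
  have hinv : ∀ a ∈ F.Cw (t : G), D.z * a * D.z⁻¹ = a⁻¹ := fun a ha =>
    D.part_inverted (le_refl 9) (by norm_num) F.hpx F.x3 F.b2 F.b_x F.g'2 F.g'b (mul_inv_eq_iff_eq_mul.1 F.g'_x) ht
      ha.1 ((F.mem_Cw).1 ha).2
  have hmt : m ∈ F.Cw (t : G) := (F.mem_Cw).2 ⟨F.L_le_W hW hm.1, mem_centralizer_singleton_iff.1 hm.2⟩
  set n := (F.g' : G) * m * (F.g' : G)⁻¹ with hn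
  have hnt : n ∈ F.Cw (t : G) := by
    refine (F.mem_Cw).2 ⟨F.W_conj (mul_inv_eq_iff_eq_mul.1 F.g'_x) hmt.1, ?_⟩
    have h2 := ((F.mem_Cw).1 hmt).2.map (MulAut.conj (F.g' : G)).toMonoidHom
    rw [show (MulAut.conj (F.g' : G)).toMonoidHom (t : G) = t by
      show (F.g' : G) * t * (F.g' : G)⁻¹ = t
      rw [(Ctx.val_comm D hgt).eq, mul_inv_cancel_right]] at h2
    exact h2
  have hmn : Commute m n := by
    have h := hinv _ ((F.Cw (t : G)).mul_mem hmt hnt)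
    rw [show D.z * (m * n) * D.z⁻¹ = (D.z * m * D.z⁻¹) * (D.z * n * D.z⁻¹) by group, hinv m hmt, hinv n hnt,
      ← mul_inv_rev, inv_inj] at h
    exact h.symm
  obtain ⟨h, hh⟩ := isConj_iff.1 htc.symm
  obtain ⟨k, hk⟩ := hclass m hm.1 hm1'
  have hX : ∀ a ∈ F.Cw (t : G), h * a * h⁻¹ ∈ D.X := fun a ha => by
    have h2 := ((F.mem_Cw).1 ha).2.map (MulAut.conj h).toMonoidHom
    rw [show (MulAut.conj h).toMonoidHom (t : G) = D.z from hh] at h2
    exact mem_centralizer_singleton_iff.2 h2.eq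
  let P : D.X := ⟨_, hX m hmt⟩
  let Q : D.X := ⟨_, hX n hnt⟩
  have hP : (D.p P).IsThreeCycle := F.x_class' (k := h * m * h⁻¹) ⟨h * k, by rw [← hk]; group⟩ (hX m hmt)
  have hQ : (D.p Q).IsThreeCycle := F.x_class' (k := h * n * h⁻¹)
    ⟨h * (F.g' : G) * k, by rw [hn, ← hk]; group⟩ (hX n hnt)
  have hzt : h * D.z * h⁻¹ ∈ D.X := by
    have h2 := (Ctx.val_comm D htz).symm.map (MulAut.conj h).toMonoidHom
    rw [show (MulAut.conj h).toMonoidHom (t : G) = D.z from hh] at h2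
    exact mem_centralizer_singleton_iff.2 h2.eq
  let τ : D.X := ⟨_, hzt⟩
  have hτ2 : τ * τ = 1 := Subtype.ext (by
    show h * D.z * h⁻¹ * (h * D.z * h⁻¹) = 1
    rw [show h * D.z * h⁻¹ * (h * D.z * h⁻¹) = h * (D.z * D.z) * h⁻¹ by group, D.zz]; group)
  have hτ1 : τ ≠ 1 := fun e => D.z_ne (Subtype.ext (conj_eq_one_iff.1 (congrArg Subtype.val e :)))
  have hτz : τ ≠ D.zX := fun e => by
    have e1 : h * D.z * h⁻¹ = h * (t : G) * h⁻¹ := by rw [hh]; exact congrArg Subtype.val e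
    have e2 : D.zX = t := Subtype.ext (mul_left_cancel (mul_right_cancel e1))
    rw [← e2, D.z_comm, mul_inv_cancel_right] at htx
    have h1 : F.x * F.x = 1 := by nth_rw 2 [htx]; exact mul_inv_cancel _
    have h3 := F.x3
    rw [pow_succ, pow_two, h1, one_mul] at h3
    exact D.x_ne (le_refl 9) F.hpx F.x3 h3
  have h8 := D.invol_eight (by norm_num) (by norm_num) hτ2 hτ1 hτz
  have hinv' : ∀ (a : G) (ha : a ∈ F.Cw (t : G)), D.p τ * D.p ⟨_, hX a ha⟩ * (D.p τ)⁻¹ = (D.p ⟨_, hX a ha⟩)⁻¹ := by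
    intro a ha
    rw [← map_inv, ← map_inv, ← map_mul, ← map_mul]
    refine congrArg D.p (Subtype.ext ?_)
    show h * D.z * h⁻¹ * (h * a * h⁻¹) * (h * D.z * h⁻¹)⁻¹ = (h * a * h⁻¹)⁻¹
    rw [show h * D.z * h⁻¹ * (h * a * h⁻¹) * (h * D.z * h⁻¹)⁻¹ = h * (D.z * a * D.z⁻¹) * h⁻¹ by group, hinv a ha]
    group
  have hPQ : Commute P Q := Subtype.ext (hmn.map (MulAut.conj h).toMonoidHom).eq
  have hcube : ∀ {a : G} (hX' : h * a * h⁻¹ ∈ D.X), (∃ q : G, q * (F.x : G) * q⁻¹ = a) →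
      (⟨_, hX'⟩ : D.X) ^ 3 = 1 := by
    rintro a hX' ⟨q, rfl⟩
    refine Subtype.ext ?_
    show (h * (q * (F.x : G) * q⁻¹) * h⁻¹) ^ 3 = 1
    rw [conj_pow, conj_pow, show (F.x : G) ^ 3 = 1 from congrArg Subtype.val F.x3]
    group
  have hP3 : P ^ 3 = 1 := hcube _ ⟨k, hk⟩
  have hQ3 : Q ^ 3 = 1 := hcube _ ⟨(F.g' : G) * k, by rw [hn, ← hk]; group⟩
  have hfin : n = m ∨ n = m⁻¹ := by
    have hfix : ∀ i j, D.p τ i = i → D.p τ j = j → i = j := fun i j hi hj => by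
      have hone : ((D.p τ).supportᶜ : Finset (Fin 9)).card = 1 := by rw [Finset.card_compl, h8]; rfl
      exact Finset.card_le_one.1 hone.le i (Finset.mem_compl.2 (Perm.notMem_support.2 hi)) j
        (Finset.mem_compl.2 (Perm.notMem_support.2 hj))
    rcases three_pair hP hQ (hPQ.map D.p) (by rw [← map_mul, hτ2, map_one]) hfix (hinv' m hmt) (hinv' n hnt) with e | e
    · have e' : Q = P := D.lift_uniq (m := 3) (by decide) hQ3 hP3 e
      exact Or.inl (mul_left_cancel (mul_right_cancel (congrArg Subtype.val e' : h * n * h⁻¹ = h * m * h⁻¹)))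
    · have e' : Q = P⁻¹ := D.lift_uniq (m := 3) (by decide) hQ3 (by rw [inv_pow, hP3, inv_one]) (by rw [e, map_inv])
      refine Or.inr ?_
      have e'' : h * n * h⁻¹ = h * m⁻¹ * h⁻¹ := (congrArg Subtype.val e').trans (by
        show (h * m * h⁻¹)⁻¹ = _
        group)
      exact mul_left_cancel (mul_right_cancel e'')
  have hgg : (F.g' : G) * F.g' = D.z := congrArg Subtype.val F.g'2
  have hback : (F.g' : G) * n * (F.g' : G)⁻¹ = m⁻¹ := by
    rw [← hinv m hmt, ← hgg, hn]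
    group
  have hmm : m = m⁻¹ := by
    rcases hfin with e | e
    · rw [e] at hn hback
      rw [← hn] at hback
      exact hback
    · rw [e] at hn hback
      rw [show (F.g' : G) * m⁻¹ * (F.g' : G)⁻¹ = ((F.g' : G) * m * (F.g' : G)⁻¹)⁻¹ by group, ← hn, inv_inv] at hback
      exact hback
  exact hm1' (F.L_meet hW hm.1 (by
    have h2 : D.z * m * D.z⁻¹ = m := by rw [hm.1.2, ← hmm]
    exact (mul_inv_eq_iff_eq_mul.1 h2).symm))

end Frame

end Nine

end Cfsg.Agent.DoubleCoverDeg
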