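import Cfsg.Agent.Lib.DoubleCoverDeg.Std

/-!
S1645, degree nine: counting tools and involutions of a subgroup with one of them isolated.
-/

set_option autoImplicit false
set_option linter.style.haveILetI false
set_option linter.unusedSectionVars false
set_option linter.constructorNameAsVariable false

namespace Cfsg.Agent.DoubleCoverDeg

open Cfsg Equiv Subgroup

universe u

section Orbits

/-- A permutation of order dividing four whose square has no further fixed points moves a multiple of four. -/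
theorem four_dvd_moved {α : Type*} [Fintype α] [DecidableEq α] (σ : Perm α) (h4 : σ * σ * (σ * σ) = 1)
    (hfix : ∀ a, σ (σ a) = a → σ a = a) : 4 ∣ σ.support.card := by
  let e := Fintype.equivFin α
  let ρ : Perm (Fin (Fintype.card α)) := e.permCongrHom (σ * σ)
  have hmul : ρ * ρ = 1 := by rw [← map_mul, h4, map_one]
  have hsign : Perm.sign ρ = 1 := by
    show Perm.sign (e.permCongr (σ * σ)) = 1
    rw [Perm.sign_permCongr, map_mul, Int.units_mul_self]
  have hsupp : σ.support = (σ * σ).support := by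
    ext a
    simp only [Perm.mem_support, Perm.mul_apply]
    exact ⟨fun h h' => h (hfix a h'), fun h h' => h (by rw [h', h'])⟩
  by_cases h1 : ρ = 1
  · have : σ * σ = 1 := e.permCongrHom.injective (h1.trans (map_one _).symm)
    rw [hsupp, this, Perm.support_one, Finset.card_empty]
    exact dvd_zero 4
  · have h := four_dvd_support hmul h1 hsign
    have hc : ρ.support = (σ * σ).support.map e.toEmbedding := by
      ext a
      simp only [Perm.mem_support, Finset.mem_map_equiv, ρ]
      show e ((σ * σ) (e.symm a)) ≠ a ↔ _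
      rw [ne_eq, ← e.eq_symm_apply]
    rwa [hc, Finset.card_map, ← hsupp] at h

end Orbits

variable {G : Type u} [Group G] [Finite G]

/-- An element acting on a subgroup with no orbit of length two. -/
theorem fix_mod_four (A : Subgroup G) {g : G} (hg : ∀ a ∈ A, g * a * g⁻¹ ∈ A)
    (h4 : ∀ a ∈ A, Commute (g * g * (g * g)) a) (hfix : ∀ a ∈ A, Commute (g * g) a → Commute g a) :
    Nat.card A % 4 = Nat.card ↥(A ⊓ centralizer ({g * g} : Set G)) % 4 := by
  classical
  haveI : Fintype A := Fintype.ofFinite _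
  let σ : Equiv.Perm A := Equiv.ofBijective (fun a => ⟨g * a * g⁻¹, hg a a.2⟩)
    (Finite.injective_iff_bijective.1 fun a b h =>
      Subtype.ext (mul_left_cancel (mul_right_cancel (congrArg Subtype.val h : g * (a : G) * g⁻¹ = g * b * g⁻¹))))
  have h2 : ∀ a, ((σ (σ a) : A) : G) = g * g * a * (g * g)⁻¹ := fun a => by
    show g * (g * a * g⁻¹) * g⁻¹ = _
    group
  have key : ∀ a : A, σ a = a ↔ Commute g (a : G) := fun a =>
    ⟨fun h => mul_inv_eq_iff_eq_mul.1 (congrArg Subtype.val h),
      fun h => Subtype.ext (show g * (a : G) * g⁻¹ = a by rw [h.eq, mul_inv_cancel_right])⟩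
  have hf : ∀ a, σ (σ a) = a → σ a = a := fun a h => by
    have h' := congrArg Subtype.val h
    rw [h2] at h'
    exact (key a).2 (hfix a a.2 (mul_inv_eq_iff_eq_mul.1 h'))
  have h44 : σ * σ * (σ * σ) = 1 := Equiv.ext fun a => Subtype.ext (by
    show ((σ (σ (σ (σ a))) : A) : G) = _
    rw [h2, h2]
    calc g * g * (g * g * (a : G) * (g * g)⁻¹) * (g * g)⁻¹
        = g * g * (g * g) * (a : G) * (g * g * (g * g))⁻¹ := by group
      _ = (a : G) := by rw [(h4 a a.2).eq, mul_inv_cancel_right])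
  obtain ⟨k, hk⟩ := four_dvd_moved σ h44 hf
  have hcard : Nat.card ↥(A ⊓ centralizer ({g * g} : Set G)) = (σ.supportᶜ : Finset A).card := by
    rw [← Nat.card_eq_finsetCard]
    refine Nat.card_congr
      ⟨fun c => ⟨⟨c, c.2.1⟩, Finset.mem_compl.2 fun hm => Perm.mem_support.1 hm
        ((key _).2 (hfix _ c.2.1 (mem_centralizer_singleton_iff.1 c.2.2 : Commute (c : G) (g * g)).symm))⟩,
      fun a => ⟨((a : A) : G), (a : A).2, mem_centralizer_singleton_iff.2 (Commute.eq ?_)⟩,
      fun c => rfl, fun a => rfl⟩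
    have hga := (key a).1 (Perm.notMem_support.1 (Finset.mem_compl.1 a.2))
    exact (hga.mul_left hga).symm
  rw [hcard, Finset.card_compl, hk, ← Nat.card_eq_fintype_card]
  have : σ.support.card ≤ Nat.card A := by rw [Nat.card_eq_fintype_card]; exact Finset.card_le_univ _
  omega

/-- An element of `p`-power order normalising a `p`-group and a proper normal subgroup of it fixes a further coset. -/
theorem exists_fixed_coset {p : ℕ} [Fact p.Prime] {W C : Subgroup G} (hW : IsPGroup p W) (hCW : C ≤ W) (hne : C ≠ W)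
    (hCn : ∀ w ∈ W, ∀ c ∈ C, w * c * w⁻¹ ∈ C) {e : G} {k : ℕ} (he : e ^ p ^ k = 1)
    (heW : ∀ w ∈ W, e * w * e⁻¹ ∈ W) (heC : ∀ c ∈ C, e * c * e⁻¹ ∈ C) :
    ∃ w ∈ W, w ∉ C ∧ e * w * e⁻¹ * w⁻¹ ∈ C := by
  classical
  let Z := zpowers e
  have hZW : ∀ z : Z, ∀ w ∈ W, (z : G) * w * (z : G)⁻¹ ∈ W := fun z w hw =>
    (mem_normalizer_iff.1 ((zpowers_le.2 (mem_normalizer_fintype heW) : Z ≤ _) z.2) w).1 hw
  have hZC : ∀ z : Z, ∀ c ∈ C, (z : G) * c * (z : G)⁻¹ ∈ C := fun z c hc =>
    (mem_normalizer_iff.1 ((zpowers_le.2 (mem_normalizer_fintype heC) : Z ≤ _) z.2) c).1 hc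
  let S := C.subgroupOf W
  let f : Z → W → W := fun z w => ⟨(z : G) * w * (z : G)⁻¹, hZW z w w.2⟩
  letI : MulAction Z (W ⧸ S) := {
    smul := fun z => Quotient.map' (f z) fun a b hab => by
      rw [QuotientGroup.leftRel_apply, mem_subgroupOf] at hab ⊢
      have := hZC z _ hab
      simpa [f, mul_assoc] using this
    one_smul := fun q => by
      induction q using Quotient.inductionOn' with
      | _ w => exact congrArg (Quotient.mk'') (Subtype.ext (by simp [f]))
    mul_smul := fun z z' q => by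
      induction q using Quotient.inductionOn' with
      | _ w => exact congrArg (Quotient.mk'') (Subtype.ext (by simp [f, mul_assoc])) }
  have hZp : IsPGroup p Z := fun z => by
    obtain ⟨i, hi⟩ := mem_zpowers_iff.1 z.2
    refine ⟨k, Subtype.ext ?_⟩
    rw [SubmonoidClass.coe_pow, ← hi, ← zpow_natCast, ← zpow_mul, mul_comm, zpow_mul, zpow_natCast, he,
      one_zpow, OneMemClass.coe_one]
  have hone : (QuotientGroup.mk (1 : W) : W ⧸ S) ∈ MulAction.fixedPoints Z (W ⧸ S) := fun z =>
    congrArg (Quotient.mk'') (Subtype.ext (by simp [f]))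
  have hp : p ∣ Nat.card (W ⧸ S) := by
    obtain ⟨i, hi⟩ := IsPGroup.iff_card.1 hW
    obtain ⟨j, -, hj⟩ := (Nat.dvd_prime_pow Fact.out).1 (hi ▸ (S.index_dvd_card : S.index ∣ Nat.card W))
    rcases j with _ | j
    · rw [pow_zero] at hj
      exact absurd (le_antisymm hCW (subgroupOf_eq_top.1 (index_eq_one.1 hj))) hne
    · rw [← index_eq_card, hj]; exact dvd_pow_self p (Nat.succ_ne_zero j)
  obtain ⟨q, hq, hne1⟩ := hZp.exists_fixed_point_of_prime_dvd_card_of_fixed_point (W ⧸ S) hp hone
  induction q using QuotientGroup.induction_on with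
  | H w =>
    refine ⟨w, w.2, fun hwC => hne1 (QuotientGroup.eq.2 (by simpa [S, mem_subgroupOf] using hwC)), ?_⟩
    have h1 := QuotientGroup.eq.1 (hq ⟨e, mem_zpowers e⟩)
    rw [mem_subgroupOf] at h1
    have h2 : (e * (w : G) * e⁻¹)⁻¹ * w ∈ C := by simpa [f] using h1
    have h3 := hCn _ w.2 _ (C.inv_mem h2)
    rwa [show (w : G) * ((e * (w : G) * e⁻¹)⁻¹ * w)⁻¹ * (w : G)⁻¹ = e * w * e⁻¹ * (w : G)⁻¹ * 1 by group,
      mul_one] at h3

section Isolated

variable {Y : Subgroup G} {z : G} (hz : z * z = 1) (hzY : z ∈ Y)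
  (honly : ∀ v ∈ Y, v * v = 1 → v ≠ 1 → Commute v z → v = z)
include hz hzY honly

/-- All involutions of the subgroup are conjugate inside it to the only one fixed by itself. -/
theorem only_conj {v : G} (hv : v ∈ Y) (hv2 : v * v = 1) (hv1 : v ≠ 1) : ∃ h ∈ Y, h * z * h⁻¹ = v := by
  by_contra hcon
  obtain ⟨i, hi2, hi1, hiz, hiv⟩ := SuzRecog.dihedral_invol (x := (⟨z, hzY⟩ : Y)) (y := ⟨v, hv⟩) (Subtype.ext hz)
    (Subtype.ext hv2) fun h => by
      obtain ⟨k, hk⟩ := isConj_iff.1 h
      exact hcon ⟨k, k.2, congrArg Subtype.val hk⟩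
  have e := honly i i.2 (congrArg Subtype.val hi2) (fun e => hi1 (Subtype.ext e)) (congrArg Subtype.val hiz)
  have h1 : Commute v z := by
    have := congrArg Subtype.val hiv
    simp only [Subgroup.coe_mul, e] at this
    exact (show z * v = v * z from this).symm
  exact hcon ⟨1, one_mem _, by rw [honly v hv hv2 hv1 h1]; group⟩

/-- No two of its involutions commute. -/
theorem only_comm {v w : G} (hv : v ∈ Y) (hv2 : v * v = 1) (hv1 : v ≠ 1) (hw : w ∈ Y) (hw2 : w * w = 1)
    (hw1 : w ≠ 1) (hc : Commute v w) : v = w := by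
  obtain ⟨h, hh, rfl⟩ := only_conj hz hzY honly hv hv2 hv1
  have e := honly (h⁻¹ * w * h) (Y.mul_mem (Y.mul_mem (Y.inv_mem hh) hw) hh)
    (by rw [show h⁻¹ * w * h * (h⁻¹ * w * h) = h⁻¹ * (w * w) * h by group, hw2]; group)
    (fun e => hw1 (by rw [show w = h * (h⁻¹ * w * h) * h⁻¹ by group, e]; group)) ?_
  · rw [← e]; group
  · show _ = _
    calc h⁻¹ * w * h * z = h⁻¹ * (w * (h * z * h⁻¹)) * h := by group
      _ = h⁻¹ * (h * z * h⁻¹ * w) * h := by rw [hc.eq]
      _ = _ := by group

end Isolated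

end Cfsg.Agent.DoubleCoverDeg
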