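import Cfsg.Agent.Lib.DoubleCoverDeg.NineCore

/-!
S1645, degree nine, large core: the part of the core fixed by the other lifts.
-/

set_option autoImplicit false
set_option linter.style.haveILetI false
set_option linter.unusedSectionVars false
set_option linter.constructorNameAsVariable false

namespace Cfsg.Agent.DoubleCoverDeg

open Cfsg Equiv Subgroup
open Ctx (c0)

universe u

variable {G : Type u} [Group G] [Finite G]

namespace Nine.Frame

variable {D : Ctx G 9} (F : Frame D)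

/-- The odd core of the centraliser of the first lift. -/
def W : Subgroup G := oddCen (F.x : G)

/-- Its part fixed by an element. -/
def Cw (e : G) : Subgroup G := F.W ⊓ centralizer ({e} : Set G)

theorem mem_Cw {e w : G} : w ∈ F.Cw e ↔ w ∈ F.W ∧ Commute w e :=
  ⟨fun h => ⟨h.1, mem_centralizer_singleton_iff.1 h.2⟩, fun h => ⟨h.1, mem_centralizer_singleton_iff.2 h.2.eq⟩⟩

theorem hpx : D.p F.x = Ctx.emb (le_refl 9) c0 := D.hX F.px

theorem W_conj {k : D.X} (hk : Commute k F.x) {w : G} (hw : w ∈ F.W) : (k : G) * w * (k : G)⁻¹ ∈ F.W :=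
  oddCen_normal (Ctx.val_comm D hk) hw

theorem W_comm_x {w : G} (hw : w ∈ F.W) : Commute w (F.x : G) := oddCen_comm hw

/-- An element of exponent three outside the first three-cycle, inverted by the standard element. -/
structure Mov (e : D.X) : Prop where
  cube : e ^ 3 = 1
  comm : Commute e F.x
  inv : F.g * e * F.g⁻¹ = e⁻¹
  moves : ∃ i : Fin 9, 3 ≤ (i : ℕ) ∧ D.p e i ≠ i
  comm1 : Commute e F.e1

theorem mov_el {a b : Fin 3} (h : (a, b) ≠ (0, 0)) : F.Mov (F.el (0, a, b)) := by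
  refine ⟨F.el_cube _, F.el_x ▸ F.el_comm _ _, ?_, ?_, F.el_1 ▸ F.el_comm _ _⟩
  · simp only [el, Fin.val_zero, pow_zero, one_mul]
    rw [show F.g * (F.e1 ^ (a : ℕ) * F.e2 ^ (b : ℕ)) * F.g⁻¹ =
      (F.g * F.e1 ^ (a : ℕ) * F.g⁻¹) * (F.g * F.e2 ^ (b : ℕ) * F.g⁻¹) by group, ← conj_pow, ← conj_pow,
      F.g_1, F.g_2, mul_inv_rev, inv_pow, inv_pow]
    exact ((F.comm12.pow_pow _ _).inv_left.inv_right).eq
  · rw [F.p_el]
    exact (show ∀ a b : Fin 3, (a, b) ≠ (0, 0) → ∃ i : Fin 9, 3 ≤ (i : ℕ) ∧ cpow (0, a, b) i ≠ i by decide +kernel)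
      a b h

theorem mov1 : F.Mov F.e1 := F.el_1 ▸ F.mov_el (by decide)
theorem mov2 : F.Mov F.e2 := F.el_2 ▸ F.mov_el (by decide)

theorem g_comm_x : Commute F.g F.x := mul_inv_eq_iff_eq_mul.1 F.g_x

theorem u_conj_u {g : G} : (F.u : G) * ((F.u : G) * g * (F.u : G)⁻¹) * (F.u : G)⁻¹ = g := by
  rw [show (F.u : G) * ((F.u : G) * g * (F.u : G)⁻¹) * (F.u : G)⁻¹ =
    ((F.u : G) * F.u) * g * ((F.u : G) * F.u)⁻¹ by group, F.uu]
  group

variable [IsSimpleGroup G]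

theorem W_meet {w : G} (hw : w ∈ F.W) (hz : Commute w D.z) : w ∈ zpowers (F.x : G) :=
  D.oddCen_meet (le_refl 9) (by norm_num) F.hpx F.x3 hw hz

theorem x_mem_W : (F.x : G) ∈ F.W := D.x_mem (le_refl 9) (by norm_num) F.hpx F.x3

theorem Z_le_W : zpowers (F.x : G) ≤ F.W := zpowers_le.2 F.x_mem_W

theorem W_inverted {w : G} (hw : w ∈ F.W) : ∃ f ∈ zpowers (F.x : G), D.z * w * D.z⁻¹ = f * w⁻¹ :=
  D.oddCen_inverted (le_refl 9) (by norm_num) F.hpx F.x3 hw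

theorem W_commutator {v w : G} (hv : v ∈ F.W) (hw : w ∈ F.W) : v * w * v⁻¹ * w⁻¹ ∈ zpowers (F.x : G) :=
  D.oddCen_commutator (le_refl 9) (by norm_num) F.hpx F.x3 hv hw

theorem Z_central {w f : G} (hw : w ∈ F.W) (hf : f ∈ zpowers (F.x : G)) : Commute w f :=
  D.x_central (le_refl 9) (by norm_num) F.hpx F.x3 hw hf

theorem Z_cube {f : G} (hf : f ∈ zpowers (F.x : G)) : f ^ 3 = 1 :=
  F.E_cube (zpowers_le.2 F.x_mem_E hf)

theorem Z_comm_z {f : G} (hf : f ∈ zpowers (F.x : G)) : Commute f D.z :=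
  mem_centralizer_singleton_iff.1 (zpowers_le.2 F.x.2 hf)

theorem x_ord : orderOf (F.x : G) = 3 :=
  orderOf_eq_prime (congrArg Subtype.val F.x3) fun e => D.x_ne (le_refl 9) F.hpx F.x3 (Subtype.ext e)

/-- **The core is the powers of the lift, or has order `243` with two fixed parts of order nine.** -/
theorem W_cases : F.W = zpowers (F.x : G) ∨ (Nat.card F.W = 243 ∧ Nat.card (F.Cw (F.b : G)) = 9 ∧
    Nat.card (F.Cw ((D.zX * F.b : D.X) : G)) = 9) := by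
  have hbk : Commute (F.e1 * F.e2) F.b := by
    refine (mul_inv_eq_iff_eq_mul.1 ?_ : F.b * (F.e1 * F.e2) = F.e1 * F.e2 * F.b).symm
    rw [show F.b * (F.e1 * F.e2) * F.b⁻¹ = (F.b * F.e1 * F.b⁻¹) * (F.b * F.e2 * F.b⁻¹) by group, F.b_1, F.b_2,
      F.comm12.eq]
  rcases D.core_cases (le_refl 9) (by norm_num) F.hpx F.x3 F.b2 F.b_x F.g'2 F.g'b (mul_inv_eq_iff_eq_mul.1 F.g'_x)
      (k := F.e1 * F.e2) (by rw [F.comm12.mul_pow, F.e13, F.e23, one_mul])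
      (F.comm01.symm.mul_left F.comm02.symm) hbk
      (by rw [map_mul, F.p1, F.p2]; exact ⟨3, le_refl _, by decide +kernel⟩) with h | ⟨-, h1, h2, h3⟩
  · exact Or.inl h
  · exact Or.inr ⟨h1, h2, h3⟩

variable (hW : Nat.card F.W = 243)
include hW

theorem W_pow {w : G} (hw : w ∈ F.W) : w ^ 243 = 1 :=
  hW ▸ orderOf_dvd_iff_pow_eq_one.1 (orderOf_dvd_natCard _ hw)

theorem W_three : IsPGroup 3 F.W := IsPGroup.of_card (n := 5) (by rw [hW]; norm_num)

theorem Z_ne : zpowers (F.x : G) ≠ F.W := fun e => by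
  rw [← e, Nat.card_zpowers, F.x_ord] at hW
  norm_num at hW

/-- A subgroup of the core invariant under the standard element has order an odd power of three. -/
theorem card_cases (A : Subgroup G) (hA : A ≤ F.W) (hx : (F.x : G) ∈ A)
    (hg : ∀ a ∈ A, (F.g : G) * a * (F.g : G)⁻¹ ∈ A) :
    A = zpowers (F.x : G) ∨ Nat.card A = 27 ∨ A = F.W := by
  classical
  haveI : Fact (Nat.Prime 3) := ⟨Nat.prime_three⟩
  have hsq : (F.g : G) * F.g = D.z := congrArg Subtype.val F.g2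
  have hz : A ⊓ centralizer ({(F.g : G) * F.g} : Set G) = zpowers (F.x : G) := le_antisymm
    (fun a ha => F.W_meet (hA ha.1) (hsq ▸ mem_centralizer_singleton_iff.1 ha.2))
    (zpowers_le.2 ⟨hx, mem_centralizer_singleton_iff.2 (by rw [hsq]; exact (D.z_commG F.x).eq.symm)⟩)
  have h4 := fix_mod_four A hg (fun a _ => by rw [hsq, D.zz]; exact Commute.one_left a) fun a ha hc => by
    rw [hsq] at hc
    obtain ⟨i, rfl⟩ := mem_zpowers_iff.1 (F.W_meet (hA ha) hc.symm)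
    exact (Ctx.val_comm D F.g_comm_x).zpow_right i
  rw [hz, Nat.card_zpowers, F.x_ord] at h4
  obtain ⟨k, hk⟩ := IsPGroup.iff_card.1 ((F.W_three hW).to_le hA)
  have hk5 : k ≤ 5 := (Nat.pow_dvd_pow_iff_le_right (x := 3) (by norm_num)).1
    (by rw [← hk, show (3 : ℕ) ^ 5 = Nat.card F.W by rw [hW]; norm_num]; exact card_dvd_of_le hA)
  rw [hk] at h4 ⊢
  interval_cases k <;> revert h4 <;> norm_num
  · exact Or.inl (eq_of_le_of_card_ge (zpowers_le.2 hx)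
      (le_of_eq (by simp [hk, F.x_ord]))).symm
  · exact Or.inr (eq_of_le_of_card_ge hA (le_of_eq (by simp [hk, hW])))

omit hW in
theorem g_Cw {e : D.X} (he : F.Mov e) {a : G} (ha : a ∈ F.Cw e) : (F.g : G) * a * (F.g : G)⁻¹ ∈ F.Cw e := by
  rw [mem_Cw] at ha ⊢
  refine ⟨F.W_conj F.g_comm_x ha.1, ?_⟩
  have h2 := ha.2.map (MulAut.conj (F.g : G)).toMonoidHom
  rw [show (MulAut.conj (F.g : G)).toMonoidHom (e : G) = (e : G)⁻¹ from congrArg Subtype.val he.inv] at h2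
  simpa using h2.inv_right

omit hW in
theorem x_mem_Cw {e : D.X} (he : F.Mov e) : (F.x : G) ∈ F.Cw e :=
  (F.mem_Cw).2 ⟨F.x_mem_W, Ctx.val_comm D he.comm.symm⟩

/-- An element with a fixed coset of the powers of the lift fixes it pointwise. -/
theorem no_shift {e : D.X} (he : F.Mov e) {w : G} (hw : w ∈ F.W)
    (h : (e : G) * w * (e : G)⁻¹ * w⁻¹ ∈ zpowers (F.x : G)) : Commute w (e : G) := by
  set c := (e : G) * w * (e : G)⁻¹ * w⁻¹ with hc
  obtain ⟨f, hf, ef⟩ := F.W_inverted hw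
  have hef : Commute (e : G) f := by
    obtain ⟨i, rfl⟩ := mem_zpowers_iff.1 hf
    exact (Ctx.val_comm D he.comm).zpow_right i
  have hez : Commute (e : G) D.z := (D.z_commG e).symm
  have e1 : (e : G) * w * (e : G)⁻¹ = c * w := by rw [hc]; group
  have e2 : (e : G) * (D.z * w * D.z⁻¹) * (e : G)⁻¹ = D.z * ((e : G) * w * (e : G)⁻¹) * D.z⁻¹ := by
    rw [show (e : G) * (D.z * w * D.z⁻¹) * (e : G)⁻¹ = ((e : G) * D.z) * w * ((e : G) * D.z)⁻¹ by group, hez.eq]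
    group
  rw [e1, show D.z * (c * w) * D.z⁻¹ = (D.z * c * D.z⁻¹) * (D.z * w * D.z⁻¹) by group, (F.Z_comm_z h).symm.eq,
    mul_inv_cancel_right, ef, show (e : G) * (f * w⁻¹) * (e : G)⁻¹ = ((e : G) * f * (e : G)⁻¹) *
      ((e : G) * w * (e : G)⁻¹)⁻¹ by group, e1, hef.eq, mul_inv_cancel_right] at e2
  have hcf : Commute c f := F.Z_central (F.Z_le_W h) hf
  have hcw : Commute w c := F.Z_central hw h
  have h2 : c = c⁻¹ := by
    calc c = c * (f * w⁻¹) * (f * w⁻¹)⁻¹ := by group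
      _ = f * (c * w)⁻¹ * (f * w⁻¹)⁻¹ := by rw [← e2]
      _ = f * (w * c)⁻¹ * (f * w⁻¹)⁻¹ := by rw [hcw.eq]
      _ = f * c⁻¹ * f⁻¹ := by group
      _ = c⁻¹ := by rw [hcf.inv_left.symm.eq, mul_inv_cancel_right]
  have h1 : c = 1 := by
    calc c = c ^ 3 * (c * c)⁻¹ := by group
      _ = 1 := by rw [F.Z_cube h, one_mul]; nth_rw 2 [h2]; rw [mul_inv_cancel, inv_one]
  rw [h1, one_mul] at e1
  exact (mul_inv_eq_iff_eq_mul.1 e1).symm

omit hW in
theorem pow3 {e : D.X} (he : F.Mov e) : (e : G) ^ 3 ^ 1 = 1 := congrArg Subtype.val he.cube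

omit hW in
theorem Z_fixed {e : D.X} (he : F.Mov e) {c : G} (hc : c ∈ zpowers (F.x : G)) :
    (e : G) * c * (e : G)⁻¹ ∈ zpowers (F.x : G) := by
  obtain ⟨i, rfl⟩ := mem_zpowers_iff.1 hc
  rw [((Ctx.val_comm D he.comm).zpow_right i).eq, mul_inv_cancel_right]
  exact hc

theorem card_Cw {e : D.X} (he : F.Mov e) : Nat.card (F.Cw e) = 27 := by
  classical
  haveI : Fact (Nat.Prime 3) := ⟨Nat.prime_three⟩
  rcases F.card_cases hW _ inf_le_left (F.x_mem_Cw he) (fun a => F.g_Cw he) with h | h | h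
  · exfalso
    obtain ⟨w, hw, hwn, hc⟩ := exists_fixed_coset (F.W_three hW) F.Z_le_W (F.Z_ne hW)
      (fun w hw c hc => by rwa [(F.Z_central hw hc).eq, mul_inv_cancel_right]) (F.pow3 he)
      (fun w => F.W_conj he.comm) (fun c => F.Z_fixed he)
    exact hwn (h ▸ (F.mem_Cw).2 ⟨hw, F.no_shift hW he hw hc⟩)
  · exact h
  · exfalso
    have hf := D.faithful (le_refl 9) F.hpx F.x3 F.W (fun k hk u hu => F.W_conj hk hu) (c := e) (m := 3) (by decide)
      he.cube he.comm he.moves (fun u hu => ((F.mem_Cw).1 (h.ge hu)).2.symm)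
    exact F.Z_ne hW (le_antisymm F.Z_le_W fun u hu => F.W_meet hu (hf u hu).symm)

omit hW in
theorem Cw_normal {e : D.X} (he : F.Mov e) {v c : G} (hv : v ∈ F.W) (hc : c ∈ F.Cw e) :
    v * c * v⁻¹ ∈ F.Cw e := by
  rw [show v * c * v⁻¹ = (v * c * v⁻¹ * c⁻¹) * c by group]
  exact (F.Cw e).mul_mem (zpowers_le.2 (F.x_mem_Cw he) (F.W_commutator hv hc.1)) hc

omit hW in
theorem e_Cw {e : D.X} {c : G} (hc : c ∈ F.Cw e) : (e : G) * c * (e : G)⁻¹ ∈ F.Cw e := by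
  rwa [((F.mem_Cw).1 hc).2.symm.eq, mul_inv_cancel_right]

/-- **The other lifts move the core into their fixed part.** -/
theorem mov_shift {e : D.X} (he : F.Mov e) {w : G} (hw : w ∈ F.W) :
    (e : G) * w * (e : G)⁻¹ * w⁻¹ ∈ F.Cw e := by
  classical
  haveI : Fact (Nat.Prime 3) := ⟨Nat.prime_three⟩
  let S : Subgroup G :=
  { carrier := {v | v ∈ F.W ∧ (e : G) * v * (e : G)⁻¹ * v⁻¹ ∈ F.Cw e}
    one_mem' := ⟨one_mem _, by simp⟩
    mul_mem' := fun {a b} ha hb => ⟨mul_mem ha.1 hb.1, by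
      rw [show (e : G) * (a * b) * (e : G)⁻¹ * (a * b)⁻¹ = ((e : G) * a * (e : G)⁻¹ * a⁻¹) *
        (a * ((e : G) * b * (e : G)⁻¹ * b⁻¹) * a⁻¹) by group]
      exact (F.Cw e).mul_mem ha.2 (F.Cw_normal he ha.1 hb.2)⟩
    inv_mem' := fun {a} ha => ⟨inv_mem ha.1, by
      rw [show (e : G) * a⁻¹ * (e : G)⁻¹ * a⁻¹⁻¹ = a⁻¹ * ((e : G) * a * (e : G)⁻¹ * a⁻¹)⁻¹ * a⁻¹⁻¹ by group]
      exact F.Cw_normal he (inv_mem ha.1) ((F.Cw e).inv_mem ha.2)⟩ }
  have hCS : F.Cw e ≤ S := fun c hc => ⟨hc.1, (F.Cw e).mul_mem (F.e_Cw hc) ((F.Cw e).inv_mem hc)⟩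
  have hgS : ∀ a ∈ S, (F.g : G) * a * (F.g : G)⁻¹ ∈ S := by
    rintro a ⟨ha1, ha2⟩
    refine ⟨F.W_conj F.g_comm_x ha1, ?_⟩
    set c := (e : G) * a * (e : G)⁻¹ * a⁻¹ with hc
    have hi : (F.g : G) * e * (F.g : G)⁻¹ = (e : G)⁻¹ := congrArg Subtype.val he.inv
    have hgg : (e : G) * (F.g : G) = (F.g : G) * (e : G)⁻¹ := by
      calc (e : G) * (F.g : G) = ((F.g : G) * e * (F.g : G)⁻¹)⁻¹ * (F.g : G) := by rw [hi, inv_inv]
        _ = _ := by group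
    rw [show (e : G) * ((F.g : G) * a * (F.g : G)⁻¹) * (e : G)⁻¹ * ((F.g : G) * a * (F.g : G)⁻¹)⁻¹ =
      ((e : G) * (F.g : G)) * a * ((e : G) * (F.g : G))⁻¹ * (F.g : G) * a⁻¹ * (F.g : G)⁻¹ by group, hgg,
      show (F.g : G) * (e : G)⁻¹ * a * ((F.g : G) * (e : G)⁻¹)⁻¹ * (F.g : G) * a⁻¹ * (F.g : G)⁻¹ =
        (F.g : G) * ((e : G)⁻¹ * c⁻¹ * e) * (F.g : G)⁻¹ by rw [hc]; group]
    have hce : Commute c⁻¹ (e : G) := ((F.mem_Cw).1 ha2).2.inv_left
    rw [mul_assoc _ c⁻¹, hce.eq, inv_mul_cancel_left]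
    exact F.g_Cw he ((F.Cw e).inv_mem ha2)
  rcases F.card_cases hW S (fun v hv => hv.1) (hCS (F.x_mem_Cw he)) hgS with h | h | h
  · exfalso
    have h1 := card_dvd_of_le hCS
    rw [h, F.card_Cw hW he, Nat.card_zpowers, F.x_ord] at h1
    norm_num at h1
  · exfalso
    obtain ⟨v, hv, hvn, hc⟩ := exists_fixed_coset (F.W_three hW) (inf_le_left : F.Cw e ≤ F.W)
      (fun h' => by
        have h2 := F.card_Cw hW he
        rw [show F.Cw (e : G) = F.W from h', hW] at h2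
        norm_num at h2)
      (fun w hw c hc => F.Cw_normal he hw hc) (F.pow3 he)
      (fun w => F.W_conj he.comm) (fun c hc => F.e_Cw hc)
    exact hvn ((eq_of_le_of_card_ge hCS (le_of_eq (h.trans (F.card_Cw hW he).symm))).ge ⟨hv, hc⟩)
  · exact (h.ge hw).2

/-- **All the other lifts have the same fixed part.** -/
theorem Cw_eq {e : D.X} (he : F.Mov e) : F.Cw e = F.Cw F.e1 := by
  classical
  haveI : Fact (Nat.Prime 3) := ⟨Nat.prime_three⟩
  set A := F.Cw e ⊓ F.Cw F.e1 with hA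
  rcases F.card_cases hW A (fun a ha => ha.1.1) ⟨F.x_mem_Cw he, F.x_mem_Cw F.mov1⟩
    (fun a ha => ⟨F.g_Cw he ha.1, F.g_Cw F.mov1 ha.2⟩) with h | h | h
  · exfalso
    have hne : zpowers (F.x : G) ≠ F.Cw F.e1 := fun e => by
      have h2 := F.card_Cw hW F.mov1
      rw [← e, Nat.card_zpowers, F.x_ord] at h2
      norm_num at h2
    obtain ⟨w, hw, hwn, hc⟩ := exists_fixed_coset ((F.W_three hW).to_le inf_le_left)
      (zpowers_le.2 (F.x_mem_Cw F.mov1)) hne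
      (fun w hw c hc => by rwa [(F.Z_central hw.1 hc).eq, mul_inv_cancel_right]) (F.pow3 he)
      (fun w hw => (F.mem_Cw).2 ⟨F.W_conj he.comm hw.1, by
        have h2 := ((F.mem_Cw).1 hw).2.map (MulAut.conj (e : G)).toMonoidHom
        rw [show (MulAut.conj (e : G)).toMonoidHom (F.e1 : G) = F.e1 by
          show (e : G) * F.e1 * (e : G)⁻¹ = F.e1
          rw [(Ctx.val_comm D he.comm1).eq, mul_inv_cancel_right]] at h2
        exact h2⟩)
      (fun c => F.Z_fixed he)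
    exact hwn (h ▸ ⟨(F.mem_Cw).2 ⟨hw.1, F.no_shift hW he hw.1 hc⟩, hw⟩)
  · exact (eq_of_le_of_card_ge (inf_le_left : A ≤ _) (le_of_eq (by rw [h, F.card_Cw hW he]))).symm.trans
      (eq_of_le_of_card_ge (inf_le_right : A ≤ _) (le_of_eq (by rw [h, F.card_Cw hW F.mov1])))
  · exfalso
    have h2 : Nat.card A ∣ Nat.card (F.Cw (e : G)) := card_dvd_of_le inf_le_left
    rw [h, hW, F.card_Cw hW he] at h2
    norm_num at h2

/-- The first lift's core contains what the involution inverts in its fixed part. -/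
theorem l_conj_u {l : G} (hl : l ∈ F.Cw F.e1) (hz : D.z * l * D.z⁻¹ = l⁻¹) :
    (F.u : G) * l * (F.u : G)⁻¹ ∈ F.Cw F.e1 ∧
      D.z * ((F.u : G) * l * (F.u : G)⁻¹) * D.z⁻¹ = ((F.u : G) * l * (F.u : G)⁻¹)⁻¹ := by
  obtain ⟨hlW, hl1⟩ := (F.mem_Cw).1 hl
  have huz : Commute (F.u : G) D.z := (D.z_commG F.u).symm
  set m := (F.u : G) * l * (F.u : G)⁻¹ with hm
  have hmz : D.z * m * D.z⁻¹ = m⁻¹ := by
    rw [hm, show D.z * ((F.u : G) * l * (F.u : G)⁻¹) * D.z⁻¹ = (D.z * (F.u : G)) * l * (D.z * (F.u : G))⁻¹ by group,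
      ← huz.eq, show (F.u : G) * D.z * l * ((F.u : G) * D.z)⁻¹ = (F.u : G) * (D.z * l * D.z⁻¹) * (F.u : G)⁻¹ by group,
      hz]
    group
  have hmx : Commute m (F.x : G) := by
    have h2 := hl1.map (MulAut.conj (F.u : G)).toMonoidHom
    rw [show (MulAut.conj (F.u : G)).toMonoidHom (F.e1 : G) = F.x from Ctx.val_conj D F.u_1] at h2
    exact h2
  have hm1 : Commute m (F.e1 : G) := by
    have h2 := (F.W_comm_x hlW).map (MulAut.conj (F.u : G)).toMonoidHom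
    rw [show (MulAut.conj (F.u : G)).toMonoidHom (F.x : G) = F.e1 from Ctx.val_conj D F.u_x] at h2
    exact h2
  refine ⟨(F.mem_Cw).2 ⟨?_, hm1⟩, hmz⟩
  obtain ⟨w, hw, c, hcx, hwc⟩ := D.cen_split (le_refl 9) F.hpx F.x3 (by norm_num) hmx
  change w ∈ F.W at hw
  have hcz : Commute D.z (c : G) := D.z_commG c
  have hzw : D.z * w * D.z⁻¹ ∈ F.W := F.W_conj (k := D.zX) (D.z_comm F.x) hw
  have hz1 : D.z * w * D.z⁻¹ * (c : G) = (c : G)⁻¹ * w⁻¹ := by
    calc D.z * w * D.z⁻¹ * (c : G) = D.z * w * D.z⁻¹ * (D.z * c * D.z⁻¹) := by rw [hcz.eq, mul_inv_cancel_right]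
      _ = D.z * m * D.z⁻¹ := by rw [hwc]; group
      _ = _ := by rw [hmz, hwc, mul_inv_rev]
  have hcc : (c : G) * c ∈ F.W := by
    have e : (c : G) * c = (c : G) * (D.z * w * D.z⁻¹)⁻¹ * (c : G)⁻¹ * w⁻¹ := by
      calc (c : G) * c = (c : G) * (D.z * w * D.z⁻¹)⁻¹ * (D.z * w * D.z⁻¹ * (c : G)) := by group
        _ = _ := by rw [hz1]; group
    rw [e]
    exact mul_mem (F.W_conj hcx (inv_mem hzw)) (inv_mem hw)
  have hmm : m * m ∈ F.W := by
    rw [hwc, show w * (c : G) * (w * c) = w * ((c : G) * w * (c : G)⁻¹) * (c * c) by group]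
    exact mul_mem (mul_mem hw (F.W_conj hcx hw)) hcc
  have h243 : m ^ 243 = 1 := by rw [hm, conj_pow, F.W_pow hW hlW, mul_one, mul_inv_cancel]
  have : m = ((m * m) ^ 121)⁻¹ := by
    refine eq_inv_of_mul_eq_one_right ?_
    rw [← pow_two, ← pow_mul, ← pow_succ, h243]
  rw [this]
  exact inv_mem (pow_mem hmm _)

omit hW in
theorem Z_meet_conj {f : G} (hf : f ∈ zpowers (F.x : G))
    (hf' : (F.u : G) * f * (F.u : G)⁻¹ ∈ zpowers (F.x : G)) : f = 1 := by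
  classical
  obtain ⟨a, ha⟩ : ∃ a : Fin 3, f = (F.el (a, 0, 0) : G) := by
    rw [mem_zpowers_iff_mem_range_orderOf] at hf
    obtain ⟨i, hi, rfl⟩ := Finset.mem_image.1 hf
    rw [Finset.mem_range, F.x_ord] at hi
    exact ⟨⟨i, hi⟩, by simp [el]⟩
  obtain ⟨a', ha'⟩ : ∃ a : Fin 3, (F.u : G) * f * (F.u : G)⁻¹ = (F.el (a, 0, 0) : G) := by
    rw [mem_zpowers_iff_mem_range_orderOf] at hf'
    obtain ⟨i, hi, e⟩ := Finset.mem_image.1 hf'
    rw [Finset.mem_range, F.x_ord] at hi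
    exact ⟨⟨i, hi⟩, by rw [← e]; simp [el]⟩
  have e : F.u * F.el (a, 0, 0) * F.u⁻¹ = F.el (a', 0, 0) := Subtype.ext (by rw [← ha', ha]; rfl)
  simp only [el, Fin.val_zero, pow_zero, mul_one] at e
  rw [← conj_pow, F.u_x] at e
  have e' : F.el (0, a, 0) = F.el (a', 0, 0) := by simpa [el] using e
  obtain ⟨-, h2, -⟩ : (0 : Fin 3) = a' ∧ a = (0 : Fin 3) ∧ (0 : Fin 3) = 0 := by
    simpa [Prod.ext_iff] using F.el_injective e'
  rw [ha, h2]
  exact congrArg Subtype.val F.el_zero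

/-- The inverted part of the fixed part. -/
def L : Subgroup G where
  carrier := {l | l ∈ F.Cw F.e1 ∧ D.z * l * D.z⁻¹ = l⁻¹}
  one_mem' := ⟨one_mem _, by simp⟩
  inv_mem' := fun {l} ⟨h1, h2⟩ => ⟨(F.Cw F.e1).inv_mem h1, by
    rw [show D.z * l⁻¹ * D.z⁻¹ = (D.z * l * D.z⁻¹)⁻¹ by group, h2]⟩
  mul_mem' := fun {l m} ⟨h1, h2⟩ ⟨h3, h4⟩ => ⟨(F.Cw F.e1).mul_mem h1 h3, by
    have hc := F.W_commutator h1.1 h3.1
    have hu1 := F.l_conj_u hW h1 h2
    have hu3 := F.l_conj_u hW h3 h4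
    have hc' : (F.u : G) * (l * m * l⁻¹ * m⁻¹) * (F.u : G)⁻¹ ∈ zpowers (F.x : G) := by
      rw [show (F.u : G) * (l * m * l⁻¹ * m⁻¹) * (F.u : G)⁻¹ = ((F.u : G) * l * (F.u : G)⁻¹) *
        ((F.u : G) * m * (F.u : G)⁻¹) * ((F.u : G) * l * (F.u : G)⁻¹)⁻¹ * ((F.u : G) * m * (F.u : G)⁻¹)⁻¹ by group]
      exact F.W_commutator hu1.1.1 hu3.1.1
    have hlm : l * m = m * l := by
      have := F.Z_meet_conj hc hc'
      rwa [mul_inv_eq_one, mul_inv_eq_iff_eq_mul] at this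
    rw [show D.z * (l * m) * D.z⁻¹ = (D.z * l * D.z⁻¹) * (D.z * m * D.z⁻¹) by group, h2, h4, ← mul_inv_rev, hlm]⟩

theorem mem_L {l : G} : l ∈ F.L hW ↔ l ∈ F.Cw F.e1 ∧ D.z * l * D.z⁻¹ = l⁻¹ := Iff.rfl

theorem L_le_W : F.L hW ≤ F.W := fun _ h => h.1.1

theorem L_comm {l m : G} (hl : l ∈ F.L hW) (hm : m ∈ F.L hW) : Commute l m := by
  have h := ((F.L hW).mul_mem hl hm).2
  rw [show D.z * (l * m) * D.z⁻¹ = (D.z * l * D.z⁻¹) * (D.z * m * D.z⁻¹) by group, hl.2, hm.2, ← mul_inv_rev,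
    inv_inj] at h
  exact h.symm

theorem L_commE {l e : G} (hl : l ∈ F.L hW) (he : e ∈ F.E) : Commute l e := by
  obtain ⟨v, rfl⟩ := he
  have h2 : Commute l (F.e2 : G) := by
    have h : l ∈ F.Cw F.e2 := (F.Cw_eq hW F.mov2).symm ▸ hl.1
    exact ((F.mem_Cw).1 h).2
  simp only [el, Subgroup.coe_mul, SubmonoidClass.coe_pow]
  exact (((F.W_comm_x hl.1.1).pow_right _).mul_right (((F.mem_Cw).1 hl.1).2.pow_right _)).mul_right (h2.pow_right _)

theorem L_meet {l : G} (hl : l ∈ F.L hW) (hz : Commute l D.z) : l = 1 := by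
  have h1 : D.z * l * D.z⁻¹ = l := by rw [← hz.eq, mul_inv_cancel_right]
  have h2 : l * l = 1 := by nth_rw 2 [← h1]; rw [hl.2, mul_inv_cancel]
  have h3 := F.Z_cube (F.W_meet hl.1.1 hz)
  rwa [pow_succ, pow_two, h2, one_mul] at h3

/-- The fixed part is the product of its inverted part and the powers of the lift. -/
theorem Cw_split {c : G} (hc : c ∈ F.Cw F.e1) : ∃ f ∈ zpowers (F.x : G), ∃ l ∈ F.L hW, c = f * l := by
  obtain ⟨f, hf, ef⟩ := F.W_inverted hc.1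
  refine ⟨f⁻¹, inv_mem hf, f * c, ⟨(F.Cw F.e1).mul_mem (zpowers_le.2 (F.x_mem_Cw F.mov1) hf) hc, ?_⟩, by group⟩
  have hcf : Commute c f := F.Z_central hc.1 hf
  rw [show D.z * (f * c) * D.z⁻¹ = (D.z * f * D.z⁻¹) * (D.z * c * D.z⁻¹) by group, (F.Z_comm_z hf).symm.eq,
    mul_inv_cancel_right, ef]
  have h3 := F.Z_cube hf
  calc f * (f * c⁻¹) = f * f * f * (f⁻¹ * c⁻¹) := by group
    _ = (c * f)⁻¹ := by rw [show f * f * f = 1 by rw [← h3, pow_succ, pow_two], one_mul, mul_inv_rev]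
    _ = (f * c)⁻¹ := by rw [hcf.eq]

theorem card_L : Nat.card (F.L hW) = 9 := by
  have h27 := F.card_Cw hW F.mov1
  have e : Nat.card (zpowers (F.x : G) × F.L hW) = Nat.card (F.Cw F.e1) := by
    refine Nat.card_eq_of_bijective (fun p => (⟨(p.1 : G) * p.2, (F.Cw F.e1).mul_mem
      (zpowers_le.2 (F.x_mem_Cw F.mov1) p.1.2) p.2.2.1⟩ : F.Cw F.e1)) ⟨?_, ?_⟩
    · rintro ⟨⟨f, hf⟩, ⟨l, hl⟩⟩ ⟨⟨f', hf'⟩, ⟨l', hl'⟩⟩ h
      replace h : f * l = f' * l' := congrArg Subtype.val h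
      have he : l * l'⁻¹ = f⁻¹ * f' := by
        calc l * l'⁻¹ = f⁻¹ * (f * l) * l'⁻¹ := by group
          _ = _ := by rw [h]; group
      have h1 := F.L_meet hW ((F.L hW).mul_mem hl ((F.L hW).inv_mem hl'))
        (he ▸ F.Z_comm_z (mul_mem (inv_mem hf) hf'))
      obtain rfl := mul_inv_eq_one.1 h1
      obtain rfl := mul_right_cancel h
      rfl
    · rintro ⟨c, hc⟩
      obtain ⟨f, hf, l, hl, rfl⟩ := F.Cw_split hW hc
      exact ⟨(⟨f, hf⟩, ⟨l, hl⟩), rfl⟩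
  rw [Nat.card_prod, Nat.card_zpowers, F.x_ord, h27] at e
  omega

theorem u_L {l : G} (hl : l ∈ F.L hW) : (F.u : G) * l * (F.u : G)⁻¹ ∈ F.L hW := F.l_conj_u hW hl.1 hl.2

theorem g_L {l : G} (hl : l ∈ F.L hW) : (F.g : G) * l * (F.g : G)⁻¹ ∈ F.L hW := by
  refine ⟨F.g_Cw F.mov1 hl.1, ?_⟩
  rw [show D.z * ((F.g : G) * l * (F.g : G)⁻¹) * D.z⁻¹ = (D.z * (F.g : G)) * l * (D.z * (F.g : G))⁻¹ by group,
    (D.z_commG F.g).eq, show (F.g : G) * D.z * l * ((F.g : G) * D.z)⁻¹ = (F.g : G) * (D.z * l * D.z⁻¹) * (F.g : G)⁻¹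
      by group, hl.2]
  group

omit hW in
theorem b_W {w : G} (hw : w ∈ F.W) : (F.b : G) * w * (F.b : G)⁻¹ ∈ F.W :=
  oddCen_conj_inv (congrArg Subtype.val F.b_x :) hw

theorem b_L {l : G} (hl : l ∈ F.L hW) : (F.b : G) * l * (F.b : G)⁻¹ ∈ F.L hW := by
  refine ⟨(F.mem_Cw).2 ⟨F.b_W hl.1.1, ?_⟩, ?_⟩
  · have h2 := (F.L_commE hW hl F.e2_mem_E).map (MulAut.conj (F.b : G)).toMonoidHom
    rw [show (MulAut.conj (F.b : G)).toMonoidHom (F.e2 : G) = F.e1 from Ctx.val_conj D F.b_2] at h2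
    exact h2
  rw [show D.z * ((F.b : G) * l * (F.b : G)⁻¹) * D.z⁻¹ = (D.z * (F.b : G)) * l * (D.z * (F.b : G))⁻¹ by group,
    (D.z_commG F.b).eq, show (F.b : G) * D.z * l * ((F.b : G) * D.z)⁻¹ = (F.b : G) * (D.z * l * D.z⁻¹) * (F.b : G)⁻¹
      by group, hl.2]
  group

/-- A lift is moved by the core by its fixed part. -/
theorem conj_split {e : D.X} (he : F.Mov e) {w : G} (hw : w ∈ F.W) :
    ∃ f ∈ zpowers (F.x : G), ∃ l ∈ F.L hW, w * (e : G) * w⁻¹ = f * l * e := by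
  have h := F.mov_shift hW he hw
  set c := (e : G) * w * (e : G)⁻¹ * w⁻¹ with hc
  have hc' : c⁻¹ ∈ F.Cw F.e1 := F.Cw_eq hW he ▸ (F.Cw e).inv_mem h
  obtain ⟨f, hf, l, hl, e'⟩ := F.Cw_split hW hc'
  exact ⟨f, hf, l, hl, by rw [← e', hc]; group⟩

/-- **The core moves a lift by every inverted element.** -/
theorem conj_surj {e : D.X} (he : F.Mov e) {l : G} (hl : l ∈ F.L hW) :
    ∃ w ∈ F.W, ∃ f ∈ zpowers (F.x : G), w * (e : G) * w⁻¹ = f * l * e := by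
  classical
  choose fn hfn ln hln heq using fun w : F.W => F.conj_split hW he w.2
  let φ : F.W → F.L hW := fun w => ⟨ln w, hln w⟩
  suffices hs : Function.Surjective φ by
    obtain ⟨w, hw⟩ := hs ⟨l, hl⟩
    have e' : ln w = l := congrArg Subtype.val hw
    exact ⟨w, w.2, fn w, hfn w, e' ▸ heq w⟩
  choose! s hs using fun (r : F.L hW) (h : ∃ w, φ w = r) => h
  have hfib : ∀ w : F.W, ((s (φ w) : F.W) : G)⁻¹ * w ∈ F.Cw e := by
    intro w
    set v := s (φ w) with hv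
    have hl' : ln v = ln w := congrArg Subtype.val (hs (φ w) ⟨w, rfl⟩)
    set q := ((v : F.W) : G)⁻¹ * w with hq
    have hqW : q ∈ F.W := mul_mem (inv_mem v.2) w.2
    set h := fn w * (fn v)⁻¹ with hh
    have hhZ : h ∈ zpowers (F.x : G) := mul_mem (hfn w) (inv_mem (hfn v))
    have hqe : q * (e : G) * q⁻¹ = h * e := by
      calc q * (e : G) * q⁻¹ = (v : G)⁻¹ * ((w : G) * (e : G) * (w : G)⁻¹) * (v : G) := by rw [hq]; group
        _ = (v : G)⁻¹ * h * (fn v * ln v * (e : G)) * (v : G) := by rw [heq, hl', hh]; group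
        _ = (v : G)⁻¹ * h * ((v : G) * (e : G) * (v : G)⁻¹) * (v : G) := by rw [← heq]
        _ = ((v : G)⁻¹ * h * (v : G)) * e := by group
        _ = h * e := by rw [mul_assoc ((v : G)⁻¹), ← (F.Z_central v.2 hhZ).eq, inv_mul_cancel_left]
    refine (F.mem_Cw).2 ⟨hqW, F.no_shift hW he hqW ?_⟩
    have hqh : Commute q h := F.Z_central hqW hhZ
    have hqe' : (e : G) * q * (e : G)⁻¹ * q⁻¹ = h⁻¹ := by
      calc (e : G) * q * (e : G)⁻¹ * q⁻¹ = (e : G) * (q * (e : G) * q⁻¹)⁻¹ := by group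
        _ = h⁻¹ := by rw [hqe, mul_inv_rev, mul_inv_cancel_left]
    rw [hqe']
    exact inv_mem hhZ
  haveI : Fintype (F.L hW) := Fintype.ofFinite _
  let img : Finset (F.L hW) := Finset.univ.filter fun r => ∃ w, φ w = r
  have hle : Nat.card F.W ≤ img.card * Nat.card (F.Cw e) := by
    rw [← Nat.card_eq_finsetCard, ← Nat.card_prod]
    refine Nat.card_le_card_of_injective
      (fun w => ((⟨φ w, Finset.mem_filter.2 ⟨Finset.mem_univ _, w, rfl⟩⟩ : img),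
        (⟨_, hfib w⟩ : F.Cw e))) fun w w' h => ?_
    obtain ⟨h1, h2⟩ := Prod.mk.inj h
    have h1' : φ w = φ w' := congrArg Subtype.val h1
    have h2' := congrArg Subtype.val h2
    simp only [h1'] at h2'
    exact Subtype.ext (mul_left_cancel h2')
  rw [hW, F.card_Cw hW he] at hle
  have huniv : img = Finset.univ := Finset.eq_univ_of_card _ (le_antisymm (Finset.card_le_univ _) (by
    rw [← Nat.card_eq_fintype_card, F.card_L hW]; omega))
  intro r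
  exact (Finset.mem_filter.1 (huniv.ge (Finset.mem_univ r))).2

end Nine.Frame

end Cfsg.Agent.DoubleCoverDeg
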