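import Cfsg.Agent.Lib.DoubleCoverDeg.Lifts
import Mathlib.Data.Set.Card

/-!
Two invariants of a pair of commuting involutions separating the central involution from the others when the
degree is at least twelve.
-/

set_option autoImplicit false
set_option linter.style.haveILetI false

namespace Cfsg.Agent.DoubleCoverDeg

open Cfsg Equiv

section

variable {G : Type*} [Group G]

/-- A normal set in the common centraliser whose commutators are the target and the identity. -/
def Phi (x y : G) : Prop :=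
  ∃ S : Set G, (∀ s ∈ S, Commute s x ∧ Commute s y) ∧
    (∀ s ∈ S, ∀ h, Commute h x → Commute h y → h * s * h⁻¹ ∈ S) ∧
    (∀ s ∈ S, ∀ t ∈ S, s * t * s⁻¹ * t⁻¹ = 1 ∨ s * t * s⁻¹ * t⁻¹ = x) ∧
    ∃ s ∈ S, ∃ t ∈ S, s * t * s⁻¹ * t⁻¹ = x

/-- Elements of exponent three with the target among the commutators of their centraliser. -/
def Wit (x y : G) : Set G :=
  {w | w ^ 3 = 1 ∧ Commute w x ∧ Commute w y ∧ ∃ s t : G, Commute s x ∧ Commute s y ∧ Commute s w ∧
    Commute t x ∧ Commute t y ∧ Commute t w ∧ s * t * s⁻¹ * t⁻¹ = x}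

theorem Phi.map {H : Type*} [Group H] (e : G ≃* H) {x y : G} (h : Phi x y) : Phi (e x) (e y) := by
  obtain ⟨S, hS, hn, hc, s, hs, t, ht, est⟩ := h
  refine ⟨e '' S, ?_, ?_, ?_, e s, ⟨s, hs, rfl⟩, e t, ⟨t, ht, rfl⟩, by rw [← est]; simp only [map_mul, map_inv]⟩
  · rintro _ ⟨a, ha, rfl⟩
    exact ⟨(hS a ha).1.map e, (hS a ha).2.map e⟩
  · rintro _ ⟨a, ha, rfl⟩ h h1 h2
    obtain ⟨k, rfl⟩ := e.surjective h
    refine ⟨k * a * k⁻¹, hn a ha k ?_ ?_, by simp only [map_mul, map_inv]⟩
    · exact e.injective ((map_mul e _ _).trans (h1.eq.trans (map_mul e _ _).symm))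
    · exact e.injective ((map_mul e _ _).trans (h2.eq.trans (map_mul e _ _).symm))
  · rintro _ ⟨a, ha, rfl⟩ _ ⟨b, hb, rfl⟩
    rcases hc a ha b hb with h' | h'
    · left; rw [← map_inv, ← map_inv, ← map_mul, ← map_mul, ← map_mul, h', map_one]
    · right; rw [← map_inv, ← map_inv, ← map_mul, ← map_mul, ← map_mul, h']

theorem wit_map (g x y : G) : Set.MapsTo (MulAut.conj g) (Wit x y) (Wit (MulAut.conj g x) (MulAut.conj g y)) := by
  rintro w ⟨h3, hx, hy, s, t, sx, sy, sw, tx, ty, tw, e⟩
  exact ⟨by rw [← map_pow, h3, map_one], hx.map _, hy.map _, MulAut.conj g s, MulAut.conj g t, sx.map _, sy.map _,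
    sw.map _, tx.map _, ty.map _, tw.map _, by rw [← map_inv, ← map_inv, ← map_mul, ← map_mul, ← map_mul, e]⟩

theorem ncard_wit_conj [Finite G] (g x y : G) :
    (Wit (MulAut.conj g x) (MulAut.conj g y)).ncard = (Wit x y).ncard := by
  have key : ∀ h a b : G, (Wit a b).ncard ≤ (Wit (MulAut.conj h a) (MulAut.conj h b)).ncard := fun h a b =>
    Set.ncard_le_ncard_of_injOn (MulAut.conj h) (wit_map h a b) (MulAut.conj h).injective.injOn (Set.toFinite _)
  refine le_antisymm ?_ (key g x y)
  have := key g⁻¹ (MulAut.conj g x) (MulAut.conj g y)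
  simpa [mul_assoc] using this

end

section Points

variable {n : ℕ} {σ : Perm (Fin n)}

/-- The two points are in one orbit. -/
def Near (σ : Perm (Fin n)) (x y : Fin n) : Prop := y = x ∨ y = σ x

theorem apply_apply (hσ : σ * σ = 1) (x : Fin n) : σ (σ x) = x := by
  rw [← Perm.mul_apply, hσ, Perm.one_apply]

theorem moved_apply (hσ : σ * σ = 1) {x : Fin n} (hx : σ x ≠ x) : σ (σ x) ≠ σ x := fun e => hx (σ.injective e)

theorem Near.symm (hσ : σ * σ = 1) {x y : Fin n} (h : Near σ x y) : Near σ y x := by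
  rcases h with rfl | rfl
  · exact Or.inl rfl
  · exact Or.inr (apply_apply hσ x).symm

theorem Near.trans (hσ : σ * σ = 1) {x y w : Fin n} (h : Near σ x y) (h' : Near σ y w) : Near σ x w := by
  rcases h with rfl | rfl
  · exact h'
  · rcases h' with rfl | rfl
    · exact Or.inr rfl
    · exact Or.inl (apply_apply hσ x)

theorem Near.apply (hσ : σ * σ = 1) {g : Perm (Fin n)} (hg : Commute g σ) {x y : Fin n} :
    Near σ (g x) (g y) ↔ Near σ x y := by
  have e : g (σ x) = σ (g x) := DFunLike.congr_fun hg.eq x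
  refine ⟨fun h => ?_, fun h => ?_⟩
  · rcases h with h | h
    · exact Or.inl (g.injective h)
    · exact Or.inr (g.injective (by rw [h, e]))
  · rcases h with rfl | rfl
    · exact Or.inl rfl
    · exact Or.inr e

/-- A moved point outside the orbits of a few points. -/
theorem exists_moved (hσ : σ * σ = 1) (L : List (Fin n)) (h : 2 * L.length < σ.support.card) :
    ∃ y, σ y ≠ y ∧ ∀ x ∈ L, ¬ Near σ x y := by
  classical
  obtain ⟨y, hy, hy'⟩ := Finset.exists_mem_notMem_of_card_lt_card
    (s := (L ++ L.map σ).toFinset) (t := σ.support)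
    (lt_of_le_of_lt (List.toFinset_card_le _) (by rw [List.length_append, List.length_map]; omega))
  refine ⟨y, Perm.mem_support.1 hy, fun x hx hn => hy' (List.mem_toFinset.2 (List.mem_append.2 ?_))⟩
  rcases hn with rfl | rfl
  · exact Or.inl hx
  · exact Or.inr (List.mem_map.2 ⟨x, hx, rfl⟩)

theorem six_nodup (hσ : σ * σ = 1) {j l m : Fin n} (hj : σ j ≠ j) (hl : σ l ≠ l) (hm : σ m ≠ m)
    (hjl : ¬ Near σ j l) (hjm : ¬ Near σ j m) (hlm : ¬ Near σ l m) : [j, σ j, l, σ l, m, σ m].Nodup := by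
  simp only [Near, not_or] at hjl hjm hlm
  simp only [List.nodup_cons, List.mem_cons, List.not_mem_nil, or_false, not_or]
  refine ⟨⟨hj.symm, Ne.symm hjl.1, ?_, Ne.symm hjm.1, ?_⟩, ⟨Ne.symm hjl.2, ?_, Ne.symm hjm.2, ?_⟩,
    ⟨hl.symm, Ne.symm hlm.1, ?_⟩, ⟨Ne.symm hlm.2, ?_⟩, hm.symm, not_false, List.nodup_nil⟩
  · exact fun e => hjl.2 (by rw [e, apply_apply hσ])
  · exact fun e => hjm.2 (by rw [e, apply_apply hσ])
  · exact fun e => hjl.1 (σ.injective e).symm
  · exact fun e => hjm.1 (σ.injective e).symm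
  · exact fun e => hlm.2 (by rw [e, apply_apply hσ])
  · exact fun e => hlm.1 (σ.injective e).symm

/-- The three-cycle on three orbits. -/
theorem exists_orbit_cycle (hσ : σ * σ = 1) {j l m : Fin n} (hj : σ j ≠ j) (hl : σ l ≠ l) (hm : σ m ≠ m)
    (hjl : ¬ Near σ j l) (hjm : ¬ Near σ j m) (hlm : ¬ Near σ l m) :
    ∃ c : Perm (Fin n), Perm.sign c = 1 ∧ c ^ 3 = 1 ∧ Commute c σ ∧ c j = l ∧ c l = m ∧ c m = j ∧
      c (σ j) = σ l ∧ c (σ l) = σ m ∧ c (σ m) = σ j ∧
      ∀ x, ¬ Near σ j x → ¬ Near σ l x → ¬ Near σ m x → c x = x := by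
  have h := six_nodup hσ hj hl hm hjl hjm hlm
  simp only [List.nodup_cons, List.mem_cons, List.not_mem_nil, or_false, not_or] at h
  obtain ⟨⟨hjj, hjl', hjsl, hjm', hjsm⟩, ⟨hsjl, hsjsl, hsjm, hsjsm⟩, ⟨hll, hlm', hlsm⟩, ⟨hslm, hslsm⟩, hmm, -⟩ := h
  set c := swap j l * swap l m * (swap (σ j) (σ l) * swap (σ l) (σ m)) with hc
  have c1 : c j = l := by simp only [hc, Perm.mul_apply, swap_apply_def]; grind
  have c2 : c l = m := by simp only [hc, Perm.mul_apply, swap_apply_def]; grind
  have c3 : c m = j := by simp only [hc, Perm.mul_apply, swap_apply_def]; grind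
  have c4 : c (σ j) = σ l := by simp only [hc, Perm.mul_apply, swap_apply_def]; grind
  have c5 : c (σ l) = σ m := by simp only [hc, Perm.mul_apply, swap_apply_def]; grind
  have c6 : c (σ m) = σ j := by simp only [hc, Perm.mul_apply, swap_apply_def]; grind
  have cfix : ∀ x, ¬ Near σ j x → ¬ Near σ l x → ¬ Near σ m x → c x = x := by
    intro x hxj hxl hxm
    simp only [Near, not_or] at hxj hxl hxm
    simp only [hc, Perm.mul_apply, swap_apply_def]
    grind
  refine ⟨c, ?_, ?_, ?_, c1, c2, c3, c4, c5, c6, cfix⟩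
  · rw [hc, map_mul, map_mul, map_mul, Perm.sign_swap hjl', Perm.sign_swap hlm', Perm.sign_swap hsjsl,
      Perm.sign_swap hslsm]
    rfl
  · refine Equiv.ext fun x => ?_
    simp only [pow_succ, pow_zero, one_mul, Perm.mul_apply, Perm.one_apply]
    by_cases h1 : Near σ j x
    · rcases h1 with rfl | rfl
      · rw [c1, c2, c3]
      · rw [c4, c5, c6]
    by_cases h2 : Near σ l x
    · rcases h2 with rfl | rfl
      · rw [c2, c3, c1]
      · rw [c5, c6, c4]
    by_cases h3 : Near σ m x
    · rcases h3 with rfl | rfl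
      · rw [c3, c1, c2]
      · rw [c6, c4, c5]
    rw [cfix x h1 h2 h3, cfix x h1 h2 h3, cfix x h1 h2 h3]
  · refine Equiv.ext fun x => ?_
    simp only [Perm.mul_apply]
    by_cases h1 : Near σ j x
    · rcases h1 with rfl | rfl
      · rw [c4, c1]
      · rw [apply_apply hσ, c4, apply_apply hσ, c1]
    by_cases h2 : Near σ l x
    · rcases h2 with rfl | rfl
      · rw [c5, c2]
      · rw [apply_apply hσ, c5, apply_apply hσ, c2]
    by_cases h3 : Near σ m x
    · rcases h3 with rfl | rfl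
      · rw [c6, c3]
      · rw [apply_apply hσ, c6, apply_apply hσ, c3]
    have hs : ∀ q, ¬ Near σ q x → ¬ Near σ q (σ x) := fun q hq h => hq (h.trans hσ (Or.inr (apply_apply hσ x).symm))
    rw [cfix x h1 h2 h3, cfix (σ x) (hs j h1) (hs l h2) (hs m h3)]

end Points

namespace Ctx

variable {G : Type*} [Group G] {n : ℕ} (D : Ctx G n)

theorem mk_commute {x y : D.X} : Commute (x : G) y ↔ Commute x y :=
  ⟨fun h => Subtype.ext h, fun h => congrArg Subtype.val h⟩

theorem mem_of_commute {s : G} (h : Commute s D.z) : s ∈ D.X := Subgroup.mem_centralizer_singleton_iff.2 h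

theorem z_commute (x : D.X) : Commute (x : G) D.z := Subgroup.mem_centralizer_singleton_iff.1 x.2

/-- A lift of a double transposition on two orbits commutes with the involution upstairs. -/
theorem comm_base {u A : D.X} (hn : 5 ≤ n) (hσ : D.p A * D.p A = 1) {i j : Fin n} (hi : D.p A i ≠ i)
    (hj : D.p A j ≠ j) (hij : ¬ Near (D.p A) i j) (hu : D.p u = swap i (D.p A i) * swap j (D.p A j)) :
    Commute u A := by
  set σ := D.p A
  simp only [Near, not_or] at hij
  have hd : [i, σ i, j, σ j].Nodup := by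
    simp only [List.nodup_cons, List.mem_cons, List.not_mem_nil, or_false, not_or]
    exact ⟨⟨hi.symm, Ne.symm hij.1, fun e => hij.2 (by rw [e, apply_apply hσ])⟩,
      ⟨Ne.symm hij.2, fun e => hij.1 (σ.injective e).symm⟩, hj.symm, not_false, List.nodup_nil⟩
  have hr : Commute u (u⁻¹ * A) := D.comm_dbl hd hu fun t ht => by
    have e1 := apply_apply hσ i; have e2 := apply_apply hσ j
    simp only [List.nodup_cons, List.mem_cons, List.not_mem_nil, or_false, not_or] at hd ht
    rw [map_mul, map_inv, hu, mul_inv_rev, swap_inv, swap_inv]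
    show (swap j (σ j) * swap i (σ i)) (σ t) = t
    simp only [Perm.mul_apply, swap_apply_def]
    rcases ht with rfl | rfl | rfl | rfl <;> grind
  simpa only [mul_inv_cancel_left] using (Commute.refl u).mul_right hr

/-- Three orbits give two elements commuting with the involution whose commutator is the central involution. -/
theorem exists_base_pair (hn : 5 ≤ n) {A : D.X} (hσ : D.p A * D.p A = 1) (hk : 6 ≤ (D.p A).support.card) :
    ∃ u v : D.X, Commute u A ∧ Commute v A ∧ (u : G) * v * (u : G)⁻¹ * (v : G)⁻¹ = D.z ∧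
      (∀ x, D.p u x = x ∨ (D.p A x ≠ x ∧ D.p u x = D.p A x)) ∧
      (∀ x, D.p v x = x ∨ (D.p A x ≠ x ∧ D.p v x = D.p A x)) := by
  set σ := D.p A with hσdef
  obtain ⟨i, hi, -⟩ := exists_moved hσ [] (by rw [List.length_nil]; omega)
  obtain ⟨j, hj, hij⟩ := exists_moved hσ [i] (by simp; omega)
  obtain ⟨l, hl, hl'⟩ := exists_moved hσ [i, j] (by simp; omega)
  have hij := hij i (by simp)
  have hil := hl' i (by simp)
  have hjl := hl' j (by simp)
  have hd := six_nodup hσ hi hj hl hij hil hjl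
  have hs : ∀ {a b : Fin n}, σ a ≠ a → σ b ≠ b → Perm.sign (swap a (σ a) * swap b (σ b)) = 1 := fun ha hb => by
    rw [map_mul, Perm.sign_swap ha.symm, Perm.sign_swap hb.symm]; rfl
  obtain ⟨u, hu⟩ := D.p_surj (hs hi hj)
  obtain ⟨v, hv⟩ := D.p_surj (hs hi hl)
  have hanti : u * v = D.zX * (v * u) := D.anticomm hn hd hu hv
  refine ⟨u, v, D.comm_base hn hσ hi hj hij hu, D.comm_base hn hσ hi hl hil hv, ?_, ?_, ?_⟩
  · have : u * v * u⁻¹ * v⁻¹ = D.zX := by rw [hanti]; group
    exact congrArg Subtype.val this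
  all_goals
    intro x
    have e1 := apply_apply hσ i; have e2 := apply_apply hσ j; have e3 := apply_apply hσ l
    simp only [hu, hv, Perm.mul_apply, swap_apply_def]
    grind

/-- The central involution passes the first test. -/
theorem phi_z (hn : 5 ≤ n) {A : D.X} (hσ : D.p A * D.p A = 1) (hk : 6 ≤ (D.p A).support.card) :
    Phi D.z (A : G) := by
  obtain ⟨u, v, hu, hv, huv, pu, pv⟩ := D.exists_base_pair hn hσ hk
  refine ⟨{s | ∃ x : D.X, (x : G) = s ∧ Commute x A ∧ ∀ q, Near (D.p A) q (D.p x q)}, ?_, ?_, ?_,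
    u, ⟨u, rfl, hu, fun q => (pu q).imp id (fun h => h.2)⟩, v, ⟨v, rfl, hv, fun q => (pv q).imp id (fun h => h.2)⟩,
    huv⟩
  · rintro _ ⟨x, rfl, hx, -⟩
    exact ⟨D.z_commute x, D.mk_commute.2 hx⟩
  · rintro _ ⟨x, rfl, hx, hq⟩ h h1 h2
    let y : D.X := ⟨h, D.mem_of_commute h1⟩
    have hy : Commute y A := D.mk_commute.1 h2
    refine ⟨y * x * y⁻¹, rfl, (hy.mul_left hx).mul_left hy.inv_left, fun q => ?_⟩
    have := (Near.apply hσ (hy.map D.p) (x := (D.p y)⁻¹ q) (y := D.p x ((D.p y)⁻¹ q))).2 (hq _)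
    rw [show D.p y ((D.p y)⁻¹ q) = q by rw [← Perm.mul_apply, mul_inv_cancel, Perm.one_apply]] at this
    rwa [map_mul, map_mul, map_inv, Perm.mul_apply, Perm.mul_apply]
  · rintro _ ⟨x, rfl, hx, hqx⟩ _ ⟨y, rfl, hy, hqy⟩
    have hc : Commute (D.p x) (D.p y) := Equiv.ext fun q => by
      have cx : ∀ r, D.p x (D.p A r) = D.p A (D.p x r) := fun r => DFunLike.congr_fun (hx.map D.p).eq r
      have cy : ∀ r, D.p y (D.p A r) = D.p A (D.p y r) := fun r => DFunLike.congr_fun (hy.map D.p).eq r
      simp only [Perm.mul_apply]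
      rcases hqx q with e | e <;> rcases hqy q with e' | e' <;> simp [e, e', cx, cy]
    rcases D.eq_or (show D.p (x * y) = D.p (y * x) by rw [map_mul, map_mul, hc.eq]) with e | e
    · left
      have : x * y * x⁻¹ * y⁻¹ = 1 := by rw [e]; group
      exact congrArg Subtype.val this
    · right
      have : x * y * x⁻¹ * y⁻¹ = D.zX := by rw [e]; group
      exact congrArg Subtype.val this

/-- Elements preserving the orbits of the moved points commute there. -/
theorem not_phi (hn : 5 ≤ n) {A : D.X} (hσ : D.p A * D.p A = 1) (hk : 10 ≤ (D.p A).support.card) :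
    ¬ Phi (A : G) D.z := by
  rintro ⟨S, hS, hconj, hcomm, s, hs, t, ht, est⟩
  set σ := D.p A with hσdef
  have hfix : ∀ s ∈ S, ∀ x : D.X, (x : G) = s → ∀ i, σ i ≠ i → Near σ i (D.p x i) := by
    rintro _ hs x rfl i hi
    by_contra hij
    set g := D.p x with hg
    have hxA : Commute x A := D.mk_commute.1 (hS _ hs).1
    have cg : Commute g σ := hxA.map D.p
    have cg' : ∀ q, g (σ q) = σ (g q) := fun q => DFunLike.congr_fun cg.eq q
    set j := g i with hjdef
    have hj : σ j ≠ j := fun e => hi (g.injective (by rw [cg', ← hjdef, e]))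
    obtain ⟨m, hm, hm'⟩ := exists_moved hσ [i, j] (by simp; omega)
    obtain ⟨l, hl, hl'⟩ := exists_moved hσ [i, j, m, g m] (by simp; omega)
    have hjm := hm' j (by simp)
    have him := hm' i (by simp)
    have hil := hl' i (by simp)
    have hjl := hl' j (by simp)
    have hml := hl' m (by simp)
    have hgml := hl' (g m) (by simp)
    have hlm : ¬ Near σ l m := fun h => hml (h.symm hσ)
    obtain ⟨c, hcs, hc3, hcσ, cj, cl, cm, -, -, csm, cfix⟩ := exists_orbit_cycle hσ hj hl hm hjl hjm hlm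
    obtain ⟨w, hw, hw3⟩ := D.lift_odd hcs (m := 3) (by decide) hc3
    have hwA : Commute w A := (D.comm_odd (by decide) hw3 (x := A) (by rw [hw]; exact hcσ.symm)).symm
    have hs' := hconj _ hs (w : G) (D.mk_commute.2 hwA) (D.z_commute w)
    -- the images commute modulo the involution
    have key : ∀ q, Near σ ((D.p w * g * (D.p w)⁻¹) (g q)) (g ((D.p w * g * (D.p w)⁻¹) q)) := by
      intro q
      have hcc : D.p (x * (w * x * w⁻¹)) = D.p (w * x * w⁻¹ * x) ∨
          D.p (x * (w * x * w⁻¹)) = σ * D.p (w * x * w⁻¹ * x) := by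
        rcases hcomm _ hs _ hs' with e | e
        · left
          have e' : x * (w * x * w⁻¹) * x⁻¹ * (w * x * w⁻¹)⁻¹ = 1 := Subtype.ext e
          rw [mul_inv_eq_one, mul_inv_eq_iff_eq_mul] at e'
          rw [e']
        · right
          have e' : x * (w * x * w⁻¹) * x⁻¹ * (w * x * w⁻¹)⁻¹ = A := Subtype.ext e
          rw [mul_inv_eq_iff_eq_mul, mul_inv_eq_iff_eq_mul] at e'
          rw [e', map_mul, map_mul, mul_assoc, ← map_mul D.p (w * x * w⁻¹) x]
      rcases hcc with e | e
      · left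
        have := DFunLike.congr_fun e q
        simpa only [map_mul, map_inv, Perm.mul_apply] using this
      · right
        have := DFunLike.congr_fun e q
        simpa only [map_mul, map_inv, Perm.mul_apply] using this
    have hci : c i = i := cfix i (fun h => hij (h.symm hσ)) (fun h => hil (h.symm hσ)) (fun h => him (h.symm hσ))
    have hinv_i : c⁻¹ i = i := Perm.inv_eq_iff_eq.2 hci.symm
    have hinv_j : c⁻¹ j = m := Perm.inv_eq_iff_eq.2 cm.symm
    have hk' := key i
    rw [hw] at hk'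
    simp only [Perm.mul_apply, hinv_i, ← hjdef, hinv_j, cj] at hk'
    -- the image of `m`
    have hgm_j : ¬ Near σ j (g m) := fun h => him ((Near.apply hσ cg).1 h)
    by_cases hgm : Near σ m (g m)
    · have hcgm : Near σ j (c (g m)) := by
        rcases hgm with e | e
        · rw [e, cm]; exact Or.inl rfl
        · rw [e, csm]; exact Or.inr rfl
      exact hil ((Near.apply hσ cg).1 (hcgm.trans hσ hk'))
    · have hcgm : c (g m) = g m := cfix _ hgm_j (fun h => hgml (h.symm hσ)) hgm
      rw [hcgm] at hk'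
      exact hml ((Near.apply hσ cg).1 hk')
  obtain ⟨i, hi, -⟩ := exists_moved hσ [] (by rw [List.length_nil]; omega)
  let x : D.X := ⟨s, D.mem_of_commute (hS s hs).2⟩
  let y : D.X := ⟨t, D.mem_of_commute (hS t ht).2⟩
  have e' : x * y * x⁻¹ * y⁻¹ = A := Subtype.ext est
  rw [mul_inv_eq_iff_eq_mul, mul_inv_eq_iff_eq_mul] at e'
  have e := DFunLike.congr_fun (congrArg D.p e') i
  simp only [map_mul, Perm.mul_apply] at e
  have cx : ∀ q, D.p x (σ q) = σ (D.p x q) := fun q =>
    DFunLike.congr_fun ((D.mk_commute.1 (hS s hs).1 : Commute x A).map D.p).eq q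
  have cy : ∀ q, D.p y (σ q) = σ (D.p y q) := fun q =>
    DFunLike.congr_fun ((D.mk_commute.1 (hS t ht).1 : Commute y A).map D.p).eq q
  rcases hfix s hs x rfl i hi with e1 | e1 <;> rcases hfix t ht y rfl i hi with e2 | e2 <;>
    simp only [e1, e2, cx, cy, ← hσdef, apply_apply hσ] at e <;>
    first
      | exact hi e.symm
      | exact hi e

end Ctx

end Cfsg.Agent.DoubleCoverDeg
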