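import Cfsg.Prelude.Def_SporadicB
import Mathlib.GroupTheory.SpecificGroups.Alternating
import Mathlib.GroupTheory.SpecificGroups.Alternating.Simple

/-!
An involution of a finite group whose centraliser is a non-split double cover of an alternating group: the
projection of the centraliser.
-/

set_option autoImplicit false

namespace Cfsg.Agent.DoubleCoverDeg

open Cfsg

/-- An involution, its centraliser projected onto the alternating group, the involution being the kernel; the cover
does not split. -/
structure Ctx (G : Type*) [Group G] (n : ℕ) where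
  /-- the involution -/
  z : G
  ord : orderOf z = 2
  /-- the projection -/
  π : ↥(Subgroup.centralizer ({z} : Set G)) →* ↥(alternatingGroup (Fin n))
  surj : Function.Surjective π
  ker : ∀ c, π c = 1 ↔ (c : G) = 1 ∨ (c : G) = z
  nonsplit : ∀ L : Subgroup ↥(Subgroup.centralizer ({z} : Set G)), ¬ π.ker.IsComplement' L

/-- The hypothesis gives the projection. -/
theorem exists_ctx {G : Type*} [Group G] [Finite G] {n : ℕ} (z : G) (hz : orderOf z = 2)
    (h : IsNonsplitDoubleCover (Subgroup.centralizer ({z} : Set G)) (alternatingGroup (Fin n))) :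
    ∃ D : Ctx G n, D.z = z := by
  obtain ⟨hc, ⟨e⟩, hns⟩ := h
  set X := Subgroup.centralizer ({z} : Set G) with hX
  let π : X →* alternatingGroup (Fin n) := e.toMonoidHom.comp (QuotientGroup.mk' (Subgroup.center X))
  have hker : π.ker = Subgroup.center X := by
    ext x
    rw [MonoidHom.mem_ker]
    show e (QuotientGroup.mk x) = 1 ↔ _
    rw [MulEquiv.map_eq_one_iff, QuotientGroup.eq_one_iff]
  have hzX : z ∈ X := Subgroup.mem_centralizer_singleton_iff.2 rfl
  have hzc : (⟨z, hzX⟩ : X) ∈ Subgroup.center X := Subgroup.mem_center_iff.2 fun c =>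
    Subtype.ext (Subgroup.mem_centralizer_singleton_iff.1 c.2)
  refine ⟨⟨z, hz, π, e.surjective.comp (QuotientGroup.mk'_surjective _), fun c => ?_, fun L => hker ▸ hns L⟩, rfl⟩
  rw [← MonoidHom.mem_ker, hker]
  refine ⟨fun hcc => ?_, ?_⟩
  · by_contra h'
    push_neg at h'
    have hzne : z ≠ 1 := fun e' => by rw [e', orderOf_one] at hz; norm_num at hz
    have h3 : 3 ≤ Nat.card (Subgroup.center X) := by
      refine le_trans (le_of_eq ?_) (Nat.card_le_card_of_injective
        (![⟨1, one_mem _⟩, ⟨⟨z, hzX⟩, hzc⟩, ⟨c, hcc⟩] : Fin 3 → Subgroup.center X) ?_)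
      · simp
      · intro i j hij
        have hij' := congrArg (fun y : Subgroup.center X => ((y : X) : G)) hij
        fin_cases i <;> fin_cases j <;> first
          | rfl
          | exact absurd hij' h'.1.symm
          | exact absurd hij'.symm h'.1.symm
          | exact absurd hij' h'.2.symm
          | exact absurd hij'.symm h'.2.symm
          | exact absurd hij' hzne
          | exact absurd hij'.symm hzne
    omega
  · rintro (h1 | h1)
    · rw [show c = 1 from Subtype.ext h1]; exact one_mem _
    · rw [show c = (⟨z, hzX⟩ : X) from Subtype.ext h1]; exact hzc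

end Cfsg.Agent.DoubleCoverDeg
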