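import Cfsg.Agent.Lib.DoubleCoverDeg.Bound

/-!
S1645, degrees nine and ten: standard lifts around a lift of a three-cycle, and the odd core of its centraliser.
-/

set_option autoImplicit false
set_option linter.style.haveILetI false
set_option linter.unusedSectionVars false
set_option linter.constructorNameAsVariable false

namespace Cfsg.Agent.DoubleCoverDeg

open Cfsg Equiv Subgroup

universe u

variable {G : Type u} [Group G] [Finite G]

namespace Ctx

variable {n : ℕ} (D : Ctx G n)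

theorem emb_swap (h : 9 ≤ n) (i j : Fin 9) : emb h (swap i j) = swap (Fin.castLE h i) (Fin.castLE h j) := by
  refine Equiv.ext fun t => ?_
  by_cases ht : 9 ≤ (t : ℕ)
  · rw [emb_out h _ t ht, swap_apply_of_ne_of_ne] <;>
      exact fun e => absurd (congrArg Fin.val e) (by simp only [Fin.val_castLE]; omega)
  · rw [show t = Fin.castLE h ⟨t, by omega⟩ from rfl, emb_apply, ((Fin.castLE_injective h).swap_apply i j _)]

/-- A lift of the image of a double transposition. -/
theorem exists_lift_dbl (h : 9 ≤ n) {i j k l : Fin 9} (hd : [i, j, k, l].Nodup) :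
    ∃ d : D.X, d * d = D.zX ∧
      D.p d = swap (Fin.castLE h i) (Fin.castLE h j) * swap (Fin.castLE h k) (Fin.castLE h l) ∧
      D.p d = emb h (swap i j * swap k l) := by
  classical
  have hdbl : IsDbl (swap (Fin.castLE h i) (Fin.castLE h j) * swap (Fin.castLE h k) (Fin.castLE h l)) :=
    ⟨_, _, _, _, List.Nodup.map (Fin.castLE_injective h) hd, rfl⟩
  obtain ⟨d, hp⟩ := D.p_surj (sign_dbl hdbl)
  exact ⟨d, D.sq_double (by omega) (hp.symm ▸ hdbl), hp, by rw [hp, map_mul, emb_swap, emb_swap]⟩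

/-- A lift of odd exponent of the image of an even permutation. -/
theorem exists_lift_odd (h : 9 ≤ n) {σ : Perm (Fin 9)} (hs : Perm.sign σ = 1) {m : ℕ} (hm : Odd m) (h1 : σ ^ m = 1) :
    ∃ c : D.X, D.p c = emb h σ ∧ c ^ m = 1 :=
  D.lift_odd (by rw [sign_emb]; exact hs) hm (by rw [← map_pow, h1, map_one])

/-- The involution inverting the standard lift. -/
def a0 : Perm (Fin 9) := swap 1 2 * swap 7 8 * (swap 3 4 * swap 5 6)

/-- A three-element outside the standard three-cycle commuting with the involution. -/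
def k0 : Perm (Fin 9) := swap 3 5 * swap 5 7 * (swap 4 6 * swap 6 8)

theorem std_facts : a0 * c0 * a0⁻¹ = c0⁻¹ ∧ Commute (swap 3 4 * swap 5 6) c0 ∧ Commute k0 c0 ∧ Commute k0 a0 ∧
    Perm.sign k0 = 1 ∧ k0 ^ 3 = 1 ∧ k0 3 ≠ 3 := by
  simp only [commute_iff_eq]
  decide +kernel

section Three

variable (h : 9 ≤ n) {x : D.X} (hx : D.p x = emb h c0) (hx3 : x ^ 3 = 1)
include hx hx3

/-- The standard four-group, the element squaring to the involution, and the three-element. -/
theorem exists_std : ∃ a g k : D.X, a * a = 1 ∧ a * x * a⁻¹ = x⁻¹ ∧ g * g = D.zX ∧ Commute g a ∧ Commute g x ∧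
    k ^ 3 = 1 ∧ Commute k x ∧ Commute k a ∧ (∃ i : Fin n, 3 ≤ (i : ℕ) ∧ D.p k i ≠ i) ∧ D.p a = emb h a0 := by
  classical
  obtain ⟨h1, h2, h3, h4, h5, h6, h7⟩ := std_facts
  obtain ⟨d1, s1, p1, q1⟩ := D.exists_lift_dbl h (i := 1) (j := 2) (k := 7) (l := 8) (by decide)
  obtain ⟨g, sg, pg, qg⟩ := D.exists_lift_dbl h (i := 3) (j := 4) (k := 5) (l := 6) (by decide)
  obtain ⟨k, pk, sk⟩ := D.exists_lift_odd h h5 (m := 3) (by decide) h6
  have hd : Commute d1 g := D.comm_dbl (List.Nodup.map (Fin.castLE_injective h)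
    (show [(1 : Fin 9), 2, 7, 8].Nodup by decide)) p1 (by
      intro t ht
      obtain ⟨i, hi, rfl⟩ : ∃ i ∈ [(1 : Fin 9), 2, 7, 8], Fin.castLE h i = t := List.mem_map.1 ht
      rw [qg, emb_apply]
      exact congrArg _ ((show ∀ j ∈ [(1 : Fin 9), 2, 7, 8], (swap 3 4 * swap 5 6 : Perm (Fin 9)) j = j by
        decide +kernel) i hi))
  have ha : (d1 * g) * (d1 * g) = 1 := by
    rw [show d1 * g * (d1 * g) = d1 * (g * d1) * g by group, ← hd.eq,
      show d1 * (d1 * g) * g = (d1 * d1) * (g * g) by group, s1, sg, D.z_sq]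
  have hpa : D.p (d1 * g) = emb h a0 := by rw [map_mul, q1, qg, ← map_mul]; rfl
  refine ⟨d1 * g, g, k, ha, ?_, sg, hd.symm.mul_right (Commute.refl g), (D.comm_x h hx hx3).2 ?_, sk,
    (D.comm_x h hx hx3).2 ?_, ?_, ⟨Fin.castLE h 3, le_rfl, ?_⟩, hpa⟩
  · refine D.lift_uniq (m := 3) (by decide) ?_ (by rw [inv_pow, hx3, inv_one]) ?_
    · rw [conj_pow, hx3, mul_one, mul_inv_cancel]
    · rw [map_mul, map_mul, map_inv, map_inv, hpa, hx, ← map_mul, ← map_inv, ← map_mul, ← map_inv, h1]
  · rw [qg]; exact h2.map (emb h)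
  · rw [pk]; exact h3.map (emb h)
  · exact (D.comm_odd (m := 3) (by decide) sk (by rw [hpa, pk]; exact (h4.map (emb h)).symm)).symm
  · rw [pk, emb_apply]
    exact fun e => h7 (Fin.castLE_injective h e)

variable [IsSimpleGroup G]

/-- **The core in degree ten is the powers of the lift.** -/
theorem core_ten (hn : n = 10) : oddCen (x : G) = zpowers (x : G) := by
  obtain ⟨a, g, k, ha, hax, hg, hga, hgx, hk3, hkx, hka, hmv, -⟩ := D.exists_std h hx hx3
  exact (D.core_cases h (by omega) hx hx3 ha hax hg hga hgx hk3 hkx hka hmv).resolve_right fun e => by omega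

/-- When the core is the powers of the lift, the centraliser lies in that of the involution. -/
theorem cen_le (hn : n ≤ 10) (hW : oddCen (x : G) = zpowers (x : G)) :
    centralizer ({(x : G)} : Set G) ≤ D.X := by
  intro g hg
  obtain ⟨w, hw, c, -, rfl⟩ := D.cen_split h hx hx3 hn (mem_centralizer_singleton_iff.1 hg)
  rw [hW] at hw
  exact mul_mem (zpowers_le.2 x.2 hw) c.2

end Three

/-- The standard three-cycle, embedded. -/
theorem emb_c0_three (h : 9 ≤ n) : (emb h c0).IsThreeCycle := by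
  classical
  unfold Perm.IsThreeCycle
  rw [← show c0.cycleType = {3} by decide +kernel]
  simp only [emb, Perm.viaEmbeddingHom_apply, Perm.viaEmbedding]
  convert Perm.cycleType_extendDomain _

/-- An element of order three over a three-cycle is conjugate to a standard lift. -/
theorem exists_std_lift (h : 9 ≤ n) (c : D.X) (hc : (D.p c).IsThreeCycle) (ho : c ^ 3 = 1) :
    ∃ u : D.X, D.p (u * c * u⁻¹) = emb h c0 ∧ (u * c * u⁻¹) ^ 3 = 1 := by
  classical
  have hct := (emb_c0_three (n := n) h).cycleType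
  obtain ⟨s, hs⟩ := isConj_iff.1 (Perm.isConj_iff_cycleType_eq.2 (hc.cycleType.trans hct.symm))
  obtain ⟨s', hs', hs''⟩ : ∃ s' : Perm (Fin n), Perm.sign s' = 1 ∧ s' * D.p c * s'⁻¹ = emb h c0 := by
    rcases Int.units_eq_one_or (Perm.sign s) with e | e
    · exact ⟨s, e, hs⟩
    · refine ⟨swap (Fin.castLE h 3) (Fin.castLE h 4) * s, ?_, ?_⟩
      · rw [map_mul, e, Perm.sign_swap ((Fin.castLE_injective h).ne (by decide))]; rfl
      · rw [show swap (Fin.castLE h 3) (Fin.castLE h 4) * s * D.p c * (swap (Fin.castLE h 3) (Fin.castLE h 4) * s)⁻¹ =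
          swap (Fin.castLE h 3) (Fin.castLE h 4) * (s * D.p c * s⁻¹) *
            (swap (Fin.castLE h 3) (Fin.castLE h 4))⁻¹ by group, hs, ← emb_swap, ← map_inv, ← map_mul, ← map_mul]
        exact congrArg (emb h) (by decide +kernel)
  obtain ⟨u, rfl⟩ := D.p_surj hs'
  exact ⟨u, by rw [map_mul, map_mul, map_inv, hs''], by rw [conj_pow, ho, mul_one, mul_inv_cancel]⟩

end Ctx

end Cfsg.Agent.DoubleCoverDeg
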