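import Cfsg.Agent.Lib.DoubleCoverDeg.Fusion

/-!
For degree at least twelve the central involution is told apart from its conjugates in the centraliser.
-/

set_option autoImplicit false
set_option linter.style.haveILetI false

namespace Cfsg.Agent.DoubleCoverDeg

open Cfsg Equiv

universe u

section Points

variable {n : ℕ} {σ : Perm (Fin n)}

/-- Enough orbits cover the moved points. -/
theorem near_cover (hσ : σ * σ = 1) {L : List (Fin n)} (hmv : ∀ x ∈ L, σ x ≠ x)
    (hpw : L.Pairwise fun x y => ¬ Near σ x y) (hc : σ.support.card = 2 * L.length) {x : Fin n} (hx : σ x ≠ x) :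
    ∃ y ∈ L, Near σ y x := by
  classical
  have hnd : (L ++ L.map σ).Nodup := by
    have hL : L.Nodup := hpw.imp fun h e => h (Or.inl e.symm)
    refine List.nodup_append.2 ⟨hL, List.Nodup.map σ.injective hL, fun a ha b hb e => ?_⟩
    obtain ⟨c, hc', rfl⟩ := List.mem_map.1 hb
    rcases eq_or_ne a c with rfl | hne
    · exact hmv a ha e.symm
    · haveI : Std.Symm fun x y => ¬ Near σ x y := ⟨fun _ _ h h' => h (h'.symm hσ)⟩
      exact hpw.forall hc' ha hne.symm (Or.inr e)
  have hsupp : (L ++ L.map σ).toFinset = σ.support := by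
    refine Finset.eq_of_subset_of_card_le (fun y hy => ?_) ?_
    · rcases List.mem_append.1 (List.mem_toFinset.1 hy) with h | h
      · exact Perm.mem_support.2 (hmv y h)
      · obtain ⟨c, hc', rfl⟩ := List.mem_map.1 h
        exact Perm.mem_support.2 (moved_apply hσ (hmv c hc'))
    · rw [List.toFinset_card_of_nodup hnd, hc, List.length_append, List.length_map]
      omega
  have := Perm.mem_support.2 hx
  rw [← hsupp, List.mem_toFinset, List.mem_append] at this
  rcases this with h | h
  · exact ⟨x, h, Or.inl rfl⟩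
  · obtain ⟨c, hc', rfl⟩ := List.mem_map.1 h
    exact ⟨c, hc', Or.inr rfl⟩

end Points

namespace Ctx

variable {G : Type u} [Group G] {n : ℕ} (D : Ctx G n)

/-- Two lifts with square and square of the product central anticommute. -/
theorem quat {x y : D.X} (hx : x * x = D.zX) (hy : y * y = D.zX) (hxy : x * y * (x * y) = D.zX) :
    x * y * x⁻¹ * y⁻¹ = D.zX := by
  have e : x * y = D.zX * (y * x) := by
    calc x * y = x * y * (x * y) * (y⁻¹ * x⁻¹) := by group
      _ = D.zX * ((y * y)⁻¹ * y * (x * (x * x)⁻¹)) := by rw [hxy]; group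
      _ = D.zX * (D.zX⁻¹ * (y * x) * D.zX⁻¹) := by rw [hx, hy]; group
      _ = _ := by
        rw [inv_eq_of_mul_eq_one_left D.z_sq, mul_assoc D.zX (y * x), ← D.z_comm (y * x), ← mul_assoc D.zX D.zX,
          D.z_sq, one_mul]
  rw [e]; group

/-- A witness for a non-central involution moving eight points fixes these points. -/
theorem wit_fix {A : D.X} (hσ : D.p A * D.p A = 1) (hk : (D.p A).support.card = 8) {w : D.X}
    (hw : (w : G) ∈ Wit (A : G) D.z) : ∀ i, D.p A i ≠ i → D.p w i = i := by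
  obtain ⟨h3, hwA, -, s, t, sA, sz, sw, tA, tz, tw, est⟩ := hw
  set σ := D.p A with hσdef
  let x : D.X := ⟨s, D.mem_of_commute sz⟩
  let y : D.X := ⟨t, D.mem_of_commute tz⟩
  intro i hi
  by_contra hwi
  set g := D.p w with hgdef
  have cg : Commute g σ := (D.mk_commute.1 hwA).map D.p
  have cgp : ∀ q, g (σ q) = σ (g q) := fun q => DFunLike.congr_fun cg.eq q
  have h3' : ∀ q, g (g (g q)) = q := fun q => by
    have : g ^ 3 = 1 := by rw [hgdef, ← map_pow, show w ^ 3 = 1 from Subtype.ext h3, map_one]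
    have := DFunLike.congr_fun this q
    simpa [pow_succ] using this
  have hfix : ∀ q, Near σ q (g q) → g q = q := by
    intro q h
    rcases h with h | h
    · exact h
    · have := h3' q
      rw [h, cgp, h, apply_apply hσ, h] at this
      rw [h, this]
  have n1 : ¬ Near σ i (g i) := fun h => hwi (hfix i h)
  have n2 : ¬ Near σ (g i) (g (g i)) := fun h => n1 ((Near.apply hσ cg).1 h)
  have n3 : ¬ Near σ i (g (g i)) := fun h => by
    have := (Near.apply hσ cg).2 h
    rw [h3'] at this
    exact n1 (this.symm hσ)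
  have mv : ∀ q, σ q ≠ q → σ (g q) ≠ g q := fun q hq e => hq (g.injective (by rw [cgp, e]))
  obtain ⟨q, hq, hq'⟩ := exists_moved hσ [i, g i, g (g i)] (by simp; omega)
  have q1 := hq' i (by simp); have q2 := hq' (g i) (by simp); have q3 := hq' (g (g i)) (by simp)
  have cov : ∀ r, σ r ≠ r → Near σ i r ∨ Near σ (g i) r ∨ Near σ (g (g i)) r ∨ Near σ q r := by
    intro r hr
    obtain ⟨c, hc, hn⟩ := near_cover hσ (L := [i, g i, g (g i), q])
      (by simpa using ⟨hi, mv _ hi, mv _ (mv _ hi), hq⟩) (by simp [n1, n2, n3, q1, q2, q3]) (by simpa using hk) hr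
    simp only [List.mem_cons, List.not_mem_nil, or_false] at hc
    rcases hc with rfl | rfl | rfl | rfl
    exacts [Or.inl hn, Or.inr (Or.inl hn), Or.inr (Or.inr (Or.inl hn)), Or.inr (Or.inr (Or.inr hn))]
  have gq : g q = q := by
    refine hfix q ?_
    rcases cov (g q) (mv q hq) with h | h | h | h
    · have := (Near.apply hσ cg).2 ((Near.apply hσ cg).2 h)
      rw [h3' q] at this
      exact absurd this q3
    · exact absurd ((Near.apply hσ cg).1 h) q1
    · exact absurd ((Near.apply hσ cg).1 h) q2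
    · exact h
  have orb : ∀ u : D.X, Commute u A → Commute u w →
      D.p u i = i ∨ D.p u i = σ i ∨ D.p u i = g i ∨ D.p u i = σ (g i) ∨ D.p u i = g (g i) ∨
        D.p u i = σ (g (g i)) := by
    intro u huA huw
    have cu : ∀ r, D.p u (σ r) = σ (D.p u r) := fun r => DFunLike.congr_fun (huA.map D.p).eq r
    have cw : ∀ r, D.p u (g r) = g (D.p u r) := fun r => DFunLike.congr_fun (huw.map D.p).eq r
    rcases cov (D.p u i) (fun e => hi ((D.p u).injective (by rw [cu, e]))) with h | h | h | h
    · rcases h with h | h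
      · exact Or.inl h
      · exact Or.inr (Or.inl h)
    · rcases h with h | h
      · exact Or.inr (Or.inr (Or.inl h))
      · exact Or.inr (Or.inr (Or.inr (Or.inl h)))
    · rcases h with h | h
      · exact Or.inr (Or.inr (Or.inr (Or.inr (Or.inl h))))
      · exact Or.inr (Or.inr (Or.inr (Or.inr (Or.inr h))))
    · exfalso
      have : g (D.p u i) = D.p u i := by
        rcases h with h | h <;> rw [h]
        · exact gq
        · rw [cgp, gq]
      rw [← cw] at this
      exact hwi ((D.p u).injective this)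
  have e' : x * y * x⁻¹ * y⁻¹ = A := Subtype.ext est
  rw [mul_inv_eq_iff_eq_mul, mul_inv_eq_iff_eq_mul] at e'
  have e := DFunLike.congr_fun (congrArg D.p e') i
  simp only [map_mul, Perm.mul_apply, ← hσdef] at e
  have xA : Commute x A := D.mk_commute.1 sA
  have yA : Commute y A := D.mk_commute.1 tA
  have xw : Commute x w := D.mk_commute.1 sw
  have yw : Commute y w := D.mk_commute.1 tw
  have cx : ∀ r, D.p x (σ r) = σ (D.p x r) := fun r => DFunLike.congr_fun (xA.map D.p).eq r
  have cy : ∀ r, D.p y (σ r) = σ (D.p y r) := fun r => DFunLike.congr_fun (yA.map D.p).eq r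
  have dx : ∀ r, D.p x (g r) = g (D.p x r) := fun r => DFunLike.congr_fun (xw.map D.p).eq r
  have dy : ∀ r, D.p y (g r) = g (D.p y r) := fun r => DFunLike.congr_fun (yw.map D.p).eq r
  have key : D.p x (D.p y i) = D.p y (D.p x i) := by
    rcases orb x xA xw with a | a | a | a | a | a <;> rcases orb y yA yw with b | b | b | b | b | b <;>
      simp only [a, b, cx, cy, dx, dy, cgp, apply_apply hσ, h3']
  rw [key] at e
  exact hi ((D.p x).injective ((D.p y).injective (by rw [cx, cy]; exact e.symm)))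

/-- A witness for a non-central involution moving eight points is one for the central involution. -/
theorem wit_subset (hn : 5 ≤ n) {A : D.X} (hσ : D.p A * D.p A = 1) (hk : (D.p A).support.card = 8) :
    Wit (A : G) D.z ⊆ Wit D.z (A : G) := by
  intro w hw
  obtain ⟨h3, hwA, hwz, -⟩ := id hw
  let w' : D.X := ⟨w, D.mem_of_commute hwz⟩
  have hf := D.wit_fix hσ hk (w := w') hw
  obtain ⟨u, v, hu, hv, huv, pu, pv⟩ := D.exists_base_pair hn hσ (by omega)
  have cwA : ∀ q, D.p w' (D.p A q) = D.p A (D.p w' q) := fun q =>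
    DFunLike.congr_fun ((D.mk_commute.1 hwA : Commute w' A).map D.p).eq q
  have hc : ∀ x : D.X, (∀ q, D.p x q = q ∨ (D.p A q ≠ q ∧ D.p x q = D.p A q)) → Commute x w' := by
    intro x hx
    refine D.comm_odd (m := 3) (by decide) (Subtype.ext h3) (Equiv.ext fun q => ?_)
    simp only [Perm.mul_apply]
    by_cases hq : D.p A q = q
    · have hq' : D.p A (D.p w' q) = D.p w' q := by rw [← cwA, hq]
      rw [(hx _).resolve_right (fun h => h.1 hq'), (hx q).resolve_right (fun h => h.1 hq)]
    · rw [hf q hq]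
      rcases hx q with e | ⟨-, e⟩
      · rw [e, hf q hq]
      · rw [e, cwA, hf q hq]
  exact ⟨h3, hwz, hwA, u, v, D.z_commute u, D.mk_commute.2 hu, D.mk_commute.2 (hc u pu), D.z_commute v,
    D.mk_commute.2 hv, D.mk_commute.2 (hc v pv), huv⟩

/-- With four fixed points some witness for the central involution is none for the other. -/
theorem exists_wit (hn : 12 ≤ n) {A : D.X} (hσ : D.p A * D.p A = 1) (hk : (D.p A).support.card = 8) :
    ∃ w, w ∈ Wit D.z (A : G) ∧ w ∉ Wit (A : G) D.z := by
  classical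
  set σ := D.p A with hσdef
  obtain ⟨i, hi, -⟩ := exists_moved hσ [] (by rw [List.length_nil]; omega)
  obtain ⟨j, hj, hij⟩ := exists_moved hσ [i] (by simp; omega)
  obtain ⟨l, hl, hl'⟩ := exists_moved hσ [i, j] (by simp; omega)
  have hij := hij i (by simp)
  have hil := hl' i (by simp)
  have hjl := hl' j (by simp)
  obtain ⟨c, hcs, hc3, hcσ, ci, -, -, -, -, -, cfix⟩ := exists_orbit_cycle hσ hi hj hl hij hil hjl
  obtain ⟨w, hw, hw3⟩ := D.lift_odd hcs (m := 3) (by decide) hc3
  have hwA : Commute w A := (D.comm_odd (by decide) hw3 (x := A) (by rw [hw]; exact hcσ.symm)).symm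
  have hfixcard : 4 ≤ σ.supportᶜ.card := by rw [Finset.card_compl, Fintype.card_fin, hk]; omega
  obtain ⟨F, hF, hFc⟩ := Finset.exists_subset_card_eq hfixcard
  obtain ⟨a, b, c', d, hab, hac, had, hbc, hbd, hcd, rfl⟩ : ∃ a b c' d, a ≠ b ∧ a ≠ c' ∧ a ≠ d ∧ b ≠ c' ∧ b ≠ d ∧
      c' ≠ d ∧ F = {a, b, c', d} := Finset.card_eq_four.1 hFc
  have hmem : ∀ {q}, q ∈ ({a, b, c', d} : Finset (Fin n)) → σ q = q := fun hq => by
    have := hF hq
    rwa [Finset.mem_compl, Perm.notMem_support] at this
  have hcfix : ∀ {q}, σ q = q → c q = q := fun {q} hq => by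
    have : ∀ {r}, σ r ≠ r → ¬ Near σ r q := fun hr h => by
      rcases h with rfl | rfl
      · exact hr hq
      · exact hr (σ.injective hq)
    exact cfix q (this hi) (this hj) (this hl)
  obtain ⟨v1, hv1⟩ := D.p_surj (sign_dbl ⟨a, b, c', d, by simp [*], rfl⟩)
  obtain ⟨v2, hv2⟩ := D.p_surj (sign_dbl ⟨a, c', b, d, by simp [*, Ne.symm hbc], rfl⟩)
  have s1 : v1 * v1 = D.zX := D.sq_double (by omega) ⟨a, b, c', d, by simp [*], hv1⟩
  have s2 : v2 * v2 = D.zX := D.sq_double (by omega) ⟨a, c', b, d, by simp [*, Ne.symm hbc], hv2⟩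
  have s12 : v1 * v2 * (v1 * v2) = D.zX := D.sq_double (by omega) ⟨a, d, b, c', by
    simp [*, Ne.symm hcd, Ne.symm hbd], by
    rw [map_mul, hv1, hv2]
    refine Equiv.ext fun t => ?_
    simp only [Perm.mul_apply, swap_apply_def]
    grind⟩
  have m : ∀ {q}, q ∈ [a, b, c', d] ∨ q ∈ [a, c', b, d] → σ q = q := fun {q} hq => hmem (by
    simp only [List.mem_cons, List.not_mem_nil, or_false, Finset.mem_insert, Finset.mem_singleton] at hq ⊢
    tauto)
  have c1A : Commute v1 A := D.comm_dbl (by simp [*]) hv1 fun t ht => m (Or.inl ht)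
  have c2A : Commute v2 A := D.comm_dbl (by simp [*, Ne.symm hbc]) hv2 fun t ht => m (Or.inr ht)
  have c1w : Commute v1 w := D.comm_dbl (by simp [*]) hv1 fun t ht => by rw [hw]; exact hcfix (m (Or.inl ht))
  have c2w : Commute v2 w := D.comm_dbl (by simp [*, Ne.symm hbc]) hv2 fun t ht => by
    rw [hw]; exact hcfix (m (Or.inr ht))
  refine ⟨w, ⟨congrArg Subtype.val hw3, D.z_commute w, D.mk_commute.2 hwA, v1, v2, D.z_commute v1,
    D.mk_commute.2 c1A, D.mk_commute.2 c1w, D.z_commute v2, D.mk_commute.2 c2A, D.mk_commute.2 c2w,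
    congrArg Subtype.val (D.quat s1 s2 s12)⟩, fun h => ?_⟩
  have := D.wit_fix hσ hk h i hi
  rw [hw, ci] at this
  exact hij (Or.inl this)

/-- **The degree is less than twelve.** -/
theorem lt_twelve (D : Ctx G n) [Finite G] [IsSimpleGroup G] (hn : 5 ≤ n) : n < 12 := by
  by_contra h12
  push Not at h12
  obtain ⟨g, hg, hne⟩ := D.exists_fused hn
  have hz2 : D.z * D.z = 1 := congrArg Subtype.val D.z_sq
  have mk : ∀ h : G, Commute D.z (h * D.z * h⁻¹) → h * D.z * h⁻¹ ≠ D.z →
      ∃ B : D.X, (B : G) = h * D.z * h⁻¹ ∧ D.p B * D.p B = 1 ∧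
        ((D.p B).support.card = 8 ∨ 10 ≤ (D.p B).support.card) := by
    intro h hc hne
    let B : D.X := ⟨h * D.z * h⁻¹, D.mem_of_commute hc.symm⟩
    have hB : B * B = 1 := Subtype.ext (by
      show h * D.z * h⁻¹ * (h * D.z * h⁻¹) = 1
      rw [show h * D.z * h⁻¹ * (h * D.z * h⁻¹) = h * (D.z * D.z) * h⁻¹ by group, hz2]
      group)
    have h1 : B ≠ 1 := fun e => D.z_ne (Subtype.ext (conj_eq_one_iff.1 (congrArg Subtype.val e)))
    obtain ⟨⟨r, hr⟩, h8⟩ := D.invol_card hn hB h1 (fun e => hne (congrArg Subtype.val e))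
    exact ⟨B, rfl, D.p_invol hB, by omega⟩
  obtain ⟨B, hBe, hBσ, hBk⟩ := mk g hg hne
  obtain ⟨A, hAe, hAσ, hAk⟩ := mk g⁻¹ (by
      have := hg.map (MulAut.conj g⁻¹)
      simpa [mul_assoc] using this.symm) (fun e => hne (by
      conv_lhs => rw [← e]
      group))
  have ez : MulAut.conj g D.z = (B : G) := hBe.symm
  have ea : MulAut.conj g (A : G) = D.z := by rw [hAe, MulAut.conj_apply]; group
  have phiA : (D.p A).support.card = 8 := hAk.resolve_right fun h10 => by
    have hp := (D.phi_z hn hBσ (by omega)).map (MulAut.conj g⁻¹)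
    rw [show MulAut.conj g⁻¹ (B : G) = D.z by rw [hBe, MulAut.conj_apply]; group,
      show MulAut.conj g⁻¹ D.z = (A : G) from hAe.symm] at hp
    exact D.not_phi hn hAσ h10 hp
  have phiB : (D.p B).support.card = 8 := hBk.resolve_right fun h10 => by
    have hp := (D.phi_z hn hAσ (by omega)).map (MulAut.conj g)
    rw [ez, ea] at hp
    exact D.not_phi hn hBσ h10 hp
  have e1 : (Wit D.z (B : G)).ncard = (Wit (A : G) D.z).ncard := by
    rw [← ncard_wit_conj g (A : G) D.z, ea, ez]
  have e2 : (Wit (B : G) D.z).ncard = (Wit D.z (A : G)).ncard := by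
    rw [← ncard_wit_conj g D.z (A : G), ea, ez]
  obtain ⟨w, hw, hw'⟩ := D.exists_wit h12 hAσ phiA
  have lt : (Wit (A : G) D.z).ncard < (Wit D.z (A : G)).ncard := Set.ncard_lt_ncard
    ⟨D.wit_subset hn hAσ phiA, fun h => hw' (h hw)⟩ (Set.toFinite _)
  have le : (Wit (B : G) D.z).ncard ≤ (Wit D.z (B : G)).ncard :=
    Set.ncard_le_ncard (D.wit_subset hn hBσ phiB) (Set.toFinite _)
  omega

end Ctx

end Cfsg.Agent.DoubleCoverDeg
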